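import Mathlib

set_option autoImplicit false

namespace Cfsg.Agent.Lib.Helper4

open Equiv Equiv.Perm

/-- Every cycle of left multiplication by `g` has length `orderOf g`. -/
theorem mem_cycleType_toPerm {G : Type*} [Group G] [Fintype G] [DecidableEq G] (g : G) {n : ℕ}
    (hn : n ∈ (MulAction.toPerm g : Equiv.Perm G).cycleType) : n = orderOf g := by
  set σ : Equiv.Perm G := MulAction.toPerm g with hσ
  have hdvd : n ∣ orderOf σ := dvd_of_mem_cycleType hn
  have hσpow : ∀ k : ℕ, ∀ x : G, (σ ^ k) x = g ^ k * x := by
    intro k
    induction k with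
    | zero => intro x; simp
    | succ k ih =>
      intro x
      rw [pow_succ, Equiv.Perm.mul_apply, ih, pow_succ, mul_assoc]
      rfl
  have hord : orderOf σ ∣ orderOf g := by
    apply orderOf_dvd_of_pow_eq_one
    ext x
    rw [hσpow, pow_orderOf_eq_one, one_mul]
    rfl
  obtain ⟨c, τ, hcτ, hdisj, hc, hcard⟩ := mem_cycleType_iff.1 hn
  have hcn : c ^ n = 1 := by
    rw [← hcard, ← hc.orderOf, pow_orderOf_eq_one]
  obtain ⟨x, hx⟩ := hc.nonempty_support
  have hτx : τ x = x := by
    have := hdisj.disjoint_support
    rw [Finset.disjoint_left] at this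
    have := this hx
    rwa [Equiv.Perm.mem_support, not_not] at this
  have hτn : (τ ^ n) x = x := by
    have : ∀ k : ℕ, (τ ^ k) x = x := by
      intro k
      induction k with
      | zero => simp
      | succ k ih => rw [pow_succ, Equiv.Perm.mul_apply, hτx, ih]
    exact this n
  have hσn : (σ ^ n) x = x := by
    rw [hcτ, hdisj.commute.mul_pow, Equiv.Perm.mul_apply, hτn, hcn]
    rfl
  rw [hσpow] at hσn
  have hgn : g ^ n = 1 := by
    have := congrArg (· * x⁻¹) hσn
    simpa using this
  exact Nat.dvd_antisymm (hdvd.trans hord) (orderOf_dvd_of_pow_eq_one hgn)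

theorem support_toPerm {G : Type*} [Group G] [Fintype G] [DecidableEq G] (g : G) (hg : g ≠ 1) :
    (MulAction.toPerm g : Equiv.Perm G).support = Finset.univ := by
  ext x
  simp only [Equiv.Perm.mem_support, Finset.mem_univ, iff_true]
  intro h
  apply hg
  have : g * x = x := h
  have := congrArg (· * x⁻¹) this
  simpa using this

/-- The sign of left multiplication by `g ≠ 1` on a finite group. -/
theorem sign_toPerm {G : Type*} [Group G] [Fintype G] [DecidableEq G] (g : G) (hg : g ≠ 1) :
    Equiv.Perm.sign (MulAction.toPerm g : Equiv.Perm G) =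
      (-1 : ℤˣ) ^ (Fintype.card G + Fintype.card G / orderOf g) := by
  set σ : Equiv.Perm G := MulAction.toPerm g with hσ
  have hrep : σ.cycleType = Multiset.replicate (Multiset.card σ.cycleType) (orderOf g) :=
    Multiset.eq_replicate_card.2 (fun n hn => mem_cycleType_toPerm g hn)
  have hsum : σ.cycleType.sum = Fintype.card G := by
    rw [sum_cycleType, support_toPerm g hg, Finset.card_univ]
  have hcard : Multiset.card σ.cycleType = Fintype.card G / orderOf g := by
    have h1 := hsum
    rw [hrep, Multiset.sum_replicate, smul_eq_mul] at h1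
    rw [← h1, Nat.mul_div_cancel _ (orderOf_pos g)]
  rw [sign_of_cycleType, hsum, hcard]

/-- If `g` has even order and `|G| / orderOf g` is odd then the sign character of the
regular representation takes value `-1` at `g`; hence there is a subgroup of index `2`. -/
theorem exists_index_two_of_elt {G : Type*} [Group G] [Finite G] (g : G)
    (heven : Even (orderOf g)) (hodd : Odd (Nat.card G / orderOf g)) :
    ∃ H : Subgroup G, H.index = 2 := by
  classical
  haveI := Fintype.ofFinite G
  have hg : g ≠ 1 := by
    rintro rfl
    simp at heven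
  let f : G →* ℤˣ := Equiv.Perm.sign.comp (MulAction.toPermHom G G)
  have hfg : f g = -1 := by
    show Equiv.Perm.sign (MulAction.toPerm g : Equiv.Perm G) = -1
    rw [sign_toPerm g hg]
    have hdvd : orderOf g ∣ Fintype.card G := orderOf_dvd_card
    have hev : Even (Fintype.card G) := heven.trans_dvd hdvd
    rw [Nat.card_eq_fintype_card] at hodd
    have : Odd (Fintype.card G + Fintype.card G / orderOf g) := hev.add_odd hodd
    exact this.neg_one_pow
  refine ⟨f.ker, ?_⟩
  rw [Subgroup.index_ker]
  have h1 : Nat.card f.range ∣ 2 := by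
    have := Subgroup.card_subgroup_dvd_card f.range
    simpa using this
  have h2 : Nat.card f.range ≠ 1 := by
    intro h
    rw [Subgroup.card_eq_one] at h
    have hm : f g ∈ f.range := ⟨g, rfl⟩
    rw [h, Subgroup.mem_bot, hfg] at hm
    exact absurd hm (by decide)
  rcases (Nat.dvd_prime Nat.prime_two).1 h1 with h | h
  · exact absurd h h2
  · exact h

end Cfsg.Agent.Lib.Helper4
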