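import Mathlib

/-! The Klein four-group `{1, x, y, xy}` generated by two distinct commuting involutions. -/

namespace Cfsg.Agent.Lib.Helper4

variable {G : Type*} [Group G]

/-- The subgroup `{1, x, y, xy}` for commuting involutions. -/
def kleinOf {x y : G} (hx : x * x = 1) (hy : y * y = 1) (hxy : x * y = y * x) : Subgroup G where
  carrier := {1, x, y, x * y}
  one_mem' := by simp
  mul_mem' := by
    have h1 : x * (x * y) = y := by rw [← mul_assoc, hx, one_mul]
    have h2 : y * (x * y) = x := by rw [hxy, ← mul_assoc, hy, one_mul]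
    have h3 : x * y * x = y := by rw [hxy, mul_assoc, hx, mul_one]
    have h4 : x * y * y = x := by rw [mul_assoc, hy, mul_one]
    have h5 : x * y * (x * y) = 1 := by rw [← mul_assoc, h3, hy]
    rintro a b (rfl | rfl | rfl | rfl) (rfl | rfl | rfl | rfl) <;>
      simp [hx, hy, h1, h2, h3, h4, h5, ← hxy]
  inv_mem' := by
    have hxi : x⁻¹ = x := inv_eq_of_mul_eq_one_right hx
    have hyi : y⁻¹ = y := inv_eq_of_mul_eq_one_right hy
    rintro a (rfl | rfl | rfl | rfl) <;> simp [hxi, hyi, ← hxy]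

theorem mem_kleinOf {x y : G} (hx : x * x = 1) (hy : y * y = 1) (hxy : x * y = y * x) (g : G) :
    g ∈ kleinOf hx hy hxy ↔ g = 1 ∨ g = x ∨ g = y ∨ g = x * y := Iff.rfl

theorem left_mem_kleinOf {x y : G} (hx : x * x = 1) (hy : y * y = 1) (hxy : x * y = y * x) :
    x ∈ kleinOf hx hy hxy := Or.inr (Or.inl rfl)

theorem right_mem_kleinOf {x y : G} (hx : x * x = 1) (hy : y * y = 1) (hxy : x * y = y * x) :
    y ∈ kleinOf hx hy hxy := Or.inr (Or.inr (Or.inl rfl))

theorem kleinOf_sq {x y : G} (hx : x * x = 1) (hy : y * y = 1)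
    (hxy : x * y = y * x) (g : G) (hg : g ∈ kleinOf hx hy hxy) : g * g = 1 := by
  have h3 : x * y * x = y := by rw [hxy, mul_assoc, hx, mul_one]
  have h5 : x * y * (x * y) = 1 := by rw [← mul_assoc, h3, hy]
  rcases hg with rfl | rfl | rfl | rfl <;> simp [hx, hy, h5]

theorem card_kleinOf {x y : G} (hx : x * x = 1) (hy : y * y = 1)
    (hxy : x * y = y * x) (hx1 : x ≠ 1) (hy1 : y ≠ 1) (hne : x ≠ y) :
    Nat.card (kleinOf hx hy hxy) = 4 := by
  classical
  have hxy1 : x * y ≠ 1 := by
    intro h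
    apply hne
    have : x * y = x * x := by rw [h, hx]
    exact (mul_left_cancel this).symm
  have hxyx : x * y ≠ x := by
    intro h
    apply hy1
    have : x * y = x * 1 := by rw [h, mul_one]
    exact mul_left_cancel this
  have hxyy : x * y ≠ y := by
    intro h
    apply hx1
    have : x * y = 1 * y := by rw [h, one_mul]
    exact mul_right_cancel this
  have : ((kleinOf hx hy hxy : Subgroup G) : Set G) = ↑({1, x, y, x * y} : Finset G) := by
    ext g; simp [kleinOf]
  rw [← SetLike.coe_sort_coe, this, Nat.card_coe_set_eq, Set.ncard_coe_finset]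
  rw [Finset.card_insert_of_notMem, Finset.card_insert_of_notMem, Finset.card_insert_of_notMem,
    Finset.card_singleton]
  · simp [hxyy.symm]
  · simp [hne, hxyx.symm]
  · simp [hx1.symm, hy1.symm, hxy1.symm]

theorem isKleinFour_kleinOf {x y : G} (hx : x * x = 1) (hy : y * y = 1)
    (hxy : x * y = y * x) (hx1 : x ≠ 1) (hy1 : y ≠ 1) (hne : x ≠ y) :
    IsKleinFour (kleinOf hx hy hxy) := by
  refine ⟨card_kleinOf hx hy hxy hx1 hy1 hne, ?_⟩
  have h1 : Monoid.exponent (kleinOf hx hy hxy) ∣ 2 := by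
    rw [Monoid.exponent_dvd_iff_forall_pow_eq_one]
    rintro ⟨t, ht⟩
    apply Subtype.ext
    simp only [Subgroup.coe_one, sq]
    exact kleinOf_sq hx hy hxy t ht
  rcases (Nat.dvd_prime Nat.prime_two).mp h1 with h2 | h2
  · exfalso
    rw [Monoid.exp_eq_one_iff] at h2
    have : Nat.card (kleinOf hx hy hxy) ≤ 1 := Finite.card_le_one_iff_subsingleton.mpr h2
    have := card_kleinOf hx hy hxy hx1 hy1 hne
    omega
  · exact h2

end Cfsg.Agent.Lib.Helper4
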