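import Mathlib
import Cfsg.Prelude.Def_ClassicalGeometry
import Cfsg.Agent.Lib.Helper99.SympForm
import Cfsg.Agent.Lib.Helper99.JordanInv

set_option autoImplicit false

/-! Vocabulary for the S5956 hive (helper4): nondegenerate invariant subspaces of isometries of an
alternating space.  `Nd`, `dker`, `sympB` are helper99's (`Cfsg.Agent.Lib.Helper99`). -/

namespace Cfsg.Agent.Lib.Helper4.NdH

open Cfsg.Agent.Lib.Helper99 (Nd dker sympB)

section defs

variable {F V : Type*} [Field F] [AddCommGroup V] [Module F V]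

/-- alternating form -/
def Alt (B : V →ₗ[F] V →ₗ[F] F) : Prop := ∀ v, B v v = 0

/-- `g` is an isometry of `B` -/
def Isom (B : V →ₗ[F] V →ₗ[F] F) (g : V →ₗ[F] V) : Prop := ∀ u v, B (g u) (g v) = B u v

/-- `W` is `g`-invariant -/
def Inv (g : V →ₗ[F] V) (W : Submodule F V) : Prop := ∀ w ∈ W, g w ∈ W

/-- `X` and `Y` are orthogonal -/
def Perp (B : V →ₗ[F] V →ₗ[F] F) (X Y : Submodule F V) : Prop := ∀ x ∈ X, ∀ y ∈ Y, B x y = 0

/-- the (right) orthogonal complement `{v | ∀ w ∈ W, B w v = 0}` -/
def orth (B : V →ₗ[F] V →ₗ[F] F) (W : Submodule F V) : Submodule F V where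
  carrier := {v | ∀ w ∈ W, B w v = 0}
  add_mem' := by
    intro a b ha hb w hw
    rw [map_add, ha w hw, hb w hw, add_zero]
  zero_mem' := by
    intro w _
    rw [map_zero]
  smul_mem' := by
    intro c a ha w hw
    rw [map_smul, ha w hw, smul_zero]

theorem mem_orth (B : V →ₗ[F] V →ₗ[F] F) (W : Submodule F V) (v : V) :
    v ∈ orth B W ↔ ∀ w ∈ W, B w v = 0 := Iff.rfl

/-- `g` has an invariant nondegenerate subspace of dimension `m` -/
def Good (B : V →ₗ[F] V →ₗ[F] F) (g : V →ₗ[F] V) (m : ℕ) : Prop :=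
  ∃ W : Submodule F V, Module.finrank F W = m ∧ Nd B W ∧ Inv g W

/-- `T` (nilpotent) has Jordan type `μ`:  `dim ker T^k = Σ_{b ∈ μ} min b k` for all `k` -/
def HasType (T : Module.End F V) (μ : Multiset ℕ) : Prop :=
  ∀ k, dker T k = (μ.map (fun b => min b k)).sum

end defs

/-- admissible multisets: odd parts have even multiplicity -/
def Adm (μ : Multiset ℕ) : Prop := ∀ a : ℕ, Odd a → Even (μ.count a)

/-- the multiset of a piece of size `e`: `{e}` for even `e`, `{e, e}` for odd `e` -/
def pc (e : ℕ) : Multiset ℕ := if Even e then {e} else {e, e}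

/-- the dimension of a piece of size `e` -/
def pdim (e : ℕ) : ℕ := if Even e then e else 2 * e

/-- `c = i` for even `i`, `c = 2 i` for odd `i` -/
def cOf (i : ℕ) : ℕ := if Even i then i else 2 * i

section pieces

variable {F V : Type*} [Field F] [AddCommGroup V] [Module F V]

/-- An orthogonal decomposition of `V` into `u`-invariant pieces; the piece `P j` is a single Jordan
block of even size `e j`, or the sum of two Jordan blocks of odd size `e j` (expressed through the
dimensions of `P j ⊓ ker (u - 1)^k`). -/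
structure Pieces (B : V →ₗ[F] V →ₗ[F] F) (u : V →ₗ[F] V) (t : ℕ) (P : Fin t → Submodule F V)
    (e : Fin t → ℕ) : Prop where
  indep : iSupIndep P
  top : iSup P = ⊤
  perp : ∀ j j', j ≠ j' → Perp B (P j) (P j')
  inv : ∀ j, Inv u (P j)
  pos : ∀ j, 0 < e j
  ker : ∀ j k, Module.finrank F ↥(P j ⊓ LinearMap.ker ((u - 1 : Module.End F V) ^ k)) =
    if Even (e j) then min (e j) k else 2 * min (e j) k

end pieces

end Cfsg.Agent.Lib.Helper4.NdH
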