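import Mathlib

set_option autoImplicit false

namespace Cfsg.Agent.Lib.Helper4

section Basic
variable {G : Type*} [Group G]

theorem orderOf_two_iff (t : G) : orderOf t = 2 ↔ t ≠ 1 ∧ t * t = 1 := by
  constructor
  · intro h
    refine ⟨?_, ?_⟩
    · rintro rfl; simp at h
    · have := pow_orderOf_eq_one t
      rwa [h, pow_two] at this
  · rintro ⟨h1, h2⟩
    apply orderOf_eq_prime
    · rw [pow_two]; exact h2
    · exact h1

theorem mul_self_of_orderOf_two {t : G} (h : orderOf t = 2) : t * t = 1 :=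
  ((orderOf_two_iff t).1 h).2

theorem ne_one_of_orderOf_two {t : G} (h : orderOf t = 2) : t ≠ 1 :=
  ((orderOf_two_iff t).1 h).1

theorem inv_eq_self_of_orderOf_two {t : G} (h : orderOf t = 2) : t⁻¹ = t :=
  inv_eq_of_mul_eq_one_left (mul_self_of_orderOf_two h)

theorem inv_eq_self_of_mul_self {t : G} (h : t * t = 1) : t⁻¹ = t :=
  inv_eq_of_mul_eq_one_left h

end Basic

section Pair
variable {G : Type*} [Group G] {x y : G}

/-- `x * (x*y) = (x*y)⁻¹ * x` for `x*x = 1`, `y*y = 1`. -/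
theorem x_mul_a (hx : x * x = 1) (hy : y * y = 1) : x * (x * y) = (x * y)⁻¹ * x := by
  rw [mul_inv_rev, inv_eq_self_of_mul_self hx, inv_eq_self_of_mul_self hy, ← mul_assoc, hx, one_mul,
    mul_assoc, hx, mul_one]

theorem x_mul_a_inv (hx : x * x = 1) (hy : y * y = 1) : x * (x * y)⁻¹ = (x * y) * x := by
  rw [mul_inv_rev, inv_eq_self_of_mul_self hx, inv_eq_self_of_mul_self hy, mul_assoc]

theorem x_mul_a_zpow (hx : x * x = 1) (hy : y * y = 1) (j : ℤ) :
    x * (x * y) ^ j = (x * y) ^ (-j) * x := by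
  induction j using Int.induction_on with
  | zero => simp
  | succ i ih =>
    rw [zpow_add_one, ← mul_assoc, ih, mul_assoc, x_mul_a hx hy, ← mul_assoc, neg_add,
      zpow_add, zpow_neg_one]
  | pred i ih =>
    rw [zpow_sub_one, ← mul_assoc, ih, mul_assoc, x_mul_a_inv hx hy, ← mul_assoc, neg_sub,
      sub_neg_eq_add, add_comm, zpow_add_one, neg_neg]

/-- `y = (x*y)⁻¹ * x`-/
theorem y_eq_a_inv_mul_x (hx : x * x = 1) (hy : y * y = 1) : y = (x * y) ^ (-1 : ℤ) * x := by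
  rw [zpow_neg_one, mul_inv_rev, inv_eq_self_of_mul_self hx, inv_eq_self_of_mul_self hy,
    mul_assoc, hx, mul_one]

/-- Normal form of elements of `⟨x, y⟩` for involutions `x`, `y`. -/
theorem mem_closure_pair_iff (hx : x * x = 1) (hy : y * y = 1) (d : G) :
    d ∈ Subgroup.closure ({x, y} : Set G) ↔
      (∃ j : ℤ, d = (x * y) ^ j) ∨ (∃ j : ℤ, d = (x * y) ^ j * x) := by
  constructor
  · intro hd
    induction hd using Subgroup.closure_induction with
    | mem z hz =>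
      rcases hz with rfl | hz
      · exact Or.inr ⟨0, by simp⟩
      · rw [Set.mem_singleton_iff] at hz
        subst hz
        exact Or.inr ⟨-1, y_eq_a_inv_mul_x hx hy⟩
    | one => exact Or.inl ⟨0, by simp⟩
    | mul a b _ _ ha hb =>
      rcases ha with ⟨i, rfl⟩ | ⟨i, rfl⟩ <;> rcases hb with ⟨j, rfl⟩ | ⟨j, rfl⟩
      · exact Or.inl ⟨i + j, by rw [zpow_add]⟩
      · exact Or.inr ⟨i + j, by rw [zpow_add, mul_assoc]⟩
      · exact Or.inr ⟨i - j, by rw [mul_assoc, x_mul_a_zpow hx hy, ← mul_assoc, ← zpow_add, sub_eq_add_neg]⟩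
      · refine Or.inl ⟨i - j, ?_⟩
        rw [mul_assoc, ← mul_assoc x, x_mul_a_zpow hx hy, mul_assoc _ x x, hx, mul_one, ← zpow_add,
          sub_eq_add_neg]
    | inv a _ ha =>
      rcases ha with ⟨i, rfl⟩ | ⟨i, rfl⟩
      · exact Or.inl ⟨-i, by rw [zpow_neg]⟩
      · refine Or.inr ⟨i, ?_⟩
        rw [mul_inv_rev, inv_eq_self_of_mul_self hx, ← zpow_neg, x_mul_a_zpow hx hy, neg_neg]
  · have hxm : x ∈ Subgroup.closure ({x, y} : Set G) := Subgroup.subset_closure (by simp)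
    have hym : y ∈ Subgroup.closure ({x, y} : Set G) := Subgroup.subset_closure (by simp)
    rintro (⟨j, rfl⟩ | ⟨j, rfl⟩)
    · exact Subgroup.zpow_mem _ (Subgroup.mul_mem _ hxm hym) j
    · exact Subgroup.mul_mem _ (Subgroup.zpow_mem _ (Subgroup.mul_mem _ hxm hym) j) hxm

/-- Conjugates of `x` under `⟨x, y⟩`. -/
theorem conj_x_of_mem_closure (hx : x * x = 1) (hy : y * y = 1) {d : G}
    (hd : d ∈ Subgroup.closure ({x, y} : Set G)) :
    ∃ j : ℤ, d * x * d⁻¹ = (x * y) ^ (2 * j) * x := by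
  rcases (mem_closure_pair_iff hx hy d).1 hd with ⟨j, rfl⟩ | ⟨j, rfl⟩
  · refine ⟨j, ?_⟩
    rw [← zpow_neg, mul_assoc, x_mul_a_zpow hx hy, neg_neg, ← mul_assoc, ← zpow_add, two_mul]
  · refine ⟨j, ?_⟩
    rw [mul_inv_rev, inv_eq_self_of_mul_self hx, ← zpow_neg, mul_assoc _ x x, hx, mul_one,
      x_mul_a_zpow hx hy, neg_neg, ← mul_assoc, ← zpow_add, two_mul]

theorem conj_x_by_zpow (hx : x * x = 1) (hy : y * y = 1) (j : ℤ) :
    (x * y) ^ j * x * ((x * y) ^ j)⁻¹ = (x * y) ^ (2 * j) * x := by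
  rw [← zpow_neg, mul_assoc, x_mul_a_zpow hx hy, neg_neg, ← mul_assoc, ← zpow_add, two_mul]

end Pair

end Cfsg.Agent.Lib.Helper4
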