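import Cfsg.Agent.Lib.Helper15.HqDefs

/-! # HQ-ALT (Hq hive, helper15): the alternating model involution of rank `2 r` in characteristic 2 -/

set_option autoImplicit false

namespace Cfsg.Agent.Lib.Helper15.Hq

open Module
open Cfsg.Agent.Lib.Helper8 (plusForm IsInvIso nilPart)

section char2

variable {F : Type*} [Field F]

local notation "VV" d => (Fin d ⊕ Fin d → F)

/-- the partner of `i` in its pair `{2k, 2k+1}` (for `i < 2 r`), `i` itself otherwise -/
def alt_par (d r : ℕ) (hr : 2 * r ≤ d) (i : Fin d) : Fin d :=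
  if h : i.val < 2 * r then
    ⟨if i.val % 2 = 0 then i.val + 1 else i.val - 1, by
      have := i.isLt
      split_ifs <;> omega⟩
  else i

theorem alt_par_val (d r : ℕ) (hr : 2 * r ≤ d) (i : Fin d) (h : i.val < 2 * r) :
    (alt_par d r hr i).val = if i.val % 2 = 0 then i.val + 1 else i.val - 1 := by
  unfold alt_par
  rw [dif_pos h]

theorem alt_par_of_ge (d r : ℕ) (hr : 2 * r ≤ d) (i : Fin d) (h : ¬ i.val < 2 * r) :
    alt_par d r hr i = i := by
  unfold alt_par
  rw [dif_neg h]

theorem alt_par_lt (d r : ℕ) (hr : 2 * r ≤ d) (i : Fin d) (h : i.val < 2 * r) :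
    (alt_par d r hr i).val < 2 * r := by
  rw [alt_par_val d r hr i h]
  split_ifs <;> omega

theorem alt_par_invol (d r : ℕ) (hr : 2 * r ≤ d) (i : Fin d) :
    alt_par d r hr (alt_par d r hr i) = i := by
  by_cases h : i.val < 2 * r
  · have h' := alt_par_lt d r hr i h
    apply Fin.ext
    rw [alt_par_val d r hr _ h', alt_par_val d r hr i h]
    split_ifs <;> omega
  · rw [alt_par_of_ge d r hr i h, alt_par_of_ge d r hr i h]

theorem alt_par_ne (d r : ℕ) (hr : 2 * r ≤ d) (i : Fin d) (h : i.val < 2 * r) :
    alt_par d r hr i ≠ i := by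
  intro he
  have := congrArg Fin.val he
  rw [alt_par_val d r hr i h] at this
  split_ifs at this <;> omega

theorem alt_par_div (d r : ℕ) (hr : 2 * r ≤ d) (i : Fin d) (h : i.val < 2 * r) :
    (alt_par d r hr i).val / 2 = i.val / 2 := by
  rw [alt_par_val d r hr i h]
  split_ifs <;> omega

/-- the nilpotent part `N` of the model -/
def alt_N (d r : ℕ) (hr : 2 * r ≤ d) : (VV d) →ₗ[F] (VV d) where
  toFun v := Sum.elim (fun i => if i.val < 2 * r then v (Sum.inr (alt_par d r hr i)) else 0)
    (fun _ => 0)
  map_add' u v := by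
    funext j
    rcases j with i | i
    · simp only [Sum.elim_inl, Pi.add_apply]
      split_ifs <;> simp
    · simp
  map_smul' c v := by
    funext j
    rcases j with i | i
    · simp only [Sum.elim_inl, Pi.smul_apply, RingHom.id_apply, smul_eq_mul]
      split_ifs <;> simp
    · simp

theorem alt_N_inl (d r : ℕ) (hr : 2 * r ≤ d) (v : VV d) (i : Fin d) :
    alt_N (F := F) d r hr v (Sum.inl i)
      = if i.val < 2 * r then v (Sum.inr (alt_par d r hr i)) else 0 := rfl

theorem alt_N_inr (d r : ℕ) (hr : 2 * r ≤ d) (v : VV d) (i : Fin d) :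
    alt_N (F := F) d r hr v (Sum.inr i) = 0 := rfl

theorem alt_plusForm_apply (d : ℕ) (v : VV d) :
    plusForm d F v = ∑ i : Fin d, v (Sum.inl i) * v (Sum.inr i) := by
  rw [← Cfsg.Agent.Lib.Helper8.plusForm_coe]
  rfl

theorem alt_sum_zero (h2 : (2 : F) = 0) (d r : ℕ) (hr : 2 * r ≤ d) (v : VV d) :
    ∑ i : Fin d, (if i.val < 2 * r then v (Sum.inr (alt_par d r hr i)) else 0) * v (Sum.inr i)
      = 0 := by
  apply Finset.sum_involution (fun i _ => alt_par d r hr i)
  · intro i _
    by_cases h : i.val < 2 * r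
    · have h' := alt_par_lt d r hr i h
      rw [if_pos h, if_pos h', alt_par_invol]
      linear_combination (v (Sum.inr (alt_par d r hr i)) * v (Sum.inr i)) * h2
    · rw [alt_par_of_ge d r hr i h]
      simp [h]
  · intro i _ hne
    by_cases h : i.val < 2 * r
    · exact alt_par_ne d r hr i h
    · rw [if_neg h] at hne
      simp at hne
  · intro i _
    exact Finset.mem_univ _
  · intro i _
    exact alt_par_invol d r hr i

/-- the model involution `t = 1 + N` -/
def alt_t (d r : ℕ) (hr : 2 * r ≤ d) : (VV d) →ₗ[F] (VV d) := LinearMap.id + alt_N d r hr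

theorem alt_t_inl (d r : ℕ) (hr : 2 * r ≤ d) (v : VV d) (i : Fin d) :
    alt_t (F := F) d r hr v (Sum.inl i)
      = v (Sum.inl i) + if i.val < 2 * r then v (Sum.inr (alt_par d r hr i)) else 0 := rfl

theorem alt_t_inr (d r : ℕ) (hr : 2 * r ≤ d) (v : VV d) (i : Fin d) :
    alt_t (F := F) d r hr v (Sum.inr i) = v (Sum.inr i) := by
  show v (Sum.inr i) + 0 = v (Sum.inr i)
  rw [add_zero]

theorem alt_isInvIso (h2 : (2 : F) = 0) (d r : ℕ) (hr : 2 * r ≤ d) :
    IsInvIso (plusForm d F) (alt_t (F := F) d r hr) := by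
  constructor
  · intro v
    rw [alt_plusForm_apply, alt_plusForm_apply]
    have : ∀ i : Fin d, (alt_t (F := F) d r hr v) (Sum.inl i)
          * (alt_t (F := F) d r hr v) (Sum.inr i)
        = v (Sum.inl i) * v (Sum.inr i)
          + (if i.val < 2 * r then v (Sum.inr (alt_par d r hr i)) else 0) * v (Sum.inr i) := by
      intro i
      rw [alt_t_inl, alt_t_inr]
      ring
    simp only [this]
    rw [Finset.sum_add_distrib, alt_sum_zero h2, add_zero]
  · intro v
    funext j
    rcases j with i | i
    · rw [alt_t_inl]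
      simp only [alt_t_inl, alt_t_inr]
      split_ifs
      · linear_combination (v (Sum.inr (alt_par d r hr i))) * h2
      · simp
    · rw [alt_t_inr, alt_t_inr]

theorem alt_nilPart (d r : ℕ) (hr : 2 * r ≤ d) :
    nilPart (alt_t (F := F) d r hr) = alt_N (F := F) d r hr := by
  unfold nilPart alt_t
  abel

theorem alt_finrank_range (d r : ℕ) (hr : 2 * r ≤ d) :
    finrank F (LinearMap.range (alt_N (F := F) d r hr)) = 2 * r := by
  let ι : (Fin (2 * r) → F) →ₗ[F] (VV d) :=
    { toFun := fun g => Sum.elim (fun i => if h : i.val < 2 * r then g ⟨i.val, h⟩ else 0)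
        (fun _ => 0)
      map_add' := by
        intro g g'
        funext j
        rcases j with i | i
        · simp only [Sum.elim_inl, Pi.add_apply]
          split_ifs <;> simp
        · simp
      map_smul' := by
        intro c g
        funext j
        rcases j with i | i
        · simp only [Sum.elim_inl, Pi.smul_apply, RingHom.id_apply, smul_eq_mul]
          split_ifs <;> simp
        · simp }
  let π : (VV d) →ₗ[F] (Fin (2 * r) → F) :=
    { toFun := fun v k => v (Sum.inr (alt_par d r hr (Fin.castLE hr k)))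
      map_add' := fun _ _ => rfl
      map_smul' := fun _ _ => rfl }
  have hN : alt_N (F := F) d r hr = ι.comp π := by
    apply LinearMap.ext
    intro v
    funext j
    rcases j with i | i
    · show (if i.val < 2 * r then v (Sum.inr (alt_par d r hr i)) else 0)
        = (if h : i.val < 2 * r then v (Sum.inr (alt_par d r hr (Fin.castLE hr ⟨i.val, h⟩)))
            else 0)
      split_ifs with h
      · rfl
      · rfl
    · rfl
  have hπ : Function.Surjective π := by
    intro g
    refine ⟨Sum.elim (fun _ => 0) (fun j => if h : j.val < 2 * r then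
      g ⟨(alt_par d r hr j).val, alt_par_lt d r hr j h⟩ else 0), ?_⟩
    funext k
    show (if h : (alt_par d r hr (Fin.castLE hr k)).val < 2 * r then
      g ⟨(alt_par d r hr (alt_par d r hr (Fin.castLE hr k))).val,
        alt_par_lt d r hr _ h⟩ else 0) = g k
    have hk : (Fin.castLE hr k).val < 2 * r := k.isLt
    rw [dif_pos (alt_par_lt d r hr _ hk)]
    congr 1
    apply Fin.ext
    show (alt_par d r hr (alt_par d r hr (Fin.castLE hr k))).val = k.val
    rw [alt_par_invol]
    rfl
  have hι : Function.Injective ι := by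
    intro g g' hgg
    funext k
    have := congrFun hgg (Sum.inl (Fin.castLE hr k))
    have hk : (Fin.castLE hr k).val < 2 * r := k.isLt
    simp only [ι, LinearMap.coe_mk, AddHom.coe_mk, Sum.elim_inl, dif_pos hk] at this
    exact this
  rw [hN, LinearMap.range_comp_of_range_eq_top _ (LinearMap.range_eq_top.mpr hπ),
    LinearMap.finrank_range_of_inj hι, Module.finrank_fin_fun]

theorem alt_quad_N (d r : ℕ) (hr : 2 * r ≤ d) (z : VV d) :
    plusForm d F (alt_N (F := F) d r hr z) = 0 := by
  rw [alt_plusForm_apply]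
  apply Finset.sum_eq_zero
  intro i _
  rw [alt_N_inr, mul_zero]

theorem alt_coordSub (d r : ℕ) (hr : 2 * r ≤ d) (S : Set (Fin d))
    (hS : ∀ i j : Fin d, i.val / 2 = j.val / 2 → i.val < 2 * r → i ∈ S → j ∈ S) :
    (coordSub d S).map (alt_t (F := F) d r hr) ≤ coordSub d S := by
  rintro _ ⟨v, hv, rfl⟩
  intro i hi
  have hvi := hv i hi
  constructor
  · rw [alt_t_inl, hvi.1, zero_add]
    split_ifs with h
    · have hpar : alt_par d r hr i ∉ S := by
        intro hmem
        exact hi (hS _ i (alt_par_div d r hr i h) (alt_par_lt d r hr i h) hmem)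
      exact (hv _ hpar).2
    · rfl
  · rw [alt_t_inr, hvi.2]

/-- HQ-ALT -/
theorem std_alt (h2 : (2 : F) = 0) (d r : ℕ) (hr : 2 * r ≤ d) :
    ∃ t : (VV d) →ₗ[F] (VV d), IsInvIso (plusForm d F) t ∧
      finrank F (LinearMap.range (nilPart t)) = 2 * r ∧
      (∀ z, plusForm d F (nilPart t z) = 0) ∧
      ∀ S : Set (Fin d),
        (∀ i j : Fin d, i.val / 2 = j.val / 2 → i.val < 2 * r → i ∈ S → j ∈ S) →
        (coordSub d S).map t ≤ coordSub d S := by
  refine ⟨alt_t (F := F) d r hr, alt_isInvIso h2 d r hr, ?_, ?_, ?_⟩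
  · rw [alt_nilPart]
    exact alt_finrank_range d r hr
  · intro z
    rw [alt_nilPart]
    exact alt_quad_N d r hr z
  · intro S hS
    exact alt_coordSub d r hr S hS

end char2

end Cfsg.Agent.Lib.Helper15.Hq
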