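import Cfsg.Agent.Lib.Helper14.QmDefs
import Cfsg.Agent.Lib.Helper4.HqALT

/-! # QM-ALT (Qm hive, helper14): the alternating model involution of rank `2 r'` for the minus form,
characteristic 2 (clone of `Lib/Helper4/HqALT.lean`) -/

set_option autoImplicit false

namespace Cfsg.Agent.Lib.Helper14.Qm

open Module
open Cfsg.Agent.Lib.Helper8 (minusForm IsInvIso nilPart)
open Cfsg.Agent.Lib.Helper15.Hq (alt_par alt_par_val alt_par_lt alt_par_invol alt_par_ne alt_par_div
  alt_par_of_ge)

section char2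

variable {F : Type*} [Field F]

/-- the nilpotent part `N` of the model (`n = d - 1` hyperbolic pairs) -/
def alt_N (d r : ℕ) (hr : 2 * r ≤ d - 1) : (VM d F) →ₗ[F] (VM d F) where
  toFun v := Sum.elim (Sum.elim
    (fun i => if i.val < 2 * r then v (Sum.inl (Sum.inr (alt_par (d - 1) r hr i))) else 0)
    (fun _ => 0)) (fun _ => 0)
  map_add' u v := by
    funext j
    rcases j with (i | i) | i
    · simp only [Sum.elim_inl, Pi.add_apply]
      split_ifs <;> simp
    · simp
    · simp
  map_smul' c v := by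
    funext j
    rcases j with (i | i) | i
    · simp only [Sum.elim_inl, Pi.smul_apply, RingHom.id_apply, smul_eq_mul]
      split_ifs <;> simp
    · simp
    · simp

theorem alt_N_ll (d r : ℕ) (hr : 2 * r ≤ d - 1) (v : VM d F) (i : Fin (d - 1)) :
    alt_N (F := F) d r hr v (Sum.inl (Sum.inl i))
      = if i.val < 2 * r then v (Sum.inl (Sum.inr (alt_par (d - 1) r hr i))) else 0 := rfl

theorem alt_N_lr (d r : ℕ) (hr : 2 * r ≤ d - 1) (v : VM d F) (i : Fin (d - 1)) :
    alt_N (F := F) d r hr v (Sum.inl (Sum.inr i)) = 0 := rfl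

theorem alt_N_r (d r : ℕ) (hr : 2 * r ≤ d - 1) (v : VM d F) (i : Fin 2) :
    alt_N (F := F) d r hr v (Sum.inr i) = 0 := rfl

theorem alt_QM_apply (d : ℕ) (a b : F) (v : VM d F) :
    QM d F a b v = (∑ i : Fin (d - 1), v (Sum.inl (Sum.inl i)) * v (Sum.inl (Sum.inr i)))
      + (v (Sum.inr 0) ^ 2 + a * v (Sum.inr 0) * v (Sum.inr 1) + b * v (Sum.inr 1) ^ 2) := by
  show minusForm (d - 1) F a b v = _
  rw [← Cfsg.Agent.Lib.Helper8.minusForm_coe]
  rfl

theorem alt_sum_zero (h2 : (2 : F) = 0) (d r : ℕ) (hr : 2 * r ≤ d - 1) (v : VM d F) :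
    ∑ i : Fin (d - 1), (if i.val < 2 * r then
        v (Sum.inl (Sum.inr (alt_par (d - 1) r hr i))) else 0) * v (Sum.inl (Sum.inr i)) = 0 := by
  apply Finset.sum_involution (fun i _ => alt_par (d - 1) r hr i)
  · intro i _
    by_cases h : i.val < 2 * r
    · have h' := alt_par_lt (d - 1) r hr i h
      rw [if_pos h, if_pos h', alt_par_invol]
      linear_combination
        (v (Sum.inl (Sum.inr (alt_par (d - 1) r hr i))) * v (Sum.inl (Sum.inr i))) * h2
    · rw [alt_par_of_ge (d - 1) r hr i h]
      simp [h]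
  · intro i _ hne
    by_cases h : i.val < 2 * r
    · exact alt_par_ne (d - 1) r hr i h
    · rw [if_neg h] at hne
      simp at hne
  · intro i _
    exact Finset.mem_univ _
  · intro i _
    exact alt_par_invol (d - 1) r hr i

/-- the model involution `t = 1 + N` -/
def alt_t (d r : ℕ) (hr : 2 * r ≤ d - 1) : (VM d F) →ₗ[F] (VM d F) :=
  LinearMap.id + alt_N d r hr

theorem alt_t_ll (d r : ℕ) (hr : 2 * r ≤ d - 1) (v : VM d F) (i : Fin (d - 1)) :
    alt_t (F := F) d r hr v (Sum.inl (Sum.inl i))
      = v (Sum.inl (Sum.inl i))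
        + if i.val < 2 * r then v (Sum.inl (Sum.inr (alt_par (d - 1) r hr i))) else 0 := rfl

theorem alt_t_lr (d r : ℕ) (hr : 2 * r ≤ d - 1) (v : VM d F) (i : Fin (d - 1)) :
    alt_t (F := F) d r hr v (Sum.inl (Sum.inr i)) = v (Sum.inl (Sum.inr i)) := by
  show v (Sum.inl (Sum.inr i)) + 0 = v (Sum.inl (Sum.inr i))
  rw [add_zero]

theorem alt_t_r (d r : ℕ) (hr : 2 * r ≤ d - 1) (v : VM d F) (i : Fin 2) :
    alt_t (F := F) d r hr v (Sum.inr i) = v (Sum.inr i) := by
  show v (Sum.inr i) + 0 = v (Sum.inr i)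
  rw [add_zero]

theorem alt_isInvIso (h2 : (2 : F) = 0) (d r : ℕ) (hr : 2 * r ≤ d - 1) (a b : F) :
    IsInvIso (QM d F a b) (alt_t (F := F) d r hr) := by
  constructor
  · intro v
    rw [alt_QM_apply, alt_QM_apply]
    have : ∀ i : Fin (d - 1), (alt_t (F := F) d r hr v) (Sum.inl (Sum.inl i))
          * (alt_t (F := F) d r hr v) (Sum.inl (Sum.inr i))
        = v (Sum.inl (Sum.inl i)) * v (Sum.inl (Sum.inr i))
          + (if i.val < 2 * r then v (Sum.inl (Sum.inr (alt_par (d - 1) r hr i))) else 0)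
            * v (Sum.inl (Sum.inr i)) := by
      intro i
      rw [alt_t_ll, alt_t_lr]
      ring
    simp only [this, alt_t_r]
    rw [Finset.sum_add_distrib, alt_sum_zero h2, add_zero]
  · intro v
    funext j
    rcases j with (i | i) | i
    · rw [alt_t_ll]
      simp only [alt_t_ll, alt_t_lr]
      split_ifs
      · linear_combination (v (Sum.inl (Sum.inr (alt_par (d - 1) r hr i)))) * h2
      · simp
    · rw [alt_t_lr, alt_t_lr]
    · rw [alt_t_r, alt_t_r]

theorem alt_nilPart (d r : ℕ) (hr : 2 * r ≤ d - 1) :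
    nilPart (alt_t (F := F) d r hr) = alt_N (F := F) d r hr := by
  unfold nilPart alt_t
  abel

theorem alt_finrank_range (d r : ℕ) (hr : 2 * r ≤ d - 1) :
    finrank F (LinearMap.range (alt_N (F := F) d r hr)) = 2 * r := by
  let ι : (Fin (2 * r) → F) →ₗ[F] (VM d F) :=
    { toFun := fun g => Sum.elim (Sum.elim
        (fun i => if h : i.val < 2 * r then g ⟨i.val, h⟩ else 0) (fun _ => 0)) (fun _ => 0)
      map_add' := by
        intro g g'
        funext j
        rcases j with (i | i) | i
        · simp only [Sum.elim_inl, Pi.add_apply]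
          split_ifs <;> simp
        · simp
        · simp
      map_smul' := by
        intro c g
        funext j
        rcases j with (i | i) | i
        · simp only [Sum.elim_inl, Pi.smul_apply, RingHom.id_apply, smul_eq_mul]
          split_ifs <;> simp
        · simp
        · simp }
  let π : (VM d F) →ₗ[F] (Fin (2 * r) → F) :=
    { toFun := fun v k => v (Sum.inl (Sum.inr (alt_par (d - 1) r hr (Fin.castLE hr k))))
      map_add' := fun _ _ => rfl
      map_smul' := fun _ _ => rfl }
  have hN : alt_N (F := F) d r hr = ι.comp π := by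
    apply LinearMap.ext
    intro v
    funext j
    rcases j with (i | i) | i
    · show (if i.val < 2 * r then v (Sum.inl (Sum.inr (alt_par (d - 1) r hr i))) else 0)
        = (if h : i.val < 2 * r then
            v (Sum.inl (Sum.inr (alt_par (d - 1) r hr (Fin.castLE hr ⟨i.val, h⟩)))) else 0)
      split_ifs with h
      · rfl
      · rfl
    · rfl
    · rfl
  have hπ : Function.Surjective π := by
    intro g
    refine ⟨Sum.elim (Sum.elim (fun _ => 0) (fun j => if h : j.val < 2 * r then
      g ⟨(alt_par (d - 1) r hr j).val, alt_par_lt (d - 1) r hr j h⟩ else 0)) (fun _ => 0), ?_⟩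
    funext k
    show (if h : (alt_par (d - 1) r hr (Fin.castLE hr k)).val < 2 * r then
      g ⟨(alt_par (d - 1) r hr (alt_par (d - 1) r hr (Fin.castLE hr k))).val,
        alt_par_lt (d - 1) r hr _ h⟩ else 0) = g k
    have hk : (Fin.castLE hr k).val < 2 * r := k.isLt
    rw [dif_pos (alt_par_lt (d - 1) r hr _ hk)]
    congr 1
    apply Fin.ext
    show (alt_par (d - 1) r hr (alt_par (d - 1) r hr (Fin.castLE hr k))).val = k.val
    rw [alt_par_invol]
    rfl
  have hι : Function.Injective ι := by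
    intro g g' hgg
    funext k
    have := congrFun hgg (Sum.inl (Sum.inl (Fin.castLE hr k)))
    have hk : (Fin.castLE hr k).val < 2 * r := k.isLt
    simp only [ι, LinearMap.coe_mk, AddHom.coe_mk, Sum.elim_inl, dif_pos hk] at this
    exact this
  rw [hN, LinearMap.range_comp_of_range_eq_top _ (LinearMap.range_eq_top.mpr hπ),
    LinearMap.finrank_range_of_inj hι, Module.finrank_fin_fun]

theorem alt_quad_N (d r : ℕ) (hr : 2 * r ≤ d - 1) (a b : F) (z : VM d F) :
    QM d F a b (alt_N (F := F) d r hr z) = 0 := by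
  rw [alt_QM_apply]
  simp only [alt_N_lr, alt_N_r, mul_zero, Finset.sum_const_zero]
  ring

theorem alt_ellSub (d r : ℕ) (hr : 2 * r ≤ d - 1) (S : Set (Fin (d - 1)))
    (hS : ∀ i j : Fin (d - 1), i.val / 2 = j.val / 2 → i.val < 2 * r → i ∈ S → j ∈ S) :
    (ellSub d F S).map (alt_t (F := F) d r hr) ≤ ellSub d F S := by
  rintro _ ⟨v, hv, rfl⟩
  intro i hi
  have hvi := hv i hi
  constructor
  · rw [alt_t_ll, hvi.1, zero_add]
    split_ifs with h
    · have hpar : alt_par (d - 1) r hr i ∉ S := by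
        intro hmem
        exact hi (hS _ i (alt_par_div (d - 1) r hr i h) (alt_par_lt (d - 1) r hr i h) hmem)
      exact (hv _ hpar).2
    · rfl
  · rw [alt_t_lr, hvi.2]

/-- index sets of every admissible cardinality that are unions of pairs inside the first `2 r` -/
theorem alt_exists_S (n r k : ℕ) (hk : k ≤ n) (hc : 2 * r < n ∨ Even k) :
    ∃ S : Finset (Fin n), S.card = k ∧
      ∀ i j : Fin n, i.val / 2 = j.val / 2 → i.val < 2 * r → i ∈ S → j ∈ S := by
  have hmem : ∀ (k' : ℕ) (h' : k' ≤ n) (i : Fin n),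
      i ∈ (Finset.univ : Finset (Fin k')).map (Fin.castLEEmb h') ↔ i.val < k' := by
    intro k' h' i
    constructor
    · intro hi
      obtain ⟨j, -, rfl⟩ := Finset.mem_map.mp hi
      exact j.isLt
    · intro hi
      exact Finset.mem_map.mpr ⟨⟨i.val, hi⟩, Finset.mem_univ _, Fin.ext rfl⟩
  by_cases hcase : Even k ∨ 2 * r ≤ k
  · refine ⟨(Finset.univ : Finset (Fin k)).map (Fin.castLEEmb hk), by simp, ?_⟩
    intro i j hij hi2 hiS
    rw [hmem] at hiS ⊢
    rcases hcase with he | hge
    · obtain ⟨c, hc'⟩ := he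
      omega
    · have : j.val < 2 * r := by omega
      omega
  · push Not at hcase
    obtain ⟨hodd, hlt⟩ := hcase
    have hodd' : Odd k := Nat.not_even_iff_odd.mp hodd
    have hfree : 2 * r < n := by
      rcases hc with h | h
      · exact h
      · exact absurd h hodd
    have hk1 : k - 1 ≤ n := by omega
    have hlast : (⟨2 * r, hfree⟩ : Fin n) ∉
        (Finset.univ : Finset (Fin (k - 1))).map (Fin.castLEEmb hk1) := by
      rw [hmem]
      show ¬ 2 * r < k - 1
      omega
    refine ⟨insert (⟨2 * r, hfree⟩ : Fin n)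
      ((Finset.univ : Finset (Fin (k - 1))).map (Fin.castLEEmb hk1)), ?_, ?_⟩
    · rw [Finset.card_insert_of_notMem hlast]
      simp only [Finset.card_map, Finset.card_univ, Fintype.card_fin]
      obtain ⟨c, hc'⟩ := hodd'
      omega
    · intro i j hij hi2 hiS
      rw [Finset.mem_insert] at hiS ⊢
      right
      rcases hiS with h | h
      · exfalso
        have := congrArg Fin.val h
        simp only at this
        omega
      · rw [hmem] at h ⊢
        obtain ⟨c, hc'⟩ := hodd'
        omega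

/-- QM-ALT -/
theorem std_alt_minus (h2 : (2 : F) = 0) (d r' : ℕ) (hr : 2 * r' + 1 ≤ d) (a b : F) :
    ∃ t : (VM d F) →ₗ[F] (VM d F), IsInvIso (QM d F a b) t ∧
      finrank F (LinearMap.range (nilPart t)) = 2 * r' ∧
      (∀ z, QM d F a b (nilPart t z) = 0) ∧
      ∀ k : ℕ, k + 1 ≤ d → (2 * r' + 1 < d ∨ Even k) →
        ∃ S : Finset (Fin (d - 1)), S.card = k ∧
          (ellSub d F (S : Set (Fin (d - 1)))).map t ≤ ellSub d F (S : Set (Fin (d - 1))) := by
  have hr' : 2 * r' ≤ d - 1 := by omega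
  refine ⟨alt_t (F := F) d r' hr', alt_isInvIso h2 d r' hr' a b, ?_, ?_, ?_⟩
  · rw [alt_nilPart]
    exact alt_finrank_range d r' hr'
  · intro z
    rw [alt_nilPart]
    exact alt_quad_N d r' hr' a b z
  · intro k hk hc
    have hk' : k ≤ d - 1 := by omega
    have hc' : 2 * r' < d - 1 ∨ Even k := by
      rcases hc with h | h
      · left; omega
      · right; exact h
    obtain ⟨S, hcard, hS⟩ := alt_exists_S (d - 1) r' k hk' hc'
    refine ⟨S, hcard, alt_ellSub d r' hr' _ ?_⟩
    intro i j hij hi2 hiS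
    exact Finset.mem_coe.mpr (hS i j hij hi2 (Finset.mem_coe.mp hiS))

end char2

end Cfsg.Agent.Lib.Helper14.Qm
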