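import Mathlib
import Cfsg.Prelude.Def_Transfer
import Cfsg.Agent.Lib.Helper15.CycSylDefs
import Cfsg.Agent.Lib.Helper15.CycSylBasic
import Cfsg.Agent.Lib.Helper19.PNil
import Cfsg.Agent.Lib.Helper2.PComplement
import Cfsg.Agent.Lib.Helper17.CycSylSZ
import Cfsg.Agent.Lib.Helper39.CycSylC1
import Cfsg.Agent.Lib.Helper68.CycSylC2

set_option autoImplicit false

/-!
# S4016 hive, leaf D1 (helper4): lifting `Good` through a normal `p'`-subgroup
-/

namespace Cfsg.Agent.Lib.Helper15.CycSyl

open Subgroup Cfsg.Agent.Lib.Helper19 Cfsg.Agent.Lib.Helper2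

variable {G : Type*} [Group G] [Finite G] {p : ℕ} [Fact p.Prime]

/-- the join of a normal `p'`-subgroup and a `p'`-subgroup is a `p'`-group -/
theorem d1_coprime_sup (K L : Subgroup G) [K.Normal] (hK : (Nat.card K).Coprime p)
    (hL : (Nat.card L).Coprime p) : (Nat.card ↥(K ⊔ L)).Coprime p := by
  have h1 : Nat.card ↥(K ⊔ L) = Nat.card K * K.relIndex (K ⊔ L) := by
    have := Subgroup.relIndex_mul_relIndex (H := (⊥ : Subgroup G)) (K := K) (L := K ⊔ L)
      bot_le le_sup_left
    rw [Subgroup.relIndex_bot_left, Subgroup.relIndex_bot_left] at this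
    exact this.symm
  rw [h1, Subgroup.relIndex_sup_left]
  exact Nat.Coprime.mul_left hK (Nat.Coprime.coprime_dvd_left (Subgroup.relIndex_dvd_card K L) hL)

/-- if the `p`-subgroup `P` centralizes the normal `p'`-subgroup `K`, the `p`-elements of `K ⊔ P` lie in `P` -/
theorem d1_mem_of_pow (K P : Subgroup G) [K.Normal] (hK : (Nat.card K).Coprime p) (hP : IsPGroup p P)
    (hPK : ∀ a ∈ P, ∀ k ∈ K, a * k = k * a) {y : G} (hy : y ∈ K ⊔ P) (hyp : ∃ j : ℕ, y ^ p ^ j = 1) :
    y ∈ P := by
  have hmem : y ∈ ((K ⊔ P : Subgroup G) : Set G) := hy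
  rw [Subgroup.normal_mul] at hmem
  obtain ⟨k, hk, a, ha, hka⟩ := hmem
  have hka' : y = k * a := hka.symm
  subst hka'
  obtain ⟨j1, hj1⟩ := hyp
  obtain ⟨j2, hj2⟩ := hP ⟨a, ha⟩
  have hj2' : a ^ p ^ j2 = 1 := by
    have := congrArg Subtype.val hj2
    simpa using this
  have hcomm : Commute k a := (hPK a ha k hk).symm
  have hk1 : k ^ p ^ (j1 + j2) = 1 := by
    have e1 : (k * a) ^ p ^ (j1 + j2) = 1 := by
      rw [pow_add, pow_mul, hj1, one_pow]
    have e2 : a ^ p ^ (j1 + j2) = 1 := by
      rw [pow_add, mul_comm, pow_mul, hj2', one_pow]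
    rw [hcomm.mul_pow, e2, mul_one] at e1
    exact e1
  have hk2 : k = 1 :=
    eq_one_of_pow_of_coprime ⟨j1 + j2, hk1⟩ (coprime_orderOf_of_mem K hK hk)
  rw [hk2, one_mul]
  exact ha

/-- [D1] Case `O_{p'}`: lifting through a normal `p'`-subgroup `K`. -/
theorem good_of_quotient_p' (hG : CycAb p G) (K : Subgroup G) [K.Normal]
    (hK : (Nat.card K).Coprime p) (hq : Good p (G ⧸ K)) : Good p G := by
  rcases hq with h | h
  · exact Or.inl (hnpc_of_quotient K hK h)
  · by_cases hnp : Cfsg.HasNormalPComplement p G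
    · exact Or.inl hnp
    · right
      intro P
      have hKP : (K ⊔ (P : Subgroup G)).Normal := sup_sylow_normal_of_quotient K h P
      obtain ⟨L, hLN, hLP, hPL, hLc, _⟩ := exists_compl_normalizer P
      have hPcyc : IsCyclic (P : Subgroup G) := hG.1 P
      have hPab := comm_of_isCyclic (P : Subgroup G) hPcyc
      -- some `l ∈ L` does not centralize `P`
      have hex : ∃ l ∈ L, l ∉ centralizer ((P : Subgroup G) : Set G) := by
        by_contra hcon
        push Not at hcon
        apply hnp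
        have hNC : normalizer ((P : Subgroup G) : Set G) ≤ centralizer ((P : Subgroup G) : Set G) := by
          rw [← hPL]
          exact sup_le (le_centralizer_of_isCyclic (P : Subgroup G) hPcyc) hcon
        exact hasNormalPComplement_of_normalizer_le_centralizer P hNC
      obtain ⟨l, hlL, hlc⟩ := hex
      have hlN : l ∈ normalizer ((P : Subgroup G) : Set G) := hLN hlL
      have hlo : (orderOf l).Coprime p := coprime_orderOf_of_mem L hLc hlL
      have hfpf := cyc_fpf (P : Subgroup G) hPcyc P.2 hlN hlo hlc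
      have hsurj := comm_surj_of_fpf (P : Subgroup G) hPab hlN hfpf
      -- `l` centralizes `K`
      have hKL : (Nat.card ↥(K ⊔ L)).Coprime p := d1_coprime_sup K L hK hLc
      have hlK : ∀ k ∈ K, l * k = k * l := fun k hk =>
        hG.2 (K ⊔ L) hKL l (mem_sup_right hlL) k (mem_sup_left hk)
      -- `P` centralizes `K`
      have hPK : ∀ a ∈ (P : Subgroup G), ∀ k ∈ K, a * k = k * a := by
        intro a ha k hk
        obtain ⟨b, hb, hab⟩ := hsurj a ha
        have h1 : l⁻¹ * k = k * l⁻¹ := by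
          have := hlK k hk
          calc l⁻¹ * k = l⁻¹ * (k * l) * l⁻¹ := by group
            _ = l⁻¹ * (l * k) * l⁻¹ := by rw [this]
            _ = k * l⁻¹ := by group
        have h2 : l * (b * k * b⁻¹) = (b * k * b⁻¹) * l :=
          hlK _ (Subgroup.Normal.conj_mem inferInstance k hk b)
        calc a * k = b⁻¹ * l * b * (l⁻¹ * k) := by rw [hab]; group
          _ = b⁻¹ * l * b * (k * l⁻¹) := by rw [h1]
          _ = b⁻¹ * (l * (b * k * b⁻¹)) * b * l⁻¹ := by group
          _ = b⁻¹ * ((b * k * b⁻¹) * l) * b * l⁻¹ := by rw [h2]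
          _ = k * (b⁻¹ * (l * b * l⁻¹)) := by group
          _ = k * a := by rw [← hab]
      -- `P` is normal
      constructor
      intro x hx g
      have hxKP : g * x * g⁻¹ ∈ K ⊔ (P : Subgroup G) :=
        hKP.conj_mem x (mem_sup_right hx) g
      obtain ⟨j, hj⟩ := P.2 ⟨x, hx⟩
      have hj' : x ^ p ^ j = 1 := by
        have := congrArg Subtype.val hj
        simpa using this
      refine d1_mem_of_pow K (P : Subgroup G) hK P.2 hPK hxKP ⟨j, ?_⟩
      rw [conj_pow, hj', mul_one, mul_inv_cancel]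

end Cfsg.Agent.Lib.Helper15.CycSyl
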