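import Mathlib
import Cfsg.Prelude.Def_Transfer
import Cfsg.Agent.Lib.Helper15.CycSylDefs
import Cfsg.Agent.Lib.Helper19.PNil

set_option autoImplicit false

/-!
# S4016 hive, leaf D3 (helper4): a proper nontrivial normal subgroup which is `Good`
-/

namespace Cfsg.Agent.Lib.Helper15.CycSyl

open Subgroup Cfsg.Agent.Lib.Helper19

variable {G : Type*} [Group G] [Finite G] {p : ℕ} [Fact p.Prime]

/-- a subgroup of a normal subgroup `N` cut out by a conjugation-invariant property is normal -/
theorem d3_normal_of_mem_iff (N C : Subgroup G) [N.Normal] (Pr : G → Prop)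
    (hPr : ∀ g x : G, Pr x → Pr (g * x * g⁻¹)) (hC : ∀ x, x ∈ C ↔ x ∈ N ∧ Pr x) : C.Normal := by
  constructor
  intro n hn g
  rw [hC] at hn ⊢
  exact ⟨Subgroup.Normal.conj_mem inferInstance n hn.1 g, hPr g n hn.2⟩

/-- the normal `p`-complement of a normal subgroup is normal in the whole group -/
theorem d3_pcompl_normal (N : Subgroup G) [N.Normal] (h : Cfsg.HasNormalPComplement p ↥N) :
    ∃ C : Subgroup G, C ≤ N ∧ C.Normal ∧ (Nat.card C).Coprime p ∧
      ∃ k : ℕ, Nat.card N = Nat.card C * p ^ k := by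
  have hp : p.Prime := Fact.out
  obtain ⟨M, hMn, hMc, k, hk⟩ := normal_hall_of_hnpc h
  have := hMn
  have hcard : Nat.card (M.map N.subtype) = Nat.card M :=
    Subgroup.card_map_of_injective N.subtype_injective
  have hNM : Nat.card N = Nat.card M * p ^ k := by rw [← hk]; exact M.card_mul_index.symm
  refine ⟨M.map N.subtype, ?_, ?_, by rwa [hcard], k, by rw [hcard]; exact hNM⟩
  · rintro x ⟨y, _, rfl⟩
    exact y.2
  · apply d3_normal_of_mem_iff N (M.map N.subtype) (fun x => (orderOf x).Coprime p)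
    · intro g x hx
      have : orderOf (g * x * g⁻¹) = orderOf x := by
        have := orderOf_injective (MulAut.conj g).toMonoidHom (MulAut.conj g).injective x
        simpa using this
      show (orderOf (g * x * g⁻¹)).Coprime p
      rw [this]; exact hx
    · intro x
      constructor
      · rintro ⟨y, hy, rfl⟩
        refine ⟨y.2, ?_⟩
        have h1 : orderOf (N.subtype y) = orderOf y := orderOf_injective _ N.subtype_injective y
        rw [h1]
        have h2 : orderOf (⟨y, hy⟩ : M) = orderOf y := Subgroup.orderOf_mk y hy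
        have h3 : orderOf (⟨y, hy⟩ : M) ∣ Nat.card M := orderOf_dvd_natCard _
        rw [h2] at h3
        exact Nat.Coprime.coprime_dvd_left h3 hMc
      · rintro ⟨hxN, hxo⟩
        refine ⟨⟨x, hxN⟩, ?_, rfl⟩
        -- the image of `x` in `N ⧸ M` has order dividing `orderOf x` and `p ^ k`
        have h1 : orderOf ((QuotientGroup.mk' M) ⟨x, hxN⟩) ∣ orderOf (⟨x, hxN⟩ : N) :=
          orderOf_map_dvd _ _
        have h2 : orderOf (⟨x, hxN⟩ : N) = orderOf x := Subgroup.orderOf_mk x hxN
        have h3 : orderOf ((QuotientGroup.mk' M) ⟨x, hxN⟩) ∣ Nat.card (↥N ⧸ M) :=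
          orderOf_dvd_natCard _
        have h4 : Nat.card (↥N ⧸ M) = p ^ k := by rw [← hk]; rfl
        rw [h4] at h3
        rw [h2] at h1
        have h5 : (orderOf ((QuotientGroup.mk' M) ⟨x, hxN⟩)).Coprime (p ^ k) :=
          Nat.Coprime.coprime_dvd_left h1 (Nat.Coprime.pow_right k hxo)
        have h6 : orderOf ((QuotientGroup.mk' M) ⟨x, hxN⟩) = 1 :=
          Nat.Coprime.eq_one_of_dvd h5 h3
        rw [orderOf_eq_one_iff] at h6
        exact (QuotientGroup.eq_one_iff _).mp h6

/-- the normal Sylow `p`-subgroup of a normal subgroup is normal in the whole group -/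
theorem d3_sylow_normal (N : Subgroup G) [N.Normal]
    (h : ∀ P : Sylow p ↥N, (P : Subgroup ↥N).Normal) :
    ∃ D : Subgroup G, D ≤ N ∧ D.Normal ∧ IsPGroup p D ∧
      ∃ m : ℕ, Nat.card N = Nat.card D * m ∧ m.Coprime p := by
  have hp : p.Prime := Fact.out
  let P : Sylow p ↥N := default
  have hPn : (P : Subgroup ↥N).Normal := h P
  have : (P : Subgroup ↥N).Characteristic := Sylow.characteristic_of_normal P hPn
  have hcard : Nat.card ((P : Subgroup ↥N).map N.subtype) = Nat.card (P : Subgroup ↥N) :=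
    Subgroup.card_map_of_injective N.subtype_injective
  refine ⟨(P : Subgroup ↥N).map N.subtype, ?_, inferInstance, ?_, (P : Subgroup ↥N).index, ?_, ?_⟩
  · rintro x ⟨y, _, rfl⟩
    exact y.2
  · exact P.2.map N.subtype
  · rw [hcard]; exact (P : Subgroup ↥N).card_mul_index.symm
  · exact (Nat.Prime.coprime_iff_not_dvd hp).mpr P.not_dvd_index |>.symm

/-- [D3] A nontrivial normal subgroup `N` with `Good p N`. -/
theorem good_of_normal_subgroup (N : Subgroup G) [N.Normal] (hN1 : N ≠ ⊥)
    (hNg : Good p ↥N)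
    (ha : ∀ K : Subgroup G, K.Normal → K ≠ ⊥ → (Nat.card K).Coprime p → Good p G)
    (hb : ∀ D : Subgroup G, D.Normal → D ≠ ⊥ → IsPGroup p D → Good p G) : Good p G := by
  have hp : p.Prime := Fact.out
  rcases hNg with h | h
  · obtain ⟨C, hCN, hCn, hCc, k, hk⟩ := d3_pcompl_normal N h
    by_cases hC1 : C = ⊥
    · -- `N` is a `p`-group
      refine hb N inferInstance hN1 ?_
      rw [hC1, Subgroup.card_bot, one_mul] at hk
      exact IsPGroup.of_card hk
    · exact ha C hCn hC1 hCc
  · obtain ⟨D, hDN, hDn, hDp, m, hm, hmc⟩ := d3_sylow_normal N h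
    by_cases hD1 : D = ⊥
    · refine ha N inferInstance hN1 ?_
      rw [hD1, Subgroup.card_bot, one_mul] at hm
      rw [hm]; exact hmc
    · exact hb D hDn hD1 hDp

end Cfsg.Agent.Lib.Helper15.CycSyl
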