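import Mathlib
import Cfsg.Prelude.Def_Transfer
import Cfsg.Agent.Lib.Helper15.CycSylDefs
import Cfsg.Agent.Lib.Helper15.CycSylBasic
import Cfsg.Agent.Lib.Helper19.PNil
import Cfsg.Agent.Lib.Helper2.PComplement
import Cfsg.Agent.Lib.Helper4.CycSylD3

set_option autoImplicit false

/-!
# S4016 hive, leaf D2 (helper4): lifting `Good` through a normal `p`-subgroup
-/

namespace Cfsg.Agent.Lib.Helper15.CycSyl

open Subgroup Cfsg.Agent.Lib.Helper19 Cfsg.Agent.Lib.Helper2

variable {G : Type*} [Group G] [Finite G] {p : ℕ} [Fact p.Prime]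

/-- a normal `p`-subgroup of index prime to `p` is the unique Sylow `p`-subgroup -/
theorem d2_all_normal_of_normal (M : Subgroup G) [M.Normal] (hM : IsPGroup p M)
    (hidx : ¬ p ∣ M.index) : ∀ P : Sylow p G, (P : Subgroup G).Normal := by
  intro P
  let S : Sylow p G := hM.toSylow hidx
  have hS : (S : Subgroup G).Normal := (inferInstance : M.Normal)
  have := Sylow.unique_of_normal S hS
  rw [Subsingleton.elim P S]
  exact hS

/-- a subgroup `B` with a central Sylow `p`-subgroup `D` has a normal `p`-complement -/
theorem d2_hnpc_of_central (B D : Subgroup G) (hDB : D ≤ B) (hD : IsPGroup p D)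
    (hidx : ¬ p ∣ D.relIndex B) (hcent : ∀ d ∈ D, ∀ x ∈ B, d * x = x * d) :
    Cfsg.HasNormalPComplement p ↥B := by
  have hDp : IsPGroup p (D.subgroupOf B) := hD.comap_subtype
  let S : Sylow p ↥B := hDp.toSylow hidx
  apply hasNormalPComplement_of_normalizer_le_centralizer S
  intro x _
  rw [Subgroup.mem_centralizer_iff]
  intro d hd
  have hd' : (d : G) ∈ D := hd
  exact Subtype.ext (hcent d hd' x x.2)

/-- [D2] Case `O_p`: lifting through a normal `p`-subgroup `D`. -/
theorem good_of_quotient_p (hG : CycAb p G) (D : Subgroup G) [D.Normal]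
    (hD : IsPGroup p D) (hq : Good p (G ⧸ D))
    (ha : ∀ K : Subgroup G, K.Normal → K ≠ ⊥ → (Nat.card K).Coprime p → Good p G) : Good p G := by
  have hp : p.Prime := Fact.out
  have hker : (QuotientGroup.mk' D).ker = D := QuotientGroup.ker_mk' D
  rcases hq with h | h
  · -- `G ⧸ D` has a normal `p`-complement `Mbar`
    obtain ⟨Mbar, hMn, hMc, k, hk⟩ := normal_hall_of_hnpc h
    set M : Subgroup G := Mbar.comap (QuotientGroup.mk' D) with hMdef
    haveI hMnorm : M.Normal := hMn.comap _
    have hMidx : M.index = p ^ k := by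
      rw [hMdef, Subgroup.index_comap_of_surjective _ (QuotientGroup.mk'_surjective D), hk]
    have hDM : D ≤ M := by
      intro d hd
      rw [hMdef, Subgroup.mem_comap]
      have : (QuotientGroup.mk' D) d = 1 := by
        rw [← MonoidHom.mem_ker, hker]; exact hd
      rw [this]; exact Mbar.one_mem
    -- `M / D ≅ Mbar` is a `p'`-group
    have hMcard : Nat.card M = Nat.card D * Nat.card Mbar := by
      have h1 : Nat.card M * p ^ k = Nat.card G := by rw [← hMidx]; exact M.card_mul_index
      have h2 : Nat.card Mbar * p ^ k = Nat.card (G ⧸ D) := by rw [← hk]; exact Mbar.card_mul_index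
      have h3 : Nat.card G = Nat.card (G ⧸ D) * Nat.card D :=
        Subgroup.card_eq_card_quotient_mul_card_subgroup D
      have hpos : 0 < p ^ k := pow_pos hp.pos k
      apply Nat.eq_of_mul_eq_mul_right hpos
      rw [h1, h3, ← h2]; ring
    set E : Subgroup G := centralizer (D : Set G) with hEdef
    haveI hEn : E.Normal := Subgroup.normal_centralizer
    set B : Subgroup G := E ⊓ M with hBdef
    haveI hBn : B.Normal := Subgroup.normal_inf_normal E M
    -- `D` is abelian (it lies in a cyclic Sylow subgroup)
    have hDab : ∀ a ∈ D, ∀ b ∈ D, a * b = b * a := by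
      intro a ha b hb
      let P : Sylow p G := default
      have hDP : D ≤ (P : Subgroup G) := hD.le_sylow_of_normal P
      exact comm_of_isCyclic (P : Subgroup G) (hG.1 P) a (hDP ha) b (hDP hb)
    have hDE : D ≤ E := by
      intro d hd
      rw [hEdef, Subgroup.mem_centralizer_iff]
      intro e he
      exact hDab e he d hd
    have hDB : D ≤ B := le_inf hDE hDM
    -- `|B : D|` is prime to `p`
    have hBD : ¬ p ∣ D.relIndex B := by
      have h1 : D.relIndex B ∣ D.relIndex M :=
        Dvd.intro _ (Subgroup.relIndex_mul_relIndex (H := D) (K := B) (L := M) hDB inf_le_right)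
      have h2 : Nat.card D * D.relIndex M = Nat.card M := by
        have := Subgroup.relIndex_mul_relIndex (H := (⊥ : Subgroup G)) (K := D) (L := M) bot_le hDM
        rwa [Subgroup.relIndex_bot_left, Subgroup.relIndex_bot_left] at this
      have h3 : D.relIndex M = Nat.card Mbar := by
        have hpos : 0 < Nat.card D := Nat.card_pos
        apply Nat.eq_of_mul_eq_mul_left hpos
        rw [h2, hMcard]
      intro hdvd
      have : p ∣ Nat.card Mbar := h3 ▸ (dvd_trans hdvd h1)
      exact (Nat.Prime.coprime_iff_not_dvd hp).mp hMc.symm this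
    have hBnpc : Cfsg.HasNormalPComplement p ↥B := by
      apply d2_hnpc_of_central B D hDB hD hBD
      intro d hd x hx
      have hxE : x ∈ E := hx.1
      rw [hEdef, Subgroup.mem_centralizer_iff] at hxE
      exact hxE d hd
    obtain ⟨C, hCB, hCn, hCc, k', hk'⟩ := d3_pcompl_normal B hBnpc
    by_cases hC1 : C = ⊥
    · -- `B` is a `p`-group, hence so is `E`, and `E` is the unique Sylow `p`-subgroup
      right
      rw [hC1, Subgroup.card_bot, one_mul] at hk'
      have hEcard : Nat.card E = p ^ k' * M.relIndex E := by
        have h1 := Subgroup.relIndex_mul_relIndex (H := (⊥ : Subgroup G)) (K := B) (L := E) bot_le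
          inf_le_left
        rw [Subgroup.relIndex_bot_left, Subgroup.relIndex_bot_left, hk'] at h1
        have h2 : B.relIndex E = M.relIndex E := by
          rw [hBdef, inf_comm]; exact Subgroup.inf_relIndex_right M E
        rw [← h1, h2]
      have hrel : M.relIndex E ∣ p ^ k := hMidx ▸ Subgroup.relIndex_dvd_index_of_normal M E
      obtain ⟨j, _, hj⟩ := (Nat.dvd_prime_pow hp).mp hrel
      have hEp : IsPGroup p E := by
        apply IsPGroup.of_card (n := k' + j)
        rw [hEcard, hj, pow_add]
      intro P
      have hDP : D ≤ (P : Subgroup G) := hD.le_sylow_of_normal P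
      have hPE : (P : Subgroup G) ≤ E := by
        intro x hx
        rw [hEdef, Subgroup.mem_centralizer_iff]
        intro d hd
        exact comm_of_isCyclic (P : Subgroup G) (hG.1 P) d (hDP hd) x hx
      have : E = (P : Subgroup G) := P.is_maximal' hEp hPE
      rw [← this]; exact hEn
    · exact ha C hCn hC1 hCc
  · -- `G ⧸ D` is `p`-closed
    right
    let Qbar : Sylow p (G ⧸ D) := default
    have hQn : (Qbar : Subgroup (G ⧸ D)).Normal := h Qbar
    set M : Subgroup G := (Qbar : Subgroup (G ⧸ D)).comap (QuotientGroup.mk' D) with hMdef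
    have hMnorm : M.Normal := hQn.comap _
    have hMp : IsPGroup p M := Qbar.2.comap_of_ker_isPGroup (QuotientGroup.mk' D) (by rw [hker]; exact hD)
    have hMidx : ¬ p ∣ M.index := by
      rw [hMdef, Subgroup.index_comap_of_surjective _ (QuotientGroup.mk'_surjective D)]
      exact Qbar.not_dvd_index
    exact d2_all_normal_of_normal M hMp hMidx

end Cfsg.Agent.Lib.Helper15.CycSyl
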