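import Mathlib
import Cfsg.Prelude.Def_Sporadic_a
import Cfsg.Agent.Lib.Golay.Cross48

set_option autoImplicit false
open Matrix

/-!
Definitions for the S0406 hive (characterisation of the rank-24 lattice, Conway's argument).
`Fr Λ` : the abstract properties of the image `Λ ⊆ ℤ^24` of the lattice in the coordinates of a
frame of 24 pairwise orthogonal vectors of norm 8; `code Λ` : the binary code of the halves of the
even vectors of `Λ`.
-/

namespace Cfsg.Agent.Lib.Helper4.Lc

abbrev V := Fin 24 → ℤ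

/-- sum of squares -/
def sq (v : V) : ℤ := ∑ i, v i ^ 2

/-- plain dot product -/
def dot (v w : V) : ℤ := ∑ i, v i * w i

/-- the abstract frame-coordinate lattice -/
structure Fr (Λ : AddSubgroup V) : Prop where
  dot8 : ∀ v ∈ Λ, ∀ w ∈ Λ, (8 : ℤ) ∣ dot v w
  sq16 : ∀ v ∈ Λ, (16 : ℤ) ∣ sq v
  no16 : ∀ v ∈ Λ, sq v ≠ 16
  e8 : ∀ i : Fin 24, (Pi.single i 8 : V) ∈ Λ
  e44 : ∀ i j : Fin 24, i ≠ j → (Pi.single i 4 + Pi.single j 4 : V) ∈ Λ
  cnt : {v : V | v ∈ Λ ∧ sq v = 32}.ncard = 196560

/-- doubling -/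
def dbl : V →+ V where
  toFun a := fun i => 2 * a i
  map_zero' := by funext i; simp
  map_add' a b := by funext i; simp [mul_add]

@[simp] theorem dbl_apply (a : V) (i : Fin 24) : dbl a i = 2 * a i := rfl

/-- reduction modulo 2 -/
def red : V →+ (Fin 24 → ZMod 2) where
  toFun a := fun i => ((a i : ℤ) : ZMod 2)
  map_zero' := by funext i; simp
  map_add' a b := by funext i; simp

@[simp] theorem red_apply (a : V) (i : Fin 24) : red a i = ((a i : ℤ) : ZMod 2) := rfl

/-- the code of `Λ`: the reductions modulo 2 of the vectors `a` with `2a ∈ Λ` -/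
def code (Λ : AddSubgroup V) : Submodule (ZMod 2) (Fin 24 → ZMod 2) :=
  AddSubgroup.toZModSubmodule 2 ((Λ.comap dbl).map red)

theorem mem_code (Λ : AddSubgroup V) (c : Fin 24 → ZMod 2) :
    c ∈ code Λ ↔ ∃ a : V, dbl a ∈ Λ ∧ red a = c := by
  simp [code, AddSubgroup.mem_map, AddSubgroup.mem_comap]

/-- coordinatewise multiplication by a fixed vector (used with a sign vector) -/
def flip (s : V) : V →+ V where
  toFun a := fun i => s i * a i
  map_zero' := by funext i; simp
  map_add' a b := by funext i; simp [mul_add]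

@[simp] theorem flip_apply (s a : V) (i : Fin 24) : flip s a i = s i * a i := rfl

/-- a sign vector -/
def IsSign (s : V) : Prop := ∀ i, s i = 1 ∨ s i = -1

/-- all coordinates even -/
def AllEven (v : V) : Prop := ∀ i, (2 : ℤ) ∣ v i

/-- all coordinates odd -/
def AllOdd (v : V) : Prop := ∀ i, ¬ (2 : ℤ) ∣ v i

open Cfsg.Agent.Lib.Golay.Cross48 (Hyp Qf bf)

/-- the coordinates of a lattice vector relative to a frame `e` -/
def phi (B : Matrix (Fin 24) (Fin 24) ℤ) (e : Fin 24 → V) : V →+ V where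
  toFun x := fun i => bf B x (e i)
  map_zero' := by funext i; simp [Cfsg.Agent.Lib.Golay.Cross48.bf_zero_left]
  map_add' x y := by funext i; simp [Cfsg.Agent.Lib.Golay.Cross48.bf_add_left]

@[simp] theorem phi_apply (B : Matrix (Fin 24) (Fin 24) ℤ) (e : Fin 24 → V) (x : V) (i : Fin 24) :
    phi B e x i = bf B x (e i) := rfl

/-- relabel the coordinates by `e` and multiply by the vector `s` -/
def transp (e : Fin 24 ≃ Cfsg.GolayPt) (s : V) : V →+ (Cfsg.GolayPt → ℤ) where
  toFun v := fun p => s (e.symm p) * v (e.symm p)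
  map_zero' := by funext p; simp
  map_add' a b := by funext p; simp [mul_add]

@[simp] theorem transp_apply (e : Fin 24 ≃ Cfsg.GolayPt) (s v : V) (p : Cfsg.GolayPt) :
    transp e s v p = s (e.symm p) * v (e.symm p) := rfl

end Cfsg.Agent.Lib.Helper4.Lc
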