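import Cfsg.Agent.Lib.Helper47.FLDefs

set_option autoImplicit false

namespace Cfsg.Agent.Lib.Helper47.FL

section core

variable {H : Type*} [Group H] {Y A : Subgroup H}

/-- commutators of `Z` with a normal subgroup `A` normalizing `Z` lie in `Z ⊓ A` -/
theorem coresplit_comm (hAn : A.Normal) {Z : Subgroup H}
    (hZ : ∀ a ∈ A, ∀ z ∈ Z, a * z * a⁻¹ ∈ Z) {y a : H} (hy : y ∈ Z) (ha : a ∈ A) :
    y * a * y⁻¹ * a⁻¹ ∈ Z ⊓ A := by
  refine Subgroup.mem_inf.mpr ⟨?_, ?_⟩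
  · have h1 : a * y⁻¹ * a⁻¹ ∈ Z := hZ a ha _ (inv_mem hy)
    have h2 : y * a * y⁻¹ * a⁻¹ = y * (a * y⁻¹ * a⁻¹) := by group
    rw [h2]
    exact mul_mem hy h1
  · exact mul_mem (hAn.conj_mem a ha y) (inv_mem ha)

/-- `A` normalizes `Y` elementwise -/
theorem coresplit_normY (h : CoreSetup Y A) : ∀ a ∈ A, ∀ z ∈ Y, a * z * a⁻¹ ∈ Y := by
  intro a ha z hz
  exact (Subgroup.mem_normalizer_iff.mp (h.norm ha) z).mp hz

/-- `A` normalizes every conjugate of `Y` elementwise -/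
theorem coresplit_normYg (h : CoreSetup Y A) (g : H) :
    ∀ a ∈ A, ∀ z ∈ cj g Y, a * z * a⁻¹ ∈ cj g Y := by
  intro a ha z hz
  rw [mem_cj_iff] at hz ⊢
  have hAn := h.normal
  have ha' : g⁻¹ * a * g ∈ A := by
    have := hAn.conj_mem a ha g⁻¹
    rwa [inv_inv] at this
  have h1 := coresplit_normY h _ ha' _ hz
  have h2 : g⁻¹ * (a * z * a⁻¹) * g = g⁻¹ * a * g * (g⁻¹ * z * g) * (g⁻¹ * a * g)⁻¹ := by group
  rw [h2]
  exact h1

/-- a subgroup `Z` whose commutators with `K ≤ A` land in `K` normalizes `K` -/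
theorem coresplit_le_normalizer {Z K : Subgroup H}
    (hc : ∀ y ∈ Z, ∀ k ∈ K, y * k * y⁻¹ * k⁻¹ ∈ K) : Z ≤ Subgroup.normalizer (K : Set H) := by
  have hfw : ∀ y ∈ Z, ∀ k ∈ K, y * k * y⁻¹ ∈ K := by
    intro y hy k hk
    have h1 := mul_mem (hc y hy k hk) hk
    have h2 : y * k * y⁻¹ * k⁻¹ * k = y * k * y⁻¹ := by group
    rwa [h2] at h1
  intro y hy
  rw [Subgroup.mem_normalizer_iff]
  intro n
  constructor
  · exact hfw y hy n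
  · intro hn
    have h1 := hfw y⁻¹ (inv_mem hy) _ hn
    have h2 : y⁻¹ * (y * n * y⁻¹) * y⁻¹⁻¹ = n := by group
    rwa [h2] at h1

/-- LEAF CORE-SPLIT. `W = Y ⊓ A`, `W' = Y^g ⊓ A`. `[Y, A] ≤ W`, `[Y^g, A] ≤ W'` (`core_comm_mem`,
`coreSetup_cj`), so `[W, W'] ≤ W ⊓ W'`, `W` normalizes `W'`, `K = W ⊔ W' = W W'`; `K` is normalized
by `Y` and `Y^g` (`y k y⁻¹ = [y,k] k`), hence normal; `A = normalClosure W ≤ K`. -/
theorem core_split (h : CoreSetup Y A) {g : H} (hg : g ∉ Subgroup.normalizer (Y : Set H))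
    {a : H} (ha : a ∈ A) : ∃ w ∈ Y ⊓ A, ∃ w' ∈ cj g Y ⊓ A, a = w * w' := by
  have hAn := h.normal
  have hcY : ∀ y ∈ Y, ∀ b ∈ A, y * b * y⁻¹ * b⁻¹ ∈ Y ⊓ A := fun y hy b hb =>
    coresplit_comm hAn (coresplit_normY h) hy hb
  have hcYg : ∀ y ∈ cj g Y, ∀ b ∈ A, y * b * y⁻¹ * b⁻¹ ∈ cj g Y ⊓ A := fun y hy b hb =>
    coresplit_comm hAn (coresplit_normYg h g) hy hb
  -- `W` normalizes `W'`
  have hWW' : (Y ⊓ A) ≤ Subgroup.normalizer ((cj g Y ⊓ A : Subgroup H) : Set H) := by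
    apply coresplit_le_normalizer
    intro y hy k hk
    -- `[y, k] = ([k, y])⁻¹` and `[k, y] ∈ W'` as `k ∈ Y^g`, `y ∈ A`
    have h1 := hcYg k hk.1 y hy.2
    have h2 : y * k * y⁻¹ * k⁻¹ = (k * y * k⁻¹ * y⁻¹)⁻¹ := by group
    rw [h2]
    exact inv_mem h1
  have hKA : (Y ⊓ A) ⊔ (cj g Y ⊓ A) ≤ A := sup_le inf_le_right inf_le_right
  -- `Y` and `Y^g` normalize `K`
  have hYK : Y ≤ Subgroup.normalizer (((Y ⊓ A) ⊔ (cj g Y ⊓ A) : Subgroup H) : Set H) := by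
    apply coresplit_le_normalizer
    intro y hy k hk
    exact (le_sup_left : (Y ⊓ A) ≤ _) (hcY y hy k (hKA hk))
  have hYgK : cj g Y ≤ Subgroup.normalizer (((Y ⊓ A) ⊔ (cj g Y ⊓ A) : Subgroup H) : Set H) := by
    apply coresplit_le_normalizer
    intro y hy k hk
    exact (le_sup_right : (cj g Y ⊓ A) ≤ _) (hcYg y hy k (hKA hk))
  have htop : Subgroup.normalizer (((Y ⊓ A) ⊔ (cj g Y ⊓ A) : Subgroup H) : Set H) = ⊤ := by
    rw [eq_top_iff, ← h.opp g hg]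
    exact sup_le hYK hYgK
  have hKn : ((Y ⊓ A) ⊔ (cj g Y ⊓ A) : Subgroup H).Normal :=
    Subgroup.normalizer_eq_top_iff.mp htop
  have haK : a ∈ (Y ⊓ A) ⊔ (cj g Y ⊓ A) := by
    have h1 : Subgroup.normalClosure ((Y ⊓ A : Subgroup H) : Set H) ≤ (Y ⊓ A) ⊔ (cj g Y ⊓ A) :=
      Subgroup.normalClosure_le_normal (fun x hx => (le_sup_left : (Y ⊓ A) ≤ _) hx)
    apply h1
    rw [← h.acl]
    exact ha
  have hset := Subgroup.coe_mul_of_left_le_normalizer_right (Y ⊓ A) (cj g Y ⊓ A) hWW'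
  have ha2 : a ∈ (((Y ⊓ A) ⊔ (cj g Y ⊓ A) : Subgroup H) : Set H) := haK
  rw [hset] at ha2
  obtain ⟨w, hw, w', hw', hww⟩ := ha2
  exact ⟨w, hw, w', hw', hww.symm⟩

end core

end Cfsg.Agent.Lib.Helper47.FL
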