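import Mathlib

set_option autoImplicit false

namespace Cfsg.Agent.Lib.Helper4

/-- Orbit-stabilizer for conjugacy classes, in `Nat.card` form. -/
theorem card_conj_mul_card_centralizer {G : Type*} [Group G] [Finite G] (t : G) :
    Nat.card {v : G // IsConj t v} * Nat.card (Subgroup.centralizer ({t} : Set G)) = Nat.card G := by
  classical
  have hsec : ∀ v : {v : G // IsConj t v}, ∃ g : G, g * t * g⁻¹ = v.1 := fun v => isConj_iff.1 v.2
  choose σ hσ using hsec
  let e : G ≃ {v : G // IsConj t v} × Subgroup.centralizer ({t} : Set G) :=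
    { toFun := fun g => (⟨g * t * g⁻¹, isConj_iff.2 ⟨g, rfl⟩⟩,
        ⟨(σ ⟨g * t * g⁻¹, isConj_iff.2 ⟨g, rfl⟩⟩)⁻¹ * g, by
          rw [Subgroup.mem_centralizer_singleton_iff]
          have h := hσ ⟨g * t * g⁻¹, isConj_iff.2 ⟨g, rfl⟩⟩
          simp only at h
          set a := σ ⟨g * t * g⁻¹, isConj_iff.2 ⟨g, rfl⟩⟩ with ha
          have h1 : a * t = g * t * g⁻¹ * a := by
            rw [← h]; simp [mul_assoc]
          have h2 : t = a⁻¹ * (g * t * g⁻¹) * a := by
            rw [← h]; simp [mul_assoc]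
          calc a⁻¹ * g * t = a⁻¹ * (g * t * g⁻¹) * a * (a⁻¹ * g) := by simp [mul_assoc]
            _ = t * (a⁻¹ * g) := by rw [← h2]⟩)
      invFun := fun vc => σ vc.1 * vc.2.1
      left_inv := by
        intro g
        simp
      right_inv := by
        rintro ⟨v, c, hc⟩
        have hc' : c * t = t * c := Subgroup.mem_centralizer_singleton_iff.1 hc
        have key : σ v * c * t * (σ v * c)⁻¹ = v.1 := by
          rw [← hσ v]
          calc σ v * c * t * (σ v * c)⁻¹ = σ v * (c * t) * c⁻¹ * (σ v)⁻¹ := by simp [mul_assoc]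
            _ = σ v * (t * c) * c⁻¹ * (σ v)⁻¹ := by rw [hc']
            _ = σ v * t * (σ v)⁻¹ := by simp [mul_assoc]
        have hv : (⟨σ v * c * t * (σ v * c)⁻¹, isConj_iff.2 ⟨σ v * c, rfl⟩⟩ : {v : G // IsConj t v}) = v :=
          Subtype.ext key
        simp only
        rw [Prod.mk.injEq]
        refine ⟨hv, ?_⟩
        apply Subtype.ext
        simp only
        rw [hv]
        simp }
  rw [← Nat.card_prod, ← Nat.card_congr e]

end Cfsg.Agent.Lib.Helper4
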