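import Mathlib
import Cfsg.Agent.Lib.Helper29.ExtraTwoRank

set_option autoImplicit false
set_option linter.unusedSectionVars false

/-!
The squaring map and the commutator pairing of a group with centre `{1, z}` containing the
commutator subgroup, as `ZMod 2`-valued functions: `sq (x y) = sq x + sq y + cmb x y`, `cmb` is
biadditive, and both only depend on the cosets of the centre.
-/

namespace Cfsg.Agent.Lib.Helper4.EQ

open Cfsg.Agent.Lib.Helper29

variable {P : Type*} [Group P]

/-- the squaring map with values in `ZMod 2` -/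
noncomputable def sq (x : P) : ZMod 2 := by
  classical exact if x * x = 1 then 0 else 1

/-- the commutator pairing with values in `ZMod 2` -/
noncomputable def cmb (x y : P) : ZMod 2 := by
  classical exact if x * y = y * x then 0 else 1

theorem sq_eq_zero_iff (x : P) : sq x = 0 ↔ x * x = 1 := by
  classical
  unfold sq
  by_cases h : x * x = 1
  · simp [h]
  · simp [h]

theorem cmb_eq_zero_iff (x y : P) : cmb x y = 0 ↔ x * y = y * x := by
  classical
  unfold cmb
  by_cases h : x * y = y * x
  · simp [h]
  · simp [h]

theorem sq_of (x : P) (h : x * x = 1) : sq x = 0 := (sq_eq_zero_iff x).mpr h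

theorem sq_of_ne (x : P) (h : x * x ≠ 1) : sq x = 1 := by
  classical
  unfold sq
  simp [h]

theorem cmb_of (x y : P) (h : x * y = y * x) : cmb x y = 0 := (cmb_eq_zero_iff x y).mpr h

theorem cmb_of_ne (x y : P) (h : x * y ≠ y * x) : cmb x y = 1 := by
  classical
  unfold cmb
  simp [h]

theorem zmod_two_add_self (a : ZMod 2) : a + a = 0 := by
  revert a; decide

variable {z : P} (h : IsE2 P z)
include h

theorem sq_mul (x y : P) : sq (x * y) = sq x + sq y + cmb x y := by
  have hz1 : z ≠ 1 := h.ne
  have hzz : z * z = 1 := h.sq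
  by_cases hc : x * y = y * x
  · rw [cmb_of x y hc, add_zero]
    have e := mul_sq_of_comm hc
    rcases h.sq_cases x with hx | hx <;> rcases h.sq_cases y with hy | hy
    · rw [sq_of x hx, sq_of y hy, sq_of (x * y) (by rw [e, hx, hy, mul_one])]; rfl
    · rw [sq_of x hx, sq_of_ne y (by rw [hy]; exact hz1),
        sq_of_ne (x * y) (by rw [e, hx, hy, one_mul]; exact hz1)]; rfl
    · rw [sq_of_ne x (by rw [hx]; exact hz1), sq_of y hy,
        sq_of_ne (x * y) (by rw [e, hx, hy, mul_one]; exact hz1)]; rfl
    · rw [sq_of_ne x (by rw [hx]; exact hz1), sq_of_ne y (by rw [hy]; exact hz1),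
        sq_of (x * y) (by rw [e, hx, hy, hzz])]; rfl
  · rw [cmb_of_ne x y hc]
    have e := h.mul_sq_of_not_comm hc
    rcases h.sq_cases x with hx | hx <;> rcases h.sq_cases y with hy | hy
    · rw [sq_of x hx, sq_of y hy,
        sq_of_ne (x * y) (by rw [e, hx, hy, mul_one, mul_one]; exact hz1)]; rfl
    · rw [sq_of x hx, sq_of_ne y (by rw [hy]; exact hz1),
        sq_of (x * y) (by rw [e, hx, hy, one_mul, hzz])]; rfl
    · rw [sq_of_ne x (by rw [hx]; exact hz1), sq_of y hy,
        sq_of (x * y) (by rw [e, hx, hy, mul_one, hzz])]; rfl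
    · rw [sq_of_ne x (by rw [hx]; exact hz1), sq_of_ne y (by rw [hy]; exact hz1),
        sq_of_ne (x * y) (by rw [e, hx, hy, hzz, mul_one]; exact hz1)]; rfl

theorem cmb_mul_left (x y w : P) : cmb (x * y) w = cmb x w + cmb y w := by
  have hz1 : z ≠ 1 := h.ne
  have hzz : z * z = 1 := h.sq
  by_cases h1 : x * w = w * x <;> by_cases h2 : y * w = w * y
  · rw [cmb_of x w h1, cmb_of y w h2, cmb_of (x * y) w]
    · rfl
    · calc x * y * w = x * (y * w) := by group
        _ = x * (w * y) := by rw [h2]
        _ = (x * w) * y := by group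
        _ = (w * x) * y := by rw [h1]
        _ = w * (x * y) := by group
  · rw [cmb_of x w h1, cmb_of_ne y w h2, cmb_of_ne (x * y) w]
    · rfl
    · intro e
      apply h2
      have : x * (y * w) = x * (w * y) := by
        calc x * (y * w) = x * y * w := by group
          _ = w * (x * y) := e
          _ = (w * x) * y := by group
          _ = (x * w) * y := by rw [h1]
          _ = x * (w * y) := by group
      exact mul_left_cancel this
  · rw [cmb_of_ne x w h1, cmb_of y w h2, cmb_of_ne (x * y) w]
    · rfl
    · intro e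
      apply h1
      have : (x * w) * y = (w * x) * y := by
        calc (x * w) * y = x * (w * y) := by group
          _ = x * (y * w) := by rw [h2]
          _ = x * y * w := by group
          _ = w * (x * y) := e
          _ = (w * x) * y := by group
      exact mul_right_cancel this
  · rw [cmb_of_ne x w h1, cmb_of_ne y w h2, cmb_of (x * y) w]
    · rfl
    · have e1 := h.mul_eq_z_mul h1
      have e2 := h.mul_eq_z_mul h2
      calc x * y * w = x * (y * w) := by group
        _ = x * (z * (w * y)) := by rw [e2]
        _ = (x * z) * (w * y) := by group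
        _ = (z * x) * (w * y) := by rw [h.zcomm x]
        _ = z * (x * w) * y := by group
        _ = z * (z * (w * x)) * y := by rw [e1]
        _ = (z * z) * (w * (x * y)) := by group
        _ = w * (x * y) := by rw [hzz, one_mul]

theorem cmb_symm (x y : P) : cmb x y = cmb y x := by
  by_cases hc : x * y = y * x
  · rw [cmb_of x y hc, cmb_of y x hc.symm]
  · rw [cmb_of_ne x y hc, cmb_of_ne y x (fun e => hc e.symm)]

/-- central elements have square one -/
theorem central_sq {c : P} (hc : c ∈ Subgroup.center P) : c * c = 1 := by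
  rcases h.all c hc with h1 | h1
  · rw [h1, one_mul]
  · rw [h1]; exact h.sq

theorem sq_mul_central (x : P) {c : P} (hc : c ∈ Subgroup.center P) : sq (x * c) = sq x := by
  have e : (x * c) * (x * c) = x * x := by
    have hcx : c * x = x * c := (Subgroup.mem_center_iff.mp hc x).symm
    calc (x * c) * (x * c) = x * (c * x) * c := by group
      _ = x * (x * c) * c := by rw [hcx]
      _ = (x * x) * (c * c) := by group
      _ = x * x := by rw [central_sq h hc, mul_one]
  by_cases hx : x * x = 1
  · rw [sq_of x hx, sq_of (x * c) (by rw [e, hx])]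
  · rw [sq_of_ne x hx, sq_of_ne (x * c) (by rw [e]; exact hx)]

theorem cmb_mul_central (x y : P) {c : P} (hc : c ∈ Subgroup.center P) :
    cmb (x * c) y = cmb x y := by
  have hcy : c * y = y * c := (Subgroup.mem_center_iff.mp hc y).symm
  have hcx : c * x = x * c := (Subgroup.mem_center_iff.mp hc x).symm
  have key : (x * c) * y = y * (x * c) ↔ x * y = y * x := by
    constructor
    · intro e
      have : (x * y) * c = (y * x) * c := by
        calc (x * y) * c = x * (y * c) := by group
          _ = x * (c * y) := by rw [hcy]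
          _ = (x * c) * y := by group
          _ = y * (x * c) := e
          _ = (y * x) * c := by group
      exact mul_right_cancel this
    · intro e
      calc (x * c) * y = x * (c * y) := by group
        _ = x * (y * c) := by rw [hcy]
        _ = (x * y) * c := by group
        _ = (y * x) * c := by rw [e]
        _ = y * (x * c) := by group
  by_cases hxy : x * y = y * x
  · rw [cmb_of x y hxy, cmb_of (x * c) y (key.mpr hxy)]
  · rw [cmb_of_ne x y hxy, cmb_of_ne (x * c) y (fun e => hxy (key.mp e))]

/-- `sq` only depends on the coset of the centre -/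
theorem sq_congr {x y : P}
    (e : (QuotientGroup.mk x : P ⧸ Subgroup.center P) = QuotientGroup.mk y) : sq x = sq y := by
  have h1 : x⁻¹ * y ∈ Subgroup.center P := QuotientGroup.eq.mp e
  obtain ⟨c, hc, rfl⟩ : ∃ c ∈ Subgroup.center P, y = x * c := ⟨x⁻¹ * y, h1, by group⟩
  rw [sq_mul_central h x hc]

/-- `cmb` only depends on the coset of the centre (left argument) -/
theorem cmb_congr_left {x x' : P} (y : P)
    (e : (QuotientGroup.mk x : P ⧸ Subgroup.center P) = QuotientGroup.mk x') :
    cmb x y = cmb x' y := by
  have h1 : x⁻¹ * x' ∈ Subgroup.center P := QuotientGroup.eq.mp e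
  obtain ⟨c, hc, rfl⟩ : ∃ c ∈ Subgroup.center P, x' = x * c := ⟨x⁻¹ * x', h1, by group⟩
  rw [cmb_mul_central h x y hc]

theorem cmb_congr {x x' y y' : P}
    (e : (QuotientGroup.mk x : P ⧸ Subgroup.center P) = QuotientGroup.mk x')
    (e' : (QuotientGroup.mk y : P ⧸ Subgroup.center P) = QuotientGroup.mk y') :
    cmb x y = cmb x' y' := by
  rw [cmb_congr_left h y e, cmb_symm h x' y, cmb_congr_left h x' e', cmb_symm h y' x']

/-- in a non-commutative group of this kind some element has non-trivial square -/
theorem exists_sq_ne (hna : ∃ x y : P, x * y ≠ y * x) : ∃ x : P, sq x = 1 := by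
  obtain ⟨x, y, hxy⟩ := hna
  by_cases hx : x * x = 1
  · by_cases hy : y * y = 1
    · refine ⟨x * y, ?_⟩
      rw [sq_mul h, sq_of x hx, sq_of y hy, cmb_of_ne x y hxy]; rfl
    · exact ⟨y, sq_of_ne y hy⟩
  · exact ⟨x, sq_of_ne x hx⟩

end Cfsg.Agent.Lib.Helper4.EQ
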