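import Mathlib
import Cfsg.Agent.Lib.Conway.Order
import Cfsg.Agent.S0365
import Cfsg.Agent.S0398

set_option autoImplicit false

/-!
The stabiliser of the standard cross modulo `2Λ`: normal `2`-subgroups consist of sign changes.
-/

namespace Cfsg.Agent.Lib.Helper4.XS

open Cfsg Cfsg.Agent.Lib.Conway Cfsg.Agent.Lib.Helper93.Leech Cfsg.Agent.Lib.Helper93.Golay
open Cfsg.Agent.S1571 (Stab mono_stab param param_injective param_surjective)
open scoped Pointwise

/-! ### Monomial algebra -/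

theorem mono_mul (σ τ : Equiv.Perm GolayPt) (c d : Finset GolayPt) (hσ : σ ∈ M24) (hτ : τ ∈ M24)
    (hc : c ∈ CS) (hd : d ∈ CS) :
    mono σ c hσ hc * mono τ d hτ hd =
      mono (σ * τ) (symmDiff c (σ • d)) (M24.mul_mem hσ hτ)
        (symmDiff_mem_supports hc (smul_mem_supports_of_mem_M24 hσ hd)) := by
  apply co0_ext
  intro v
  apply Subtype.ext
  rw [co0_mul_smul, mono_smul, mono_smul, mono_smul, signedPerm_signedPerm]

theorem mono_one : mono 1 ∅ M24.one_mem empty_mem_supports = 1 := by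
  apply co0_ext
  intro v
  apply Subtype.ext
  rw [mono_smul, signedPerm_one_empty]
  rfl

theorem mono_inv (σ : Equiv.Perm GolayPt) (c : Finset GolayPt) (hσ : σ ∈ M24) (hc : c ∈ CS) :
    (mono σ c hσ hc)⁻¹ = mono σ⁻¹ (σ⁻¹ • c) (M24.inv_mem hσ)
      (smul_mem_supports_of_mem_M24 (M24.inv_mem hσ) hc) := by
  rw [inv_eq_iff_mul_eq_one]
  apply co0_ext
  intro v
  apply Subtype.ext
  rw [co0_mul_smul, mono_smul, mono_smul, signedPerm_inv']
  rfl

theorem exists_mono (γ : Co0) (H : Stab γ) :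
    ∃ (σ : Equiv.Perm GolayPt) (c : Finset GolayPt) (hσ : σ ∈ M24) (hc : c ∈ CS),
      γ = mono σ c hσ hc := by
  obtain ⟨⟨⟨σ, hσ⟩, ⟨c, hc⟩⟩, h⟩ := param_surjective ⟨γ, H⟩
  exact ⟨σ, c, hσ, hc, (congrArg Subtype.val h).symm⟩

theorem mono_inj {σ τ : Equiv.Perm GolayPt} {c d : Finset GolayPt} {hσ : σ ∈ M24} {hτ : τ ∈ M24}
    {hc : c ∈ CS} {hd : d ∈ CS} (h : mono σ c hσ hc = mono τ d hτ hd) : σ = τ ∧ c = d := by
  have h1 : param (⟨σ, hσ⟩, ⟨c, hc⟩) = param (⟨τ, hτ⟩, ⟨d, hd⟩) := Subtype.ext h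
  have h2 := param_injective h1
  exact ⟨congrArg (fun p : M24 × CS => (p.1 : Equiv.Perm GolayPt)) h2,
    congrArg (fun p : M24 × CS => (p.2 : Finset GolayPt)) h2⟩

theorem stab_one : Stab 1 := fun _ hv => hv

theorem stab_inv {γ : Co0} (H : Stab γ) : Stab γ⁻¹ := by
  obtain ⟨σ, c, hσ, hc, rfl⟩ := exists_mono γ H
  rw [mono_inv]
  exact mono_stab _ _ _ _

/-- the stabiliser of the standard cross -/
def SS : Subgroup Co0 where
  carrier := {γ | Stab γ}
  one_mem' := stab_one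
  mul_mem' := fun ha hb => stab_mul ha hb
  inv_mem' := fun ha => stab_inv ha

theorem mem_SS {γ : Co0} : γ ∈ SS ↔ Stab γ := Iff.rfl


/-! ### The permutation part -/

/-- the permutation part of an element of the stabiliser -/
noncomputable def perm (γ : SS) : M24 :=
  ((Equiv.ofBijective param ⟨param_injective, param_surjective⟩).symm ⟨γ.1, γ.2⟩).1

theorem perm_mono (σ : Equiv.Perm GolayPt) (c : Finset GolayPt) (hσ : σ ∈ M24) (hc : c ∈ CS)
    (h : mono σ c hσ hc ∈ SS) : perm ⟨mono σ c hσ hc, h⟩ = ⟨σ, hσ⟩ := by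
  unfold perm
  have : (Equiv.ofBijective param ⟨param_injective, param_surjective⟩).symm
      ⟨mono σ c hσ hc, h⟩ = (⟨σ, hσ⟩, ⟨c, hc⟩) := by
    rw [Equiv.symm_apply_eq]
    rfl
  rw [this]

/-- the permutation part as a homomorphism -/
noncomputable def permHom : SS →* M24 where
  toFun := perm
  map_one' := by
    have h : (1 : SS) = ⟨mono 1 ∅ M24.one_mem empty_mem_supports, by rw [mono_one]; exact SS.one_mem⟩ :=
      Subtype.ext mono_one.symm
    rw [h, perm_mono]
    rfl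
  map_mul' := by
    rintro ⟨a, ha⟩ ⟨b, hb⟩
    obtain ⟨σ, c, hσ, hc, rfl⟩ := exists_mono a ha
    obtain ⟨τ, d, hτ, hd, rfl⟩ := exists_mono b hb
    have h : (⟨mono σ c hσ hc, ha⟩ * ⟨mono τ d hτ hd, hb⟩ : SS) =
        ⟨mono (σ * τ) (symmDiff c (σ • d)) (M24.mul_mem hσ hτ)
          (symmDiff_mem_supports hc (smul_mem_supports_of_mem_M24 hσ hd)),
          by rw [← mono_mul σ τ c d hσ hτ hc hd]; exact SS.mul_mem ha hb⟩ :=
      Subtype.ext (mono_mul σ τ c d hσ hτ hc hd)
    show perm _ = perm _ * perm _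
    rw [h, perm_mono, perm_mono, perm_mono]
    rfl

theorem permHom_mono (σ : Equiv.Perm GolayPt) (c : Finset GolayPt) (hσ : σ ∈ M24) (hc : c ∈ CS)
    (h : mono σ c hσ hc ∈ SS) : permHom ⟨mono σ c hσ hc, h⟩ = ⟨σ, hσ⟩ := perm_mono σ c hσ hc h

theorem permHom_surjective : Function.Surjective permHom := by
  rintro ⟨σ, hσ⟩
  exact ⟨⟨mono σ ∅ hσ empty_mem_supports, mono_stab _ _ _ _⟩, permHom_mono _ _ _ _ _⟩

theorem eq_mono_one_of_permHom {γ : SS} (h : permHom γ = 1) :
    ∃ (c : Finset GolayPt) (hc : c ∈ CS), (γ : Co0) = mono 1 c M24.one_mem hc := by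
  obtain ⟨γ, hγ⟩ := γ
  obtain ⟨σ, c, hσ, hc, rfl⟩ := exists_mono γ hγ
  rw [permHom_mono] at h
  have : σ = 1 := congrArg Subtype.val h
  subst this
  exact ⟨c, hc, rfl⟩

/-! ### Normal `2`-subgroups of `M24` -/

theorem m24_normal_two (N : Subgroup M24) [N.Normal] (hN : IsPGroup 2 N) : N = ⊥ := by
  have := Cfsg.Agent.S0365.result
  rcases Subgroup.Normal.eq_bot_or_eq_top (inferInstance : N.Normal) with h | h
  · exact h
  · exfalso
    subst h
    have : Finite M24 := Nat.finite_of_card_ne_zero (by rw [Cfsg.Agent.S0364.result]; norm_num)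
    have h2 : IsPGroup 2 M24 := hN.of_equiv Subgroup.topEquiv
    obtain ⟨n, hn⟩ := h2.exists_card_eq
    rw [Cfsg.Agent.S0364.result] at hn
    have h3 : (3 : ℕ) ∣ 2 ^ n := by rw [← hn]; norm_num
    have := (Nat.Prime.dvd_of_dvd_pow Nat.prime_three h3)
    omega

/-- a normal `2`-subgroup of the stabiliser of the standard cross consists of sign changes -/
theorem sign_of_normal (T : Subgroup Co0) (hTS : T ≤ SS) (hT2 : IsPGroup 2 T)
    (hTn : ∀ κ ∈ SS, ∀ t ∈ T, κ * t * κ⁻¹ ∈ T) {t : Co0} (ht : t ∈ T) :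
    ∃ (c : Finset GolayPt) (hc : c ∈ CS), t = mono 1 c M24.one_mem hc := by
  have : (T.subgroupOf SS).Normal := by
    constructor
    intro n hn g
    rw [Subgroup.mem_subgroupOf] at hn ⊢
    exact hTn g g.2 n hn
  have : ((T.subgroupOf SS).map permHom).Normal :=
    Subgroup.Normal.map inferInstance permHom permHom_surjective
  have h2 : IsPGroup 2 ((T.subgroupOf SS).map permHom) := by
    apply IsPGroup.map
    exact hT2.comap_of_injective _ (Subgroup.subtype_injective _)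
  have hbot := m24_normal_two _ h2
  have hmem : permHom ⟨t, hTS ht⟩ ∈ (T.subgroupOf SS).map permHom :=
    Subgroup.mem_map_of_mem _ (Subgroup.mem_subgroupOf.mpr ht)
  rw [hbot, Subgroup.mem_bot] at hmem
  exact eq_mono_one_of_permHom hmem


/-! ### Congruence modulo `2Λ` with the base frame vector -/

theorem stab_of_cong (h : Co0) (hh : ∃ w : leechLattice, h • F0 = F0 + (w + w)) : Stab h := by
  obtain ⟨w, hw⟩ := hh
  rintro v ⟨i, s, hs, hv⟩
  apply mem_stdCross_of_cong _ (h • v).2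
  · rw [co0_norm, hv, sqNorm_single]
    rcases hs with rfl | rfl <;> norm_num
  · obtain ⟨z, hz, hzv⟩ := frame_cong i s hs
    have e : F0 - v = (⟨z, hz⟩ : leechLattice) + ⟨z, hz⟩ := by
      apply Subtype.ext
      rw [AddSubgroup.coe_sub, hv, hzv]
      rfl
    have e2 : F0 - h • v = (h • (⟨z, hz⟩ : leechLattice) - w) + (h • (⟨z, hz⟩ : leechLattice) - w) := by
      have e3 := congrArg (fun x : leechLattice => h • x) e
      simp only [co0_sub, co0_add, hw] at e3
      have : F0 - h • v = (F0 + (w + w) - h • v) - (w + w) := by abel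
      rw [this, e3]
      abel
    refine ⟨((h • (⟨z, hz⟩ : leechLattice) - w : leechLattice) : Vec), (h • (⟨z, hz⟩ : leechLattice) - w).2, ?_⟩
    have := congrArg (fun x : leechLattice => (x : Vec)) e2
    simpa only [AddSubgroup.coe_sub, AddSubgroup.coe_add] using this

theorem cong_of_stab {κ : Co0} (H : Stab κ) : ∃ w : leechLattice, κ • F0 = F0 + (w + w) := by
  obtain ⟨i, s, hs, hv⟩ := H F0 (Cfsg.Agent.S1571.fr_mem_stdCross pa)
  obtain ⟨z, hz, hzv⟩ := frame_cong i s hs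
  refine ⟨-⟨z, hz⟩, ?_⟩
  apply Subtype.ext
  rw [hv]
  have : (Pi.single i s : Vec) = (F0 : Vec) - ((F0 : Vec) - Pi.single i s) := by abel
  rw [this, hzv]
  simp only [AddSubgroup.coe_add, AddSubgroup.coe_neg]
  abel

/-! ### The centre -/

theorem negCo0_sq : negCo0 * negCo0 = 1 := by
  apply co0_ext
  intro v
  rw [co0_mul_smul, negCo0_smul, negCo0_smul, neg_neg]
  rfl

theorem center_isPGroup : IsPGroup 2 (Subgroup.center Co0) := by
  rintro ⟨c, hc⟩
  refine ⟨1, Subtype.ext ?_⟩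
  show c ^ 2 ^ 1 = 1
  rcases Cfsg.Agent.S0398.central_cases c hc with rfl | rfl
  · simp
  · rw [pow_one, pow_two, negCo0_sq]

theorem mk_negCo0 : (QuotientGroup.mk negCo0 : Spor.Co1) = 1 :=
  (QuotientGroup.eq_one_iff _).mpr Cfsg.Agent.S0398.negCo0_mem_center

theorem mono_one_compl (c : Finset GolayPt) (hc : c ∈ CS) :
    mono 1 cᶜ M24.one_mem (compl_mem_supports hc) = negCo0 * mono 1 c M24.one_mem hc := by
  apply co0_ext
  intro v
  apply Subtype.ext
  rw [co0_mul_smul, negCo0_smul, mono_smul, AddSubgroup.coe_neg, mono_smul]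
  funext i
  simp only [signedPerm_apply, Pi.neg_apply, Finset.mem_compl]
  by_cases h : i ∈ c <;> simp [h]

/-! ### Counting code words avoiding a point -/

theorem card_avoid_le : 2 * Nat.card {c : CS // pa ∉ c.1} ≤ 4096 := by
  rw [← Cfsg.Agent.S1571.card_CS]
  have hfin : Finite CS := Subtype.finite
  let f : {c : CS // pa ∉ c.1} ⊕ {c : CS // pa ∉ c.1} → CS := fun x =>
    match x with
    | Sum.inl c => c.1
    | Sum.inr c => ⟨c.1.1ᶜ, compl_mem_supports c.1.2⟩
  have hf : Function.Injective f := by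
    rintro (a | a) (b | b) h
    · exact congrArg Sum.inl (Subtype.ext h)
    · exfalso
      have h1 : a.1.1 = b.1.1ᶜ := congrArg Subtype.val h
      have := a.2
      rw [h1, Finset.mem_compl] at this
      exact this b.2
    · exfalso
      have h1 : a.1.1ᶜ = b.1.1 := congrArg Subtype.val h
      have := b.2
      rw [← h1, Finset.mem_compl] at this
      exact this a.2
    · have h1 : a.1.1ᶜ = b.1.1ᶜ := congrArg Subtype.val h
      exact congrArg Sum.inr (Subtype.ext (Subtype.ext (compl_injective h1)))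
  have := Nat.card_le_card_of_injective f hf
  rw [Nat.card_sum] at this
  omega


/-! ### The main bound -/

/-- the lifts to `Co0`, conjugated back to the standard cross, of a subgroup of `Co1` -/
def lift (g0 : Co0) (T : Subgroup Spor.Co1) : Subgroup Co0 :=
  (T.comap (QuotientGroup.mk' (Subgroup.center Co0))).comap (MulAut.conj g0).toMonoidHom

theorem mem_lift {g0 : Co0} {T : Subgroup Spor.Co1} {γ : Co0} :
    γ ∈ lift g0 T ↔ (QuotientGroup.mk (g0 * γ * g0⁻¹) : Spor.Co1) ∈ T := Iff.rfl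

theorem lift_isPGroup (g0 : Co0) (T : Subgroup Spor.Co1) (hT2 : IsPGroup 2 T) :
    IsPGroup 2 (lift g0 T) := by
  unfold lift
  apply IsPGroup.comap_of_injective
  · apply hT2.comap_of_ker_isPGroup
    rw [QuotientGroup.ker_mk']
    exact center_isPGroup
  · exact (MulAut.conj g0).injective

section main

variable (v : leechLattice) (g0 : Co0) (hg0 : g0 • F0 = v) (T : Subgroup Spor.Co1)
  (hTv : ∀ γ : Co0, (QuotientGroup.mk γ : Spor.Co1) ∈ T → ∃ w : leechLattice, γ • v = v + (w + w))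

include hg0 hTv in
theorem lift_le_SS : lift g0 T ≤ SS := by
  intro γ hγ
  obtain ⟨w, hw⟩ := hTv _ (mem_lift.mp hγ)
  apply stab_of_cong
  refine ⟨g0⁻¹ • w, ?_⟩
  have h1 : g0 • (γ • F0) = v + (w + w) := by
    have : (g0 * γ * g0⁻¹) • v = g0 • (γ • F0) := by
      rw [mul_smul, mul_smul, ← hg0, inv_smul_smul]
    rw [← this, hw]
  have h2 : γ • F0 = g0⁻¹ • (v + (w + w)) := by rw [← h1, inv_smul_smul]
  rw [h2, co0_add, co0_add, ← hg0, inv_smul_smul]

include hg0 in
theorem conj_cong_of_stab {κ : Co0} (H : Stab κ) :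
    ∃ w : leechLattice, (g0 * κ * g0⁻¹) • v = v + (w + w) := by
  obtain ⟨w, hw⟩ := cong_of_stab H
  refine ⟨g0 • w, ?_⟩
  rw [mul_smul, mul_smul, ← hg0, inv_smul_smul, hw, co0_add, co0_add]

variable (hT2 : IsPGroup 2 T)
  (hTn : ∀ κ : Co0, (∃ w : leechLattice, κ • v = v + (w + w)) → ∀ t ∈ T,
    (QuotientGroup.mk κ : Spor.Co1) * t * (QuotientGroup.mk κ : Spor.Co1)⁻¹ ∈ T)

include hg0 hTv hT2 hTn in
theorem lift_sign {γ : Co0} (hγ : γ ∈ lift g0 T) :
    ∃ (c : Finset GolayPt) (hc : c ∈ CS), γ = mono 1 c M24.one_mem hc := by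
  refine sign_of_normal (lift g0 T) (lift_le_SS v g0 hg0 T hTv) (lift_isPGroup g0 T hT2) ?_ hγ
  intro κ hκ t ht
  rw [mem_lift] at ht ⊢
  have h1 := hTn _ (conj_cong_of_stab v g0 hg0 hκ) _ ht
  have e : g0 * (κ * t * κ⁻¹) * g0⁻¹ = (g0 * κ * g0⁻¹) * (g0 * t * g0⁻¹) * (g0 * κ * g0⁻¹)⁻¹ := by
    group
  rw [e, QuotientGroup.mk_mul, QuotientGroup.mk_mul, QuotientGroup.mk_inv]
  exact h1

/-- the parametrisation of the sign changes modulo `±1` -/
noncomputable def signMap (c : {c : CS // pa ∉ c.1}) : Spor.Co1 :=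
  QuotientGroup.mk (g0 * mono 1 c.1.1 M24.one_mem c.1.2 * g0⁻¹)

include hg0 hTv hT2 hTn in
theorem mem_range_signMap {t : Spor.Co1} (ht : t ∈ T) : t ∈ Set.range (signMap g0) := by
  obtain ⟨γ', rfl⟩ := QuotientGroup.mk_surjective t
  have hγ : g0⁻¹ * γ' * g0 ∈ lift g0 T := by
    rw [mem_lift]
    have : g0 * (g0⁻¹ * γ' * g0) * g0⁻¹ = γ' := by group
    rw [this]; exact ht
  obtain ⟨c, hc, hγc⟩ := lift_sign v g0 hg0 T hTv hT2 hTn hγ
  have hγ' : γ' = g0 * mono 1 c M24.one_mem hc * g0⁻¹ := by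
    rw [← hγc]; group
  by_cases hpa : pa ∈ c
  · refine ⟨⟨⟨cᶜ, compl_mem_supports hc⟩, by simpa using hpa⟩, ?_⟩
    unfold signMap
    rw [hγ']
    show (QuotientGroup.mk (g0 * mono 1 cᶜ M24.one_mem (compl_mem_supports hc) * g0⁻¹) :
      Spor.Co1) = _
    rw [mono_one_compl c hc]
    simp only [QuotientGroup.mk_mul, mk_negCo0, one_mul]
  · exact ⟨⟨⟨c, hc⟩, hpa⟩, by unfold signMap; rw [hγ']⟩

include hg0 hTv hT2 hTn in
/-- **The bound**: a normal `2`-subgroup of the stabiliser in `Co1` of a vector of type 4 modulo `2Λ`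
has order at most `2^11`. -/
theorem card_le : Nat.card T ≤ 2 ^ 11 := by
  have hfin : Finite {c : CS // pa ∉ c.1} := Subtype.finite
  have hsub : (T : Set Spor.Co1) ⊆ Set.range (signMap g0) := fun t ht =>
    mem_range_signMap v g0 hg0 T hTv hT2 hTn ht
  have h1 : Nat.card T ≤ Nat.card (Set.range (signMap g0)) :=
    Nat.card_mono (Set.finite_range _) hsub
  have h2 : Nat.card (Set.range (signMap g0)) ≤ Nat.card {c : CS // pa ∉ c.1} :=
    Nat.card_le_card_of_surjective _ (Set.rangeFactorization_surjective)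
  have h3 := card_avoid_le
  omega

end main

/-- the bound, for any vector of type 4 -/
theorem card_le' (v : leechLattice) (hv : sqNorm (v : Vec) = 64) (T : Subgroup Spor.Co1)
    (hTv : ∀ γ : Co0, (QuotientGroup.mk γ : Spor.Co1) ∈ T →
      ∃ w : leechLattice, γ • v = v + (w + w))
    (hT2 : IsPGroup 2 T)
    (hTn : ∀ κ : Co0, (∃ w : leechLattice, κ • v = v + (w + w)) → ∀ t ∈ T,
      (QuotientGroup.mk κ : Spor.Co1) * t * (QuotientGroup.mk κ : Spor.Co1)⁻¹ ∈ T) :
    Nat.card T ≤ 2 ^ 11 := by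
  obtain ⟨g0, hg0⟩ := trans8 F0 v sqNorm_F0 hv
  exact card_le v g0 hg0 T hTv hT2 hTn

end Cfsg.Agent.Lib.Helper4.XS
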