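import Mathlib
import Cfsg.Agent.Lib.Conway.Co2Main
import Cfsg.Agent.Lib.Conway.Trans8
import Cfsg.Agent.Lib.Conway.Order
import Cfsg.Agent.S1573
import Cfsg.Agent.S0392

set_option autoImplicit false

/-!
The stabiliser in `Co0` of a minimal vector has no nontrivial normal 2-subgroup.

The argument: the stabiliser `K` of `V0 = (4, -4, 0^22)` is transitive on the `93150` minimal
vectors orthogonal to `V0`, hence on the `46575` pairs `±u` of them; an odd number, so a normal
2-subgroup `P` of `K` fixes every pair.  The non-orthogonality graph on these vectors is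
connected, so each element of `P` acts on them by a uniform sign, and neither sign is possible
for a nontrivial element.
-/

namespace Cfsg.Agent.Lib.Helper4.C2C

open Cfsg Cfsg.Agent.Lib.Conway Cfsg.Agent.Lib.Golay.LeechBasis
open Cfsg.Agent.Lib.Helper93.Leech Cfsg.Agent.Lib.Helper93.Golay

/-! ### the vectors `±4 e_i ± 4 e_j` -/

/-- the vector `4σ e_i + 4τ e_j` -/
def tvec (i j : GolayPt) (σ τ : ℤ) : Vec := Pi.single i (4 * σ) + Pi.single j (4 * τ)

theorem tvec_apply (i j : GolayPt) (σ τ : ℤ) (k : GolayPt) :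
    tvec i j σ τ k = (if k = i then 4 * σ else 0) + (if k = j then 4 * τ else 0) := by
  simp only [tvec, Pi.add_apply, Pi.single_apply]

theorem dPlus_mem (i : GolayPt) :
    (fun k => (if k = pa then (4 : ℤ) else 0) + (if k = i then 4 else 0)) ∈ leechLattice :=
  mem_of_leechCond (diff_cond i).2

theorem dMinus_mem (i : GolayPt) :
    (fun k => (if k = pa then (4 : ℤ) else 0) - (if k = i then 4 else 0)) ∈ leechLattice :=
  mem_of_leechCond (diff_cond i).1

theorem tvec_mem (i j : GolayPt) (σ τ : ℤ) (hσ : σ = 1 ∨ σ = -1) (hτ : τ = 1 ∨ τ = -1) :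
    tvec i j σ τ ∈ leechLattice := by
  rcases hσ with rfl | rfl <;> rcases hτ with rfl | rfl
  · have e : tvec i j 1 1 = (fun k => (if k = pa then (4 : ℤ) else 0) + (if k = i then 4 else 0)) -
        (fun k => (if k = pa then (4 : ℤ) else 0) - (if k = j then 4 else 0)) := by
      funext k
      simp only [tvec_apply, Pi.sub_apply]
      split_ifs <;> ring
    rw [e]
    exact leechLattice.sub_mem (dPlus_mem i) (dMinus_mem j)
  · have e : tvec i j 1 (-1) = (fun k => (if k = pa then (4 : ℤ) else 0) + (if k = i then 4 else 0)) -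
        (fun k => (if k = pa then (4 : ℤ) else 0) + (if k = j then 4 else 0)) := by
      funext k
      simp only [tvec_apply, Pi.sub_apply]
      split_ifs <;> ring
    rw [e]
    exact leechLattice.sub_mem (dPlus_mem i) (dPlus_mem j)
  · have e : tvec i j (-1) 1 = (fun k => (if k = pa then (4 : ℤ) else 0) + (if k = j then 4 else 0)) -
        (fun k => (if k = pa then (4 : ℤ) else 0) + (if k = i then 4 else 0)) := by
      funext k
      simp only [tvec_apply, Pi.sub_apply]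
      split_ifs <;> ring
    rw [e]
    exact leechLattice.sub_mem (dPlus_mem j) (dPlus_mem i)
  · have e : tvec i j (-1) (-1) = (fun k => (if k = pa then (4 : ℤ) else 0) - (if k = j then 4 else 0)) -
        (fun k => (if k = pa then (4 : ℤ) else 0) + (if k = i then 4 else 0)) := by
      funext k
      simp only [tvec_apply, Pi.sub_apply]
      split_ifs <;> ring
    rw [e]
    exact leechLattice.sub_mem (dMinus_mem j) (dPlus_mem i)

theorem dot_tvec (i j : GolayPt) (σ τ : ℤ) (w : Vec) :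
    dotInt (tvec i j σ τ) w = 4 * σ * w i + 4 * τ * w j := by
  unfold tvec
  rw [Cfsg.Agent.Lib.Conway.dotInt_add_left, dot_single, dot_single]

theorem sqNorm_eq_dot (x : Vec) : sqNorm x = dotInt x x := by
  unfold dotInt sqNorm
  exact Finset.sum_congr rfl fun p _ => sq _

theorem sqNorm_tvec (i j : GolayPt) (hij : i ≠ j) (σ τ : ℤ) (hσ : σ = 1 ∨ σ = -1)
    (hτ : τ = 1 ∨ τ = -1) : sqNorm (tvec i j σ τ) = 32 := by
  rw [sqNorm_eq_dot, dot_tvec, tvec_apply, tvec_apply]
  simp only [if_true, if_neg hij, if_neg hij.symm]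
  rcases hσ with rfl | rfl <;> rcases hτ with rfl | rfl <;> norm_num

/-- the lattice vector `4σ e_i + 4τ e_j` -/
def T (i j : GolayPt) (σ τ : ℤ) (hσ : σ = 1 ∨ σ = -1) (hτ : τ = 1 ∨ τ = -1) : leechLattice :=
  ⟨tvec i j σ τ, tvec_mem i j σ τ hσ hτ⟩

theorem dot_v0_tvec (i j : GolayPt) (σ τ : ℤ) (hia : i ≠ pa) (hib : i ≠ pb) (hja : j ≠ pa)
    (hjb : j ≠ pb) : dotInt v0 (tvec i j σ τ) = 0 := by
  rw [dot_v0, tvec_apply, tvec_apply]
  simp [hia.symm, hib.symm, hja.symm, hjb.symm]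

theorem dot_v0_tvec_ab (σ : ℤ) : dotInt v0 (tvec pa pb σ σ) = 0 := by
  rw [dot_v0, tvec_apply, tvec_apply]
  simp [pa_ne_pb, pa_ne_pb.symm]


/-! ### the minimal vectors orthogonal to `V0` -/

/-- the minimal vectors orthogonal to `V0` -/
def InL0 (u : leechLattice) : Prop := sqNorm (u : Vec) = 32 ∧ dotInt v0 (u : Vec) = 0

theorem T_inL0 (i j : GolayPt) (hij : i ≠ j) (σ τ : ℤ) (hσ : σ = 1 ∨ σ = -1)
    (hτ : τ = 1 ∨ τ = -1) (hia : i ≠ pa) (hib : i ≠ pb) (hja : j ≠ pa) (hjb : j ≠ pb) :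
    InL0 (T i j σ τ hσ hτ) :=
  ⟨sqNorm_tvec i j hij σ τ hσ hτ, dot_v0_tvec i j σ τ hia hib hja hjb⟩

theorem Tab_inL0 (σ : ℤ) (hσ : σ = 1 ∨ σ = -1) : InL0 (T pa pb σ σ hσ hσ) :=
  ⟨sqNorm_tvec pa pb pa_ne_pb σ σ hσ hσ, dot_v0_tvec_ab σ⟩

/-- the vectors of `L0` together with `V0` span -/
theorem span_zero (y : Vec) (h0 : dotInt v0 y = 0)
    (h : ∀ u : leechLattice, InL0 u → dotInt (u : Vec) y = 0) : y = 0 := by
  have hab := h _ (Tab_inL0 1 (Or.inl rfl))
  change dotInt (tvec pa pb 1 1) y = 0 at hab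
  rw [dot_tvec] at hab
  rw [dot_v0] at h0
  funext i
  show y i = 0
  by_cases hia : i = pa
  · subst hia; omega
  by_cases hib : i = pb
  · subst hib; omega
  obtain ⟨j, hji, hja, hjb⟩ : ∃ j : GolayPt, j ≠ i ∧ j ≠ pa ∧ j ≠ pb := by
    by_cases h2 : i = P 2
    · exact ⟨P 3, by rw [h2]; decide, by decide, by decide⟩
    · exact ⟨P 2, fun e => h2 e.symm, by decide, by decide⟩
  have h1 := h _ (T_inL0 i j hji.symm 1 1 (Or.inl rfl) (Or.inl rfl) hia hib hja hjb)
  have h2 := h _ (T_inL0 i j hji.symm 1 (-1) (Or.inl rfl) (Or.inr rfl) hia hib hja hjb)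
  change dotInt (tvec i j 1 1) y = 0 at h1
  change dotInt (tvec i j 1 (-1)) y = 0 at h2
  rw [dot_tvec] at h1 h2
  omega

theorem dot_tt (i j k l : GolayPt) (σ τ σ' τ' : ℤ) :
    dotInt (tvec i j σ τ) (tvec k l σ' τ') =
      4 * σ * ((if i = k then 4 * σ' else 0) + (if i = l then 4 * τ' else 0)) +
      4 * τ * ((if j = k then 4 * σ' else 0) + (if j = l then 4 * τ' else 0)) := by
  rw [dot_tvec, tvec_apply, tvec_apply]

theorem card_pts : (Finset.univ : Finset GolayPt).card = 24 := by decide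

theorem exists_fresh (s : Finset GolayPt) (hs : s.card < 24) : ∃ m : GolayPt, m ∉ s := by
  have : s.card < (Finset.univ : Finset GolayPt).card := by rw [card_pts]; exact hs
  obtain ⟨m, -, hm⟩ := Finset.exists_mem_notMem_of_card_lt_card this
  exact ⟨m, hm⟩

section conn

variable (S : leechLattice → Prop)
  (hS : ∀ u w : leechLattice, InL0 u → InL0 w → dotInt (u : Vec) (w : Vec) ≠ 0 → (S u ↔ S w))

/-- the base vector of the connectivity argument -/
def BB : leechLattice := T (P 2) (P 3) 1 1 (Or.inl rfl) (Or.inl rfl)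

include hS in
theorem T_base (i j : GolayPt) (hij : i ≠ j) (σ τ : ℤ) (hσ : σ = 1 ∨ σ = -1)
    (hτ : τ = 1 ∨ τ = -1) (hia : i ≠ pa) (hib : i ≠ pb) (hja : j ≠ pa) (hjb : j ≠ pb) :
    S (T i j σ τ hσ hτ) ↔ S BB := by
  obtain ⟨m, hm⟩ := exists_fresh ({i, j, P 2, P 3, pa, pb} : Finset GolayPt)
    (lt_of_le_of_lt Finset.card_le_six (by norm_num))
  obtain ⟨n, hn⟩ := exists_fresh (insert m ({i, j, P 2, P 3, pa, pb} : Finset GolayPt))
    (lt_of_le_of_lt (Finset.card_insert_le _ _)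
      (lt_of_le_of_lt (Nat.succ_le_succ Finset.card_le_six) (by norm_num)))
  simp only [Finset.mem_insert, Finset.mem_singleton, not_or] at hm hn
  obtain ⟨hmi, hmj, hmc, hmd, hma, hmb⟩ := hm
  obtain ⟨hnm, hni, hnj, hnc, hnd, hna, hnb⟩ := hn
  have hcd : (P 2 : GolayPt) ≠ P 3 := by decide
  have hca : (P 2 : GolayPt) ≠ pa := by decide
  have hcb : (P 2 : GolayPt) ≠ pb := by decide
  have hda : (P 3 : GolayPt) ≠ pa := by decide
  have hdb : (P 3 : GolayPt) ≠ pb := by decide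
  have o1 : (1 : ℤ) = 1 ∨ (1 : ℤ) = -1 := Or.inl rfl
  -- the path
  have e1 : S (T i j σ τ hσ hτ) ↔ S (T i m 1 1 o1 o1) := by
    refine hS _ _ (T_inL0 i j hij σ τ hσ hτ hia hib hja hjb)
      (T_inL0 i m (Ne.symm hmi) 1 1 o1 o1 hia hib hma hmb) ?_
    show dotInt (tvec i j σ τ) (tvec i m 1 1) ≠ 0
    rw [dot_tt]
    simp only [if_true, if_neg (Ne.symm hmi), if_neg hij.symm, if_neg (Ne.symm hmj)]
    rcases hσ with rfl | rfl <;> norm_num
  have e2 : S (T i m 1 1 o1 o1) ↔ S (T m n 1 1 o1 o1) := by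
    refine hS _ _ (T_inL0 i m (Ne.symm hmi) 1 1 o1 o1 hia hib hma hmb)
      (T_inL0 m n (Ne.symm hnm) 1 1 o1 o1 hma hmb hna hnb) ?_
    show dotInt (tvec i m 1 1) (tvec m n 1 1) ≠ 0
    rw [dot_tt]
    simp only [if_true, if_neg (Ne.symm hmi), if_neg (Ne.symm hni), if_neg (Ne.symm hnm)]
    norm_num
  have e3 : S (T m n 1 1 o1 o1) ↔ S (T n (P 2) 1 1 o1 o1) := by
    refine hS _ _ (T_inL0 m n (Ne.symm hnm) 1 1 o1 o1 hma hmb hna hnb)
      (T_inL0 n (P 2) hnc 1 1 o1 o1 hna hnb hca hcb) ?_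
    show dotInt (tvec m n 1 1) (tvec n (P 2) 1 1) ≠ 0
    rw [dot_tt]
    simp only [if_true, if_neg (Ne.symm hnm), if_neg hmc, if_neg hnc]
    norm_num
  have e4 : S (T n (P 2) 1 1 o1 o1) ↔ S BB := by
    refine hS _ _ (T_inL0 n (P 2) hnc 1 1 o1 o1 hna hnb hca hcb)
      (T_inL0 (P 2) (P 3) hcd 1 1 o1 o1 hca hcb hda hdb) ?_
    show dotInt (tvec n (P 2) 1 1) (tvec (P 2) (P 3) 1 1) ≠ 0
    rw [dot_tt]
    simp only [if_true, if_neg hnc, if_neg hnd, if_neg hcd]
    norm_num
  exact e1.trans (e2.trans (e3.trans e4))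


include hS in
theorem base_of_two (w : leechLattice) (hw : InL0 w) (i j : GolayPt) (hij : i ≠ j)
    (hia : i ≠ pa) (hib : i ≠ pb) (hja : j ≠ pa) (hjb : j ≠ pb)
    (hwi : (w : Vec) i ≠ 0) (_hwj : (w : Vec) j ≠ 0) : S w ↔ S BB := by
  have o1 : (1 : ℤ) = 1 ∨ (1 : ℤ) = -1 := Or.inl rfl
  have om : (-1 : ℤ) = 1 ∨ (-1 : ℤ) = -1 := Or.inr rfl
  by_cases h : (w : Vec) i + (w : Vec) j = 0
  · have e : S (T i j 1 (-1) o1 om) ↔ S w := by
      refine hS _ _ (T_inL0 i j hij 1 (-1) o1 om hia hib hja hjb) hw ?_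
      show dotInt (tvec i j 1 (-1)) (w : Vec) ≠ 0
      rw [dot_tvec]; omega
    exact e.symm.trans (T_base S hS i j hij 1 (-1) o1 om hia hib hja hjb)
  · have e : S (T i j 1 1 o1 o1) ↔ S w := by
      refine hS _ _ (T_inL0 i j hij 1 1 o1 o1 hia hib hja hjb) hw ?_
      show dotInt (tvec i j 1 1) (w : Vec) ≠ 0
      rw [dot_tvec]; omega
    exact e.symm.trans (T_base S hS i j hij 1 1 o1 o1 hia hib hja hjb)

end conn

theorem dichotomy (w : leechLattice) (hw : InL0 w) :
    (∃ i j : GolayPt, i ≠ j ∧ i ≠ pa ∧ i ≠ pb ∧ j ≠ pa ∧ j ≠ pb ∧ (w : Vec) i ≠ 0 ∧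
      (w : Vec) j ≠ 0) ∨ (w : Vec) = tvec pa pb 1 1 ∨ (w : Vec) = tvec pa pb (-1) (-1) := by
  by_cases hex : ∃ i j : GolayPt, i ≠ j ∧ i ≠ pa ∧ i ≠ pb ∧ j ≠ pa ∧ j ≠ pb ∧ (w : Vec) i ≠ 0 ∧
      (w : Vec) j ≠ 0
  · exact Or.inl hex
  right
  obtain ⟨k, hka, hkb, hk⟩ : ∃ k : GolayPt, k ≠ pa ∧ k ≠ pb ∧
      ∀ i, i ≠ pa → i ≠ pb → i ≠ k → (w : Vec) i = 0 := by
    by_cases h1 : ∃ k : GolayPt, k ≠ pa ∧ k ≠ pb ∧ (w : Vec) k ≠ 0
    · obtain ⟨k, hka, hkb, hk0⟩ := h1
      refine ⟨k, hka, hkb, fun i hia hib hik => ?_⟩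
      by_contra hi0
      exact hex ⟨i, k, hik, hia, hib, hka, hkb, hi0, hk0⟩
    · refine ⟨P 2, by decide, by decide, fun i hia hib _ => ?_⟩
      by_contra hi0
      exact h1 ⟨i, hia, hib, hi0⟩
  have hn : sqNorm (w : Vec) = (w : Vec) pa ^ 2 + (w : Vec) pb ^ 2 + (w : Vec) k ^ 2 := by
    unfold sqNorm
    rw [← Finset.sum_subset (Finset.subset_univ ({pa, pb, k} : Finset GolayPt))]
    · rw [Finset.sum_insert, Finset.sum_insert, Finset.sum_singleton]
      · ring
      · simp [hkb.symm]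
      · simp [pa_ne_pb, hka.symm]
    · intro i _ hi
      simp only [Finset.mem_insert, Finset.mem_singleton, not_or] at hi
      rw [hk i hi.1 hi.2.1 hi.2.2]; norm_num
  have hd := hw.2
  rw [dot_v0] at hd
  have hab : (w : Vec) pa = (w : Vec) pb := by omega
  have h32 := hw.1
  rw [hn, hab] at h32
  have key : ((w : Vec) pb = 4 ∨ (w : Vec) pb = -4) ∧ (w : Vec) k = 0 := by
    generalize (w : Vec) pb = c at h32
    generalize (w : Vec) k = d at h32
    have hc1 : c ≤ 4 := by nlinarith [sq_nonneg d]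
    have hc2 : -4 ≤ c := by nlinarith [sq_nonneg d]
    have hd1 : d ≤ 5 := by nlinarith [sq_nonneg c]
    have hd2 : -5 ≤ d := by nlinarith [sq_nonneg c]
    interval_cases c <;> interval_cases d <;> (try norm_num at h32) <;> (try norm_num)
  obtain ⟨hc, hk0⟩ := key
  rcases hc with hc | hc
  · left
    funext i
    rw [tvec_apply]
    by_cases hia : i = pa
    · subst hia; simp [pa_ne_pb, hab, hc]
    by_cases hib : i = pb
    · subst hib; simp [pa_ne_pb.symm, hc]
    by_cases hik : i = k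
    · subst hik; simp [hia, hib, hk0]
    · simp [hia, hib, hk i hia hib hik]
  · right
    funext i
    rw [tvec_apply]
    by_cases hia : i = pa
    · subst hia; simp [pa_ne_pb, hab, hc]
    by_cases hib : i = pb
    · subst hib; simp [pa_ne_pb.symm, hc]
    by_cases hik : i = k
    · subst hik; simp [hia, hib, hk0]
    · simp [hia, hib, hk i hia hib hik]

theorem B2_inL0 : InL0 B2 := by
  refine ⟨b2_facts.1, ?_⟩
  show dotInt v0 b2 = 0
  rw [dot_v0]
  have h1 : b2 pa = 2 := by decide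
  have h2 : b2 pb = 2 := by decide
  rw [h1, h2]; norm_num

section conn2

variable (S : leechLattice → Prop)
  (hS : ∀ u w : leechLattice, InL0 u → InL0 w → dotInt (u : Vec) (w : Vec) ≠ 0 → (S u ↔ S w))

include hS in
theorem all_base (w : leechLattice) (hw : InL0 w) : S w ↔ S BB := by
  have e2 : S B2 ↔ S BB := by
    refine base_of_two S hS B2 B2_inL0 (P 13) (P 15) (by decide) (by decide) (by decide)
      (by decide) (by decide) ?_ ?_
    · show b2 (P 13) ≠ 0
      decide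
    · show b2 (P 15) ≠ 0
      decide
  have h1 : b2 pa = 2 := by decide
  have h2 : b2 pb = 2 := by decide
  rcases dichotomy w hw with ⟨i, j, hij, hia, hib, hja, hjb, hwi, hwj⟩ | h | h
  · exact base_of_two S hS w hw i j hij hia hib hja hjb hwi hwj
  · have e1 : S w ↔ S B2 := by
      refine hS w B2 hw B2_inL0 ?_
      rw [h]
      show dotInt (tvec pa pb 1 1) b2 ≠ 0
      rw [dot_tvec, h1, h2]; norm_num
    exact e1.trans e2
  · have e1 : S w ↔ S B2 := by
      refine hS w B2 hw B2_inL0 ?_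
      rw [h]
      show dotInt (tvec pa pb (-1) (-1)) b2 ≠ 0
      rw [dot_tvec, h1, h2]; norm_num
    exact e1.trans e2

include hS in
/-- the non-orthogonality graph on `L0` is connected -/
theorem connected (u w : leechLattice) (hu : InL0 u) (hw : InL0 w) : S u ↔ S w :=
  (all_base S hS u hu).trans (all_base S hS w hw).symm

end conn2


/-! ### a normal 2-subgroup of the stabiliser fixes every pair `±u` -/

theorem BB_inL0 : InL0 BB :=
  T_inL0 (P 2) (P 3) (by decide) 1 1 _ _ (by decide) (by decide) (by decide) (by decide)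

theorem inL0_smul (κ : Co0) (hκ : κ • V0 = V0) (u : leechLattice) (hu : InL0 u) :
    InL0 (κ • u) := by
  refine ⟨by rw [co0_norm]; exact hu.1, ?_⟩
  have h := co0_dot κ V0 u
  rw [hκ] at h
  show dotInt (V0 : Vec) ((κ • u : leechLattice) : Vec) = 0
  rw [h]; exact hu.2

theorem inL0_neg (u : leechLattice) (hu : InL0 u) : InL0 (-u) := by
  obtain ⟨h1, h2⟩ := hu
  refine ⟨?_, ?_⟩
  · show sqNorm (-(u : Vec)) = 32
    rw [← h1]
    unfold sqNorm
    exact Finset.sum_congr rfl fun p _ => by simp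
  · show dotInt v0 (-(u : Vec)) = 0
    rw [dot_v0] at h2 ⊢
    simp only [Pi.neg_apply]
    omega

/-- the stabiliser of `V0` -/
abbrev K0 : Subgroup Co0 := MulAction.stabilizer Co0 V0

theorem orbit_eq : MulAction.orbit K0 BB = {u : leechLattice | InL0 u} := by
  ext u
  constructor
  · rintro ⟨κ, rfl⟩
    exact inL0_smul κ.1 κ.2 BB BB_inL0
  · intro hu
    obtain ⟨g, hg0, hg⟩ := stab_trans_d0 V0 BB u sqNorm_v0 BB_inL0.1 hu.1 BB_inL0.2 hu.2
    exact ⟨⟨g, hg0⟩, hg⟩

theorem card_orbit : (MulAction.orbit K0 BB).ncard = 93150 := by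
  rw [orbit_eq]
  have h := (Cfsg.Agent.S1573.result v0 V0.2 sqNorm_v0).2.2
  rw [← h]
  have e : {u : leechLattice | InL0 u} = (Subtype.val : leechLattice → Vec) ⁻¹'
      {w : Vec | w ∈ leechLattice ∧ sqNorm w = 32 ∧ dotInt v0 w = 0} := by
    ext u
    simp only [Set.mem_ofPred_eq, Set.mem_preimage, InL0]
    exact ⟨fun h => ⟨u.2, h⟩, fun h => h.2⟩
  rw [e]
  apply Set.ncard_preimage_of_injective_subset_range Subtype.val_injective
  rintro w ⟨hw, -⟩
  exact ⟨⟨w, hw⟩, rfl⟩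

theorem BB_ne_neg : BB ≠ -BB := by
  intro h
  have h1 := congrArg (fun x : leechLattice => (x : Vec) (P 2)) h
  have h2 : (BB : Vec) (P 2) = 4 := by
    show tvec (P 2) (P 3) 1 1 (P 2) = 4
    rw [tvec_apply]; decide
  simp only [AddSubgroup.coe_neg, Pi.neg_apply, h2] at h1
  omega

/-- the stabiliser of the pair `±BB` -/
def S0 : Subgroup K0 where
  carrier := {κ | (κ : Co0) • BB = BB ∨ (κ : Co0) • BB = -BB}
  one_mem' := Or.inl (one_smul _ _)
  mul_mem' := by
    rintro a b ha hb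
    show ((a * b : K0) : Co0) • BB = BB ∨ ((a * b : K0) : Co0) • BB = -BB
    rw [Subgroup.coe_mul, mul_smul]
    rcases hb with hb | hb <;> rcases ha with ha | ha
    · left; rw [hb, ha]
    · right; rw [hb, ha]
    · right; rw [hb, co0_neg, ha]
    · left; rw [hb, co0_neg, ha, neg_neg]
  inv_mem' := by
    rintro a ha
    show ((a⁻¹ : K0) : Co0) • BB = BB ∨ ((a⁻¹ : K0) : Co0) • BB = -BB
    rw [Subgroup.coe_inv]
    rcases ha with ha | ha
    · left; rw [inv_smul_eq_iff, ha]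
    · right; rw [inv_smul_eq_iff, co0_neg, ha, neg_neg]

theorem mem_S0 (κ : K0) : κ ∈ S0 ↔ (κ : Co0) • BB = BB ∨ (κ : Co0) • BB = -BB := Iff.rfl

theorem T0_le_S0 : MulAction.stabilizer K0 BB ≤ S0 := by
  intro κ hκ
  rw [MulAction.mem_stabilizer_iff] at hκ
  exact Or.inl hκ

theorem relIndex_T0 : (MulAction.stabilizer K0 BB).relIndex S0 = 2 := by
  have hn := inL0_neg BB BB_inL0
  obtain ⟨g, hg0, hg⟩ := stab_trans_d0 V0 BB (-BB) sqNorm_v0 BB_inL0.1 hn.1 BB_inL0.2 hn.2
  rw [Subgroup.relIndex, Subgroup.index_eq_two_iff]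
  refine ⟨⟨⟨g, hg0⟩, Or.inr hg⟩, fun b => ?_⟩
  have hb := b.2
  rw [mem_S0] at hb
  simp only [Subgroup.mem_subgroupOf, MulAction.mem_stabilizer_iff, Subgroup.coe_mul]
  have e1 : ((b : K0) * (⟨g, hg0⟩ : K0)) • BB = ((b : K0) : Co0) • (g • BB) := by
    show (((b : K0) : Co0) * g) • BB = _
    rw [mul_smul]
  have e2 : (b : K0) • BB = ((b : K0) : Co0) • BB := rfl
  rw [e1, e2, hg, co0_neg]
  rcases hb with hb | hb
  · right
    rw [hb]
    exact ⟨rfl, fun h => BB_ne_neg h.symm⟩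
  · left
    rw [hb, neg_neg]
    exact ⟨rfl, fun h => BB_ne_neg h.symm⟩

theorem S0_index : S0.index = 46575 := by
  have h1 := Subgroup.relIndex_mul_index T0_le_S0
  rw [relIndex_T0, MulAction.index_stabilizer, card_orbit] at h1
  omega

theorem pm_of_normal (P : Subgroup Co0) (hP2 : IsPGroup 2 P) (hPv : ∀ a ∈ P, a • V0 = V0)
    (hPn : ∀ κ : Co0, κ • V0 = V0 → ∀ a ∈ P, κ * a * κ⁻¹ ∈ P) (a : Co0) (ha : a ∈ P)
    (u : leechLattice) (hu : InL0 u) : a • u = u ∨ a • u = -u := by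
  have hodd : ¬ 2 ∣ Nat.card (K0 ⧸ S0) := by
    rw [← Subgroup.index_eq_card, S0_index]; norm_num
  have hP0 : IsPGroup 2 (P.subgroupOf K0) := hP2.comap_subtype
  obtain ⟨q, hq⟩ := hP0.nonempty_fixed_point_of_prime_not_dvd_card (K0 ⧸ S0) hodd
  obtain ⟨κ, rfl⟩ := QuotientGroup.mk_surjective q
  have key : ∀ b : K0, (b : Co0) ∈ P → b ∈ S0 := by
    intro b hb
    have hc : (κ * b * κ⁻¹ : K0) ∈ P.subgroupOf K0 := by
      rw [Subgroup.mem_subgroupOf]
      simp only [Subgroup.coe_mul, Subgroup.coe_inv]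
      exact hPn κ.1 κ.2 b.1 hb
    have h1 := hq ⟨κ * b * κ⁻¹, hc⟩
    have h2 : ((κ * b * κ⁻¹ * κ : K0) : K0 ⧸ S0) = (κ : K0 ⧸ S0) := h1
    rw [QuotientGroup.eq] at h2
    have e : (κ * b * κ⁻¹ * κ)⁻¹ * κ = b⁻¹ := by group
    rw [e] at h2
    exact (Subgroup.inv_mem_iff S0).mp h2
  have hu' : u ∈ MulAction.orbit K0 BB := by rw [orbit_eq]; exact hu
  obtain ⟨κ', rfl⟩ := hu'
  have haK : a • V0 = V0 := hPv a ha
  have hb : (((κ'⁻¹ * ⟨a, haK⟩ * κ' : K0)) : Co0) ∈ P := by
    have h := hPn (κ'⁻¹ : K0).1 (κ'⁻¹ : K0).2 a ha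
    simpa using h
  have hsm : a • (κ' • BB) = (κ' : Co0) • (((κ'⁻¹ * ⟨a, haK⟩ * κ' : K0) : Co0) • BB) := by
    show a • ((κ' : Co0) • BB) = _
    simp only [Subgroup.coe_mul, Subgroup.coe_inv, ← mul_smul]
    congr 1
    group
  rcases key _ hb with h | h
  · left
    rw [hsm, h]; rfl
  · right
    rw [hsm, h, co0_neg]; rfl


/-! ### the main theorem -/

theorem dot_sub_right (u p q : Vec) : dotInt u (p - q) = dotInt u p - dotInt u q := by
  unfold dotInt
  rw [← Finset.sum_sub_distrib]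
  exact Finset.sum_congr rfl fun i _ => by simp only [Pi.sub_apply]; ring

theorem dot_add_right (u p q : Vec) : dotInt u (p + q) = dotInt u p + dotInt u q := by
  unfold dotInt
  rw [← Finset.sum_add_distrib]
  exact Finset.sum_congr rfl fun i _ => by simp only [Pi.add_apply]; ring

theorem dot_neg_right (u p : Vec) : dotInt u (-p) = -dotInt u p := by
  unfold dotInt
  rw [← Finset.sum_neg_distrib]
  exact Finset.sum_congr rfl fun i _ => by simp only [Pi.neg_apply]; ring

theorem dot_neg_left (p u : Vec) : dotInt (-p) u = -dotInt p u := by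
  unfold dotInt
  rw [← Finset.sum_neg_distrib]
  exact Finset.sum_congr rfl fun i _ => by simp only [Pi.neg_apply]; ring

theorem ne_neg_of_inL0 (u : leechLattice) (hu : InL0 u) : u ≠ -u := by
  intro h
  have h1 : ∀ i, (u : Vec) i = 0 := by
    intro i
    have h2 := congrArg (fun x : leechLattice => (x : Vec) i) h
    simp only [AddSubgroup.coe_neg, Pi.neg_apply] at h2
    omega
  have h3 : sqNorm (u : Vec) = 0 := by
    unfold sqNorm
    exact Finset.sum_eq_zero fun i _ => by rw [h1 i]; norm_num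
  rw [hu.1] at h3
  norm_num at h3

theorem eq_one_of_fix (a : Co0) (h0 : a • V0 = V0) (h : ∀ u, InL0 u → a • u = u) : a = 1 := by
  apply co0_ext
  intro x
  rw [co0_one_smul]
  have hy : ((a • x : leechLattice) : Vec) - (x : Vec) = 0 := by
    apply span_zero
    · have h1 := co0_dot a V0 x
      rw [h0] at h1
      rw [dot_sub_right]
      show dotInt (V0 : Vec) ((a • x : leechLattice) : Vec) - dotInt (V0 : Vec) (x : Vec) = 0
      rw [h1]; ring
    · intro u hu
      have h1 := co0_dot a u x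
      rw [h u hu] at h1
      rw [dot_sub_right, h1]; ring
  exact Subtype.ext (sub_eq_zero.mp hy)

/-- twice an octad through `pa` avoiding `pb` -/
def xo : Vec := vecOfList [2, 0, 0, 0, 0, 2, 0, 2, 2, 0, 2, 2, 2, 2, 0, 0, 0, 0, 0, 0, 0, 0, 0, 0]

set_option maxRecDepth 100000 in
theorem xo_cond : LeechCond xo 0 := by decide +kernel

def XO : leechLattice := ⟨xo, mem_of_leechCond xo_cond⟩

theorem dot_v0_xo : dotInt v0 xo = 8 := by
  rw [dot_v0]
  have h1 : xo pa = 2 := by decide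
  have h2 : xo pb = 0 := by decide
  rw [h1, h2]; norm_num

theorem no_normal_two_V0 (P : Subgroup Co0) (hP2 : IsPGroup 2 P) (hPv : ∀ a ∈ P, a • V0 = V0)
    (hPn : ∀ κ : Co0, κ • V0 = V0 → ∀ a ∈ P, κ * a * κ⁻¹ ∈ P) : P = ⊥ := by
  rw [eq_bot_iff]
  intro a ha
  rw [Subgroup.mem_bot]
  have hpm := pm_of_normal P hP2 hPv hPn a ha
  have hadj : ∀ u w : leechLattice, InL0 u → InL0 w → dotInt (u : Vec) (w : Vec) ≠ 0 →
      (a • u = u ↔ a • w = w) := by
    intro u w hu hw hne
    have hd := co0_dot a u w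
    rcases hpm u hu with h1 | h1 <;> rcases hpm w hw with h2 | h2
    · exact ⟨fun _ => h2, fun _ => h1⟩
    · exfalso
      rw [h1, h2] at hd
      have e : dotInt (u : Vec) ((-w : leechLattice) : Vec) = -dotInt (u : Vec) (w : Vec) :=
        dot_neg_right _ _
      rw [e] at hd
      omega
    · exfalso
      rw [h1, h2] at hd
      have e : dotInt ((-u : leechLattice) : Vec) (w : Vec) = -dotInt (u : Vec) (w : Vec) :=
        dot_neg_left _ _
      rw [e] at hd
      omega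
    · constructor
      · intro h
        exact absurd (h.symm.trans h1) (ne_neg_of_inL0 u hu)
      · intro h
        exact absurd (h.symm.trans h2) (ne_neg_of_inL0 w hw)
  have hconn := connected (fun u => a • u = u) hadj
  have h0 : a • V0 = V0 := hPv a ha
  by_cases hB : a • BB = BB
  · apply eq_one_of_fix a h0
    intro u hu
    exact (hconn u BB hu BB_inL0).mpr hB
  · exfalso
    have hneg : ∀ u, InL0 u → a • u = -u := by
      intro u hu
      rcases hpm u hu with h | h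
      · exact absurd ((hconn u BB hu BB_inL0).mp h) hB
      · exact h
    -- the vector `y = a x + x`
    set y : leechLattice := a • XO + XO with hy
    have hY : ((y : Vec) + (y : Vec)) - v0 = 0 := by
      apply span_zero
      · have h1 := co0_dot a V0 XO
        rw [h0] at h1
        have h2 : dotInt v0 ((a • XO : leechLattice) : Vec) = 8 := by
          rw [← dot_v0_xo]; exact h1
        have h3 : dotInt v0 (y : Vec) = 16 := by
          show dotInt v0 (((a • XO : leechLattice) : Vec) + xo) = 16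
          rw [dot_add_right, h2, dot_v0_xo]; norm_num
        rw [dot_sub_right, dot_add_right, h3]
        have h4 : dotInt v0 v0 = 32 := by rw [← sqNorm_eq_dot]; exact sqNorm_v0
        rw [h4]; norm_num
      · intro u hu
        have h1 := co0_dot a (-u) XO
        have h2 : a • (-u) = u := by rw [co0_neg, hneg u hu, neg_neg]
        rw [h2] at h1
        have e : dotInt ((-u : leechLattice) : Vec) (XO : Vec) = -dotInt (u : Vec) (XO : Vec) :=
          dot_neg_left _ _
        rw [e] at h1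
        have h3 : dotInt (u : Vec) (y : Vec) = 0 := by
          show dotInt (u : Vec) (((a • XO : leechLattice) : Vec) + (XO : Vec)) = 0
          rw [dot_add_right, h1]; ring
        have h4 : dotInt (u : Vec) v0 = 0 := by rw [Cfsg.Agent.Lib.Conway.dotInt_symm]; exact hu.2
        rw [dot_sub_right, dot_add_right, h3, h4]; norm_num
    have hyy : (y : Vec) + (y : Vec) = v0 := sub_eq_zero.mp hY
    have hn : sqNorm ((y : Vec) + (y : Vec)) = 4 * sqNorm (y : Vec) := by
      rw [Cfsg.Agent.S0393.sqNorm_add, ← sqNorm_eq_dot]; ring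
    rw [hyy, sqNorm_v0] at hn
    have hy0 : (y : Vec) ≠ 0 := by
      intro h
      rw [h] at hn
      have : sqNorm (0 : Vec) = 0 := by
        unfold sqNorm
        exact Finset.sum_eq_zero fun i _ => by simp
      rw [this] at hn
      norm_num at hn
    have := sqNorm_ge_of_mem_leechLattice y.2 hy0
    omega

/-- **The stabiliser of a minimal vector has no nontrivial normal 2-subgroup.** -/
theorem no_normal_two (v : leechLattice) (hv : sqNorm (v : Vec) = 32) (P : Subgroup Co0)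
    (hP2 : IsPGroup 2 P) (hPv : ∀ a ∈ P, a • v = v)
    (hPn : ∀ κ : Co0, κ • v = v → ∀ a ∈ P, κ * a * κ⁻¹ ∈ P) : P = ⊥ := by
  obtain ⟨g, hg⟩ := trans4 V0 v sqNorm_v0 hv
  have hgi : g⁻¹ • v = V0 := by rw [← hg, inv_smul_smul]
  have h := no_normal_two_V0 (P.map (MulAut.conj g⁻¹).toMonoidHom) (hP2.map _) ?_ ?_
  · rw [Subgroup.map_eq_bot_iff_of_injective _ (MulAut.conj g⁻¹).injective] at h
    exact h
  · rintro _ ⟨a, ha, rfl⟩
    simp only [MulEquiv.coe_toMonoidHom, MulAut.conj_apply, inv_inv]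
    rw [mul_smul, mul_smul, hg, hPv a ha, hgi]
  · rintro κ hκ _ ⟨a, ha, rfl⟩
    simp only [MulEquiv.coe_toMonoidHom, MulAut.conj_apply, inv_inv]
    refine ⟨(g * κ * g⁻¹) * a * (g * κ * g⁻¹)⁻¹, hPn _ ?_ a ha, ?_⟩
    · rw [mul_smul, mul_smul, hgi, hκ, hg]
    · simp only [MulEquiv.coe_toMonoidHom, MulAut.conj_apply, inv_inv]
      group

end Cfsg.Agent.Lib.Helper4.C2C
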