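import Mathlib
import Cfsg.Prelude.Def_Transfer
import Cfsg.Prelude.Def_Solvable
import Cfsg.Agent.Lib.Helper29.ExtraTwo
import Cfsg.Agent.Lib.Helper29.DualityDC

set_option autoImplicit false

/-!
Generalisation of `Cfsg.Agent.Lib.Helper4.LX` to an arbitrary conjugation-equivariant family
`Q : G → Subgroup G` with `Q x ≤ C_G(x)` (instead of `Q x = O_2(C_G(x))`).
-/

namespace Cfsg.Agent.Lib.Helper4.LXF

open Cfsg Cfsg.Agent.Lib.Helper29
open scoped commutatorElement

variable {G : Type*} [Group G]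

/-- A conjugation-equivariant family of subgroups with `Q x ≤ C_G(x)`. -/
structure Fam (Q : G → Subgroup G) : Prop where
  conj : ∀ g x : G, (Q x).map (MulAut.conj g).toMonoidHom = Q (g * x * g⁻¹)
  comm : ∀ x y : G, y ∈ Q x → y * x = x * y

variable {Q : G → Subgroup G}

theorem Q_conj (hQ : Fam Q) (g x : G) :
    (Q x).map (MulAut.conj g).toMonoidHom = Q (g * x * g⁻¹) := hQ.conj g x

theorem Q_comm (hQ : Fam Q) {x y : G} (hy : y ∈ Q x) : y * x = x * y := hQ.comm x y hy

theorem mem_Q_conj (hQ : Fam Q) (g : G) {x y : G} (hy : y ∈ Q x) :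
    g * y * g⁻¹ ∈ Q (g * x * g⁻¹) := by
  rw [← Q_conj hQ g x]
  exact ⟨y, hy, by simp⟩

theorem mem_Q_conj_iff (hQ : Fam Q) (g x y : G) :
    y ∈ Q (g * x * g⁻¹) ↔ g⁻¹ * y * g ∈ Q x := by
  constructor
  · intro hy
    have h := mem_Q_conj hQ g⁻¹ hy
    have e : g⁻¹ * (g * x * g⁻¹) * g⁻¹⁻¹ = x := by group
    rw [e] at h
    simpa using h
  · intro hy
    have h := mem_Q_conj hQ g hy
    have e : g * (g⁻¹ * y * g) * g⁻¹ = y := by group
    rwa [e] at h

theorem Q_normal (hQ : Fam Q) {x c y : G} (hc : c * x = x * c) (hy : y ∈ Q x) :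
    c * y * c⁻¹ ∈ Q x := by
  have h := mem_Q_conj hQ c hy
  have e : c * x * c⁻¹ = x := by rw [hc]; group
  rwa [e] at h

theorem Q_normal' (hQ : Fam Q) {x c y : G} (hc : c * x = x * c) (hy : y ∈ Q x) :
    c⁻¹ * y * c ∈ Q x := by
  have hc' : c⁻¹ * x = x * c⁻¹ := by
    calc c⁻¹ * x = c⁻¹ * (x * c) * c⁻¹ := by group
      _ = c⁻¹ * (c * x) * c⁻¹ := by rw [hc]
      _ = x * c⁻¹ := by group
  simpa using Q_normal hQ hc' hy

theorem card_Q_conj [Finite G] (hQ : Fam Q) (g x : G) :
    Nat.card (Q (g * x * g⁻¹)) = Nat.card (Q x) := by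
  rw [← Q_conj hQ g x]
  exact Subgroup.card_map_of_injective (MulAut.conj g).injective

/-- The element-level description of "`Q x` is extraspecial with centre `⟨x⟩` and
self-centralizing". -/
structure LE (Q : G → Subgroup G) (x : G) : Prop where
  ne : x ≠ 1
  sq : x * x = 1
  mem : x ∈ Q x
  comm : ∀ a ∈ Q x, ∀ b ∈ Q x, a * b * a⁻¹ * b⁻¹ = 1 ∨ a * b * a⁻¹ * b⁻¹ = x
  sqr : ∀ a ∈ Q x, a * a = 1 ∨ a * a = x
  cent : ∀ a : G, (∀ b ∈ Q x, a * b = b * a) → a = 1 ∨ a = x

theorem LE.of_hyp (hQ : Fam Q) {z : G} (hz : orderOf z = 2)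
    (hE : Cfsg.IsExtraspecial 2 ↥(Q z))
    (hC : Subgroup.centralizer ((Q z : Subgroup G) : Set G) ≤ Q z) : LE Q z := by
  have hz1 : z ≠ 1 := by
    intro h; rw [h, orderOf_one] at hz; omega
  have hzz : z * z = 1 := by
    have := pow_orderOf_eq_one z
    rwa [hz, pow_two] at this
  have hzQ : z ∈ Q z := by
    apply hC
    rw [Subgroup.mem_centralizer_iff]
    intro b hb
    exact Q_comm hQ hb
  obtain ⟨⟨_, _, hcomm⟩, hc⟩ := hE
  obtain ⟨z', hz'⟩ := IsE2.exists_of_card hc hcomm.le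
  have hzc : (⟨z, hzQ⟩ : ↥(Q z)) ∈ Subgroup.center ↥(Q z) := by
    rw [Subgroup.mem_center_iff]
    intro b
    apply Subtype.ext
    exact Q_comm hQ b.2
  have hzz' : z' = ⟨z, hzQ⟩ := by
    rcases hz'.all _ hzc with h | h
    · exact absurd (congrArg Subtype.val h) hz1
    · exact h.symm
  subst hzz'
  refine ⟨hz1, hzz, hzQ, ?_, ?_, ?_⟩
  · intro a ha b hb
    rcases hz'.cm_cases ⟨a, ha⟩ ⟨b, hb⟩ with h | h
    · left; exact congrArg Subtype.val h
    · right; exact congrArg Subtype.val h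
  · intro a ha
    rcases hz'.sq_cases ⟨a, ha⟩ with h | h
    · left; exact congrArg Subtype.val h
    · right; exact congrArg Subtype.val h
  · intro a ha
    have haQ : a ∈ Q z := by
      apply hC
      rw [Subgroup.mem_centralizer_iff]
      intro b hb
      exact (ha b hb).symm
    have hac : (⟨a, haQ⟩ : ↥(Q z)) ∈ Subgroup.center ↥(Q z) := by
      rw [Subgroup.mem_center_iff]
      intro b
      apply Subtype.ext
      exact (ha b b.2).symm
    rcases hz'.all _ hac with h | h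
    · left; exact congrArg Subtype.val h
    · right; exact congrArg Subtype.val h

theorem LE.conj (hQ : Fam Q) {x : G} (h : LE Q x) (g : G) : LE Q (g * x * g⁻¹) := by
  have key : ∀ a, a ∈ Q (g * x * g⁻¹) ↔ g⁻¹ * a * g ∈ Q x := mem_Q_conj_iff hQ g x
  refine ⟨?_, ?_, mem_Q_conj hQ g h.mem, ?_, ?_, ?_⟩
  · intro e
    apply h.ne
    calc x = g⁻¹ * (g * x * g⁻¹) * g := by group
      _ = 1 := by rw [e]; group
  · calc g * x * g⁻¹ * (g * x * g⁻¹) = g * (x * x) * g⁻¹ := by group
      _ = 1 := by rw [h.sq]; group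
  · intro a ha b hb
    rcases h.comm _ ((key a).1 ha) _ ((key b).1 hb) with e | e
    · left
      calc a * b * a⁻¹ * b⁻¹
          = g * (g⁻¹ * a * g * (g⁻¹ * b * g) * (g⁻¹ * a * g)⁻¹ * (g⁻¹ * b * g)⁻¹) * g⁻¹ := by group
        _ = 1 := by rw [e]; group
    · right
      calc a * b * a⁻¹ * b⁻¹
          = g * (g⁻¹ * a * g * (g⁻¹ * b * g) * (g⁻¹ * a * g)⁻¹ * (g⁻¹ * b * g)⁻¹) * g⁻¹ := by group
        _ = g * x * g⁻¹ := by rw [e]
  · intro a ha
    rcases h.sqr _ ((key a).1 ha) with e | e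
    · left
      calc a * a = g * (g⁻¹ * a * g * (g⁻¹ * a * g)) * g⁻¹ := by group
        _ = 1 := by rw [e]; group
    · right
      calc a * a = g * (g⁻¹ * a * g * (g⁻¹ * a * g)) * g⁻¹ := by group
        _ = g * x * g⁻¹ := by rw [e]
  · intro a ha
    have : ∀ b ∈ Q x, g⁻¹ * a * g * b = b * (g⁻¹ * a * g) := by
      intro b hb
      have hb' : g * b * g⁻¹ ∈ Q (g * x * g⁻¹) := mem_Q_conj hQ g hb
      have e := ha _ hb'
      calc g⁻¹ * a * g * b = g⁻¹ * (a * (g * b * g⁻¹)) * g := by group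
        _ = g⁻¹ * (g * b * g⁻¹ * a) * g := by rw [e]
        _ = b * (g⁻¹ * a * g) := by group
    rcases h.cent _ this with e | e
    · left
      calc a = g * (g⁻¹ * a * g) * g⁻¹ := by group
        _ = 1 := by rw [e]; group
    · right
      calc a = g * (g⁻¹ * a * g) * g⁻¹ := by group
        _ = g * x * g⁻¹ := by rw [e]



theorem LE.inv_eq {x : G} (h : LE Q x) : x⁻¹ = x := inv_eq_of_mul_eq_one_right h.sq

/-- A noncentral element of `Q z1` is moved by some `q0 ∈ Q z1`. -/
theorem LE.exists_move {z1 z2 : G} (h1 : LE Q z1) (h21 : z2 ∈ Q z1) (hne1 : z2 ≠ 1)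
    (hne : z2 ≠ z1) : ∃ q0 ∈ Q z1, q0 * z2 * q0⁻¹ * z2⁻¹ = z1 := by
  by_contra hcon
  push Not at hcon
  have : ∀ b ∈ Q z1, z2 * b = b * z2 := by
    intro b hb
    rcases h1.comm b hb z2 h21 with e | e
    · calc z2 * b = (b * z2 * b⁻¹ * z2⁻¹)⁻¹ * (b * z2) := by group
        _ = b * z2 := by rw [e]; group
    · exact absurd e (hcon b hb)
  rcases h1.cent z2 this with e | e
  · exact hne1 e
  · exact hne e

/-- Double centralizer in `Q z1` of a noncentral element `z2`. -/
theorem LE.double_cent (hQ : Fam Q) {z1 z2 : G} (h1 : LE Q z1) (h21 : z2 ∈ Q z1)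
    (hne1 : z2 ≠ 1) (hne : z2 ≠ z1) {y : G} (hy : y ∈ Q z1)
    (hys : ∀ s ∈ Q z1, s * z2 = z2 * s → s * y = y * s) :
    y = 1 ∨ y = z1 ∨ y = z2⁻¹ ∨ y = z1 * z2⁻¹ := by
  obtain ⟨q0, hq0, hq0z⟩ := h1.exists_move h21 hne1 hne
  have hz1y : y * z1 = z1 * y := Q_comm hQ hy
  have hz1z2 : z2 * z1 = z1 * z2 := Q_comm hQ h21
  have hz1q0 : q0 * z1 = z1 * q0 := Q_comm hQ hq0
  -- any q' not commuting with z2 differs from q0 by an element commuting with z2
  have hcoset : ∀ q' ∈ Q z1, q' * z2 ≠ z2 * q' → (q0⁻¹ * q') * z2 = z2 * (q0⁻¹ * q') := by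
    intro q' hq' hne'
    have e' : q' * z2 * q'⁻¹ * z2⁻¹ = z1 := by
      rcases h1.comm q' hq' z2 h21 with e | e
      · exfalso; apply hne'
        calc q' * z2 = (q' * z2 * q'⁻¹ * z2⁻¹) * (z2 * q') := by group
          _ = z2 * q' := by rw [e]; group
      · exact e
    have e2 : q' * z2 * q'⁻¹ = q0 * z2 * q0⁻¹ := by
      calc q' * z2 * q'⁻¹ = (q' * z2 * q'⁻¹ * z2⁻¹) * z2 := by group
        _ = (q0 * z2 * q0⁻¹ * z2⁻¹) * z2 := by rw [e', hq0z]
        _ = q0 * z2 * q0⁻¹ := by group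
    calc (q0⁻¹ * q') * z2 = q0⁻¹ * (q' * z2 * q'⁻¹) * q' := by group
      _ = q0⁻¹ * (q0 * z2 * q0⁻¹) * q' := by rw [e2]
      _ = z2 * (q0⁻¹ * q') := by group
  by_cases hcy : q0 * y = y * q0
  · -- y is central
    have hall : ∀ b ∈ Q z1, y * b = b * y := by
      intro b hb
      by_cases hb2 : b * z2 = z2 * b
      · exact (hys b hb hb2).symm
      · have hs := hcoset b hb hb2
        have hs' := hys (q0⁻¹ * b) ((Q z1).mul_mem ((Q z1).inv_mem hq0) hb) hs
        calc y * b = y * q0 * (q0⁻¹ * b) := by group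
          _ = q0 * y * (q0⁻¹ * b) := by rw [hcy]
          _ = q0 * (y * (q0⁻¹ * b)) := by group
          _ = q0 * ((q0⁻¹ * b) * y) := by rw [hs']
          _ = b * y := by group
    rcases h1.cent y hall with e | e
    · exact Or.inl e
    · exact Or.inr (Or.inl e)
  · -- y * z2 is central
    have hcm : q0 * y * q0⁻¹ * y⁻¹ = z1 := by
      rcases h1.comm q0 hq0 y hy with e | e
      · exfalso; apply hcy
        calc q0 * y = (q0 * y * q0⁻¹ * y⁻¹) * (y * q0) := by group
          _ = y * q0 := by rw [e]; group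
      · exact e
    have hq0w : q0 * (y * z2) = (y * z2) * q0 := by
      have e1 : q0 * y = z1 * y * q0 := by
        calc q0 * y = (q0 * y * q0⁻¹ * y⁻¹) * y * q0 := by group
          _ = z1 * y * q0 := by rw [hcm]
      have e2 : q0 * z2 = z1 * z2 * q0 := by
        calc q0 * z2 = (q0 * z2 * q0⁻¹ * z2⁻¹) * z2 * q0 := by group
          _ = z1 * z2 * q0 := by rw [hq0z]
      calc q0 * (y * z2) = (q0 * y) * z2 := by group
        _ = z1 * y * q0 * z2 := by rw [e1]
        _ = z1 * y * (q0 * z2) := by group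
        _ = z1 * y * (z1 * z2 * q0) := by rw [e2]
        _ = z1 * (y * z1) * z2 * q0 := by group
        _ = z1 * (z1 * y) * z2 * q0 := by rw [hz1y]
        _ = (z1 * z1) * y * z2 * q0 := by group
        _ = (y * z2) * q0 := by rw [h1.sq]; group
    have hall : ∀ b ∈ Q z1, (y * z2) * b = b * (y * z2) := by
      intro b hb
      have hcomm_s : ∀ s ∈ Q z1, s * z2 = z2 * s → (y * z2) * s = s * (y * z2) := by
        intro s hs hs2
        have := hys s hs hs2
        calc (y * z2) * s = y * (z2 * s) := by group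
          _ = y * (s * z2) := by rw [hs2]
          _ = (y * s) * z2 := by group
          _ = (s * y) * z2 := by rw [this]
          _ = s * (y * z2) := by group
      by_cases hb2 : b * z2 = z2 * b
      · exact hcomm_s b hb hb2
      · have hs := hcoset b hb hb2
        have hs' := hcomm_s (q0⁻¹ * b) ((Q z1).mul_mem ((Q z1).inv_mem hq0) hb) hs
        calc (y * z2) * b = (y * z2) * q0 * (q0⁻¹ * b) := by group
          _ = q0 * (y * z2) * (q0⁻¹ * b) := by rw [hq0w]
          _ = q0 * ((y * z2) * (q0⁻¹ * b)) := by group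
          _ = q0 * ((q0⁻¹ * b) * (y * z2)) := by rw [hs']
          _ = b * (y * z2) := by group
    rcases h1.cent (y * z2) hall with e | e
    · right; right; left
      calc y = (y * z2) * z2⁻¹ := by group
        _ = z2⁻¹ := by rw [e]; group
    · right; right; right
      calc y = (y * z2) * z2⁻¹ := by group
        _ = z1 * z2⁻¹ := by rw [e]



/-- Intersection `Q z1 ∩ Q z2` is `⟨z2⟩` if `z2 ∈ Q z1` but `z1 ∉ Q z2`. -/
theorem LE.inter_eq (hQ : Fam Q) {z1 z2 : G} (h1 : LE Q z1) (h2 : LE Q z2)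
    (h21 : z2 ∈ Q z1) (hne : z2 ≠ z1) (hn : z1 ∉ Q z2) {y : G} (hy1 : y ∈ Q z1)
    (hy2 : y ∈ Q z2) : y = 1 ∨ y = z2 := by
  have i2 : z2⁻¹ = z2 := h2.inv_eq
  have hA : ∀ s ∈ Q z1, s * z2 = z2 * s → s * y = y * s := by
    intro s hs hs2
    have hm : s * y * s⁻¹ * y⁻¹ ∈ Q z2 :=
      (Q z2).mul_mem (Q_normal hQ hs2 hy2) ((Q z2).inv_mem hy2)
    rcases h1.comm s hs y hy1 with e | e
    · calc s * y = (s * y * s⁻¹ * y⁻¹) * (y * s) := by group
        _ = y * s := by rw [e]; group
    · rw [e] at hm; exact absurd hm hn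
  rcases h1.double_cent hQ h21 h2.ne hne hy1 hA with e | e | e | e
  · exact Or.inl e
  · rw [e] at hy2; exact absurd hy2 hn
  · right; rw [e, i2]
  · exfalso; apply hn
    have : z1 = y * z2 := by rw [e]; group
    rw [this]
    exact (Q z2).mul_mem hy2 h2.mem

theorem LE.symm_mem [Finite G] (hQ : Fam Q) {z1 z2 : G} (h1 : LE Q z1) (h2 : LE Q z2)
    (hcard : Nat.card (Q z2) ≤ Nat.card (Q z1)) (h21 : z2 ∈ Q z1) : z1 ∈ Q z2 := by
  classical
  by_cases hne : z2 = z1
  · rw [hne]; exact h1.mem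
  by_contra hn
  have i1 : z1⁻¹ = z1 := h1.inv_eq
  have i2 : z2⁻¹ = z2 := h2.inv_eq
  have hz12 : z2 * z1 = z1 * z2 := Q_comm hQ h21
  have hI := fun y => h1.inter_eq hQ h2 h21 hne hn (y := y)
  -- (F2)
  have hRR : ∀ s ∈ Q z1, s * z2 = z2 * s → ∀ r ∈ Q z2, r * z1 = z1 * r →
      s * r * s⁻¹ * r⁻¹ = 1 ∨ s * r * s⁻¹ * r⁻¹ = z2 := by
    intro s hs hs2 r hr hr1
    apply hI
    · have : s * r * s⁻¹ * r⁻¹ = s * (r * s⁻¹ * r⁻¹) := by group
      rw [this]
      exact (Q z1).mul_mem hs (Q_normal hQ hr1 ((Q z1).inv_mem hs))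
    · exact (Q z2).mul_mem (Q_normal hQ hs2 hr) ((Q z2).inv_mem hr)
  obtain ⟨q0, hq0, hq0z⟩ := h1.exists_move h21 h2.ne hne
  have hq0z1 : q0 * z1 = z1 * q0 := Q_comm hQ hq0
  by_cases ha : ∃ b ∈ Q z2, b * z1 * b⁻¹ = z1 * z2
  · -- case (a)
    obtain ⟨b, hb, hbz⟩ := ha
    have hbz2 : b * z2 = z2 * b := Q_comm hQ hb
    have h23 : z2 ∈ Q (z1 * z2) := by
      have := mem_Q_conj hQ b h21
      rw [hbz] at this
      have e : b * z2 * b⁻¹ = z2 := by rw [hbz2]; group
      rwa [e] at this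
    have h3 := mem_Q_conj hQ q0 h23
    have e1 : q0 * z2 * q0⁻¹ = z1 * z2 := by
      calc q0 * z2 * q0⁻¹ = (q0 * z2 * q0⁻¹ * z2⁻¹) * z2 := by group
        _ = z1 * z2 := by rw [hq0z]
    have e2 : q0 * (z1 * z2) * q0⁻¹ = z2 := by
      calc q0 * (z1 * z2) * q0⁻¹ = (q0 * z1) * q0⁻¹ * (q0 * z2 * q0⁻¹) := by group
        _ = (z1 * q0) * q0⁻¹ * (z1 * z2) := by rw [hq0z1, e1]
        _ = (z1 * z1) * z2 := by group
        _ = z2 := by rw [h1.sq]; group
    rw [e1, e2] at h3
    apply hn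
    have : z1 = (z1 * z2) * z2⁻¹ := by group
    rw [this]
    exact (Q z2).mul_mem h3 ((Q z2).inv_mem h2.mem)
  · -- case (b)
    push Not at ha
    have hK : ∀ v ∈ Q z2, (z1 * v * z1⁻¹ * v⁻¹ = 1 ∨ z1 * v * z1⁻¹ * v⁻¹ = z2) →
        z1 * v = v * z1 := by
      intro v hv h
      rcases h with e | e
      · calc z1 * v = (z1 * v * z1⁻¹ * v⁻¹) * (v * z1) := by group
          _ = v * z1 := by rw [e]; group
      · exfalso
        apply ha v hv
        calc v * z1 * v⁻¹ = (z1 * v * z1⁻¹ * v⁻¹)⁻¹ * z1 := by rw [← i1]; group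
          _ = z2⁻¹ * z1 := by rw [e]
          _ = z1 * z2 := by rw [i2, hz12]
    have hnorm1 : ∀ v ∈ Q z2, z1 * v * z1⁻¹ ∈ Q z2 := fun v hv => Q_normal hQ hz12.symm hv
    have hdmem : ∀ v ∈ Q z2, z1 * v * z1⁻¹ * v⁻¹ ∈ Q z2 := fun v hv =>
      (Q z2).mul_mem (hnorm1 v hv) ((Q z2).inv_mem hv)
    -- (K2)
    have hdinv : ∀ v : G, z1 * (z1 * v * z1⁻¹ * v⁻¹) * z1⁻¹ = (z1 * v * z1⁻¹ * v⁻¹)⁻¹ := by
      intro v
      calc z1 * (z1 * v * z1⁻¹ * v⁻¹) * z1⁻¹ = (z1 * z1) * v * z1⁻¹ * v⁻¹ * z1⁻¹ := by group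
        _ = v * z1⁻¹ * v⁻¹ * z1⁻¹ := by rw [h1.sq]; group
        _ = v * z1 * v⁻¹ * z1⁻¹ := by rw [i1]
        _ = (z1 * v * z1⁻¹ * v⁻¹)⁻¹ := by group
    have hD : ∀ v ∈ Q z2, z1 * (z1 * v * z1⁻¹ * v⁻¹) = (z1 * v * z1⁻¹ * v⁻¹) * z1 := by
      intro v hv
      set d := z1 * v * z1⁻¹ * v⁻¹ with hd
      have hdQ : d ∈ Q z2 := hdmem v hv
      apply hK d hdQ
      have e0 : z1 * d * z1⁻¹ = d⁻¹ := hdinv v
      have e : z1 * d * z1⁻¹ * d⁻¹ = (d * d)⁻¹ := by
        rw [e0]; group
      rw [e]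
      rcases h2.sqr d hdQ with e' | e'
      · left; rw [e']; simp
      · right; rw [e', i2]
    -- (K3)
    have hc : ∀ s ∈ Q z1, s * z2 = z2 * s → ∀ v ∈ Q z2,
        z1 * (s * v * s⁻¹ * v⁻¹) = (s * v * s⁻¹ * v⁻¹) * z1 := by
      intro s hs hs2 v hv
      have hs1 : s * z1 = z1 * s := Q_comm hQ hs
      set c := s * v * s⁻¹ * v⁻¹ with hcdef
      set d := z1 * v * z1⁻¹ * v⁻¹ with hddef
      have hcQ : c ∈ Q z2 := (Q z2).mul_mem (Q_normal hQ hs2 hv) ((Q z2).inv_mem hv)
      have hdQ : d ∈ Q z2 := hdmem v hv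
      have hd1 : d * z1 = z1 * d := (hD v hv).symm
      apply hK c hcQ
      have e0 : z1 * c * z1⁻¹ = (s * d * s⁻¹) * c * d⁻¹ := by
        have es : z1 * s = s * z1 := hs1.symm
        have es' : s⁻¹ * z1⁻¹ = z1⁻¹ * s⁻¹ := by
          rw [← mul_inv_rev, ← mul_inv_rev, es]
        calc z1 * c * z1⁻¹ = (z1 * s) * v * (s⁻¹ * (v⁻¹ * z1⁻¹)) := by rw [hcdef]; group
          _ = (s * z1) * v * (s⁻¹ * (v⁻¹ * z1⁻¹)) := by rw [es]
          _ = s * z1 * v * ((z1⁻¹ * z1) * s⁻¹ * z1⁻¹ * (z1 * v⁻¹ * z1⁻¹)) := by group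
          _ = s * z1 * v * (z1⁻¹ * (z1 * (s⁻¹ * z1⁻¹)) * (z1 * v⁻¹ * z1⁻¹)) := by group
          _ = s * z1 * v * (z1⁻¹ * (z1 * (z1⁻¹ * s⁻¹)) * (z1 * v⁻¹ * z1⁻¹)) := by rw [es']
          _ = (s * d * s⁻¹) * c * d⁻¹ := by rw [hddef, hcdef]; group
      have hz1 := hRR s hs hs2 d hdQ hd1
      have hz2 := h2.comm d hdQ c hcQ
      have e1 : z1 * c * z1⁻¹ * c⁻¹ = (s * d * s⁻¹ * d⁻¹) * (d * c * d⁻¹ * c⁻¹) := by
        rw [e0]; group
      rw [e1]
      rcases hz1 with f1 | f1 <;> rcases hz2 with f2 | f2 <;> rw [f1, f2]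
      · left; group
      · right; group
      · right; group
      · left; exact h2.sq
    by_cases hsq : ∃ s ∈ Q z1, s * z2 = z2 * s ∧ s * s = z1
    · -- squares act trivially
      obtain ⟨s, hs, hs2, hss⟩ := hsq
      have hall : ∀ v ∈ Q z2, z1 * v = v * z1 := by
        intro v hv
        apply hK v hv
        set c := s * v * s⁻¹ * v⁻¹ with hcdef
        have hcQ : c ∈ Q z2 := (Q z2).mul_mem (Q_normal hQ hs2 hv) ((Q z2).inv_mem hv)
        have hc1 : c * z1 = z1 * c := (hc s hs hs2 v hv).symm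
        have e : z1 * v * z1⁻¹ * v⁻¹ = (s * c * s⁻¹ * c⁻¹) * (c * c) := by
          rw [← hss, hcdef]; group
        rw [e]
        rcases hRR s hs hs2 c hcQ hc1 with f1 | f1 <;> rcases h2.sqr c hcQ with f2 | f2 <;>
          rw [f1, f2]
        · left; group
        · right; group
        · right; group
        · left; exact h2.sq
      rcases h2.cent z1 hall with e | e
      · exact h1.ne e
      · exact hne e.symm
    · -- R1 has exponent 2
      push Not at hsq
      have hexp : ∀ s ∈ Q z1, s * z2 = z2 * s → s * s = 1 := by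
        intro s hs hs2
        rcases h1.sqr s hs with e | e
        · exact e
        · exact absurd e (hsq s hs hs2)
      have hab : ∀ e ∈ Q z1, e * z2 = z2 * e → ∀ f ∈ Q z1, f * z2 = z2 * f → e * f = f * e := by
        intro e he he2 f hf hf2
        have hef2 : (e * f) * z2 = z2 * (e * f) := by
          calc (e * f) * z2 = e * (f * z2) := by group
            _ = e * (z2 * f) := by rw [hf2]
            _ = (e * z2) * f := by group
            _ = (z2 * e) * f := by rw [he2]
            _ = z2 * (e * f) := by group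
        have h3 := hexp (e * f) ((Q z1).mul_mem he hf) hef2
        have h4 := hexp e he he2
        have h5 := hexp f hf hf2
        calc e * f = e * ((e * f) * (e * f)) * f := by rw [h3]; group
          _ = (e * e) * f * e * (f * f) := by group
          _ = f * e := by rw [h4, h5]; group
      -- R1 ⊆ {1, z1, z2, z1 z2}
      have hR1 : ∀ s ∈ Q z1, s * z2 = z2 * s → s = 1 ∨ s = z1 ∨ s = z2 ∨ s = z1 * z2 := by
        intro s hs hs2
        have := h1.double_cent hQ h21 h2.ne hne hs (fun t ht ht2 => hab t ht ht2 s hs hs2)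
        rwa [i2] at this
      -- |Q z1| ≤ 8
      let F : Finset G := {1, z1, z2, z1 * z2, q0, q0 * z1, q0 * z2, q0 * (z1 * z2)}
      have hsub : ((Q z1 : Subgroup G) : Set G) ⊆ (F : Set G) := by
        intro q' hq'
        have hq'' : q' ∈ Q z1 := hq'
        simp only [F, Finset.coe_insert, Finset.coe_singleton, Set.mem_insert_iff,
          Set.mem_singleton_iff]
        by_cases hb2 : q' * z2 = z2 * q'
        · rcases hR1 q' hq'' hb2 with e | e | e | e
          · left; exact e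
          · right; left; exact e
          · right; right; left; exact e
          · right; right; right; left; exact e
        · have e' : q' * z2 * q'⁻¹ * z2⁻¹ = z1 := by
            rcases h1.comm q' hq'' z2 h21 with e | e
            · exfalso; apply hb2
              calc q' * z2 = (q' * z2 * q'⁻¹ * z2⁻¹) * (z2 * q') := by group
                _ = z2 * q' := by rw [e]; group
            · exact e
          have e2 : q' * z2 * q'⁻¹ = q0 * z2 * q0⁻¹ := by
            calc q' * z2 * q'⁻¹ = (q' * z2 * q'⁻¹ * z2⁻¹) * z2 := by group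
              _ = (q0 * z2 * q0⁻¹ * z2⁻¹) * z2 := by rw [e', hq0z]
              _ = q0 * z2 * q0⁻¹ := by group
          have hs2 : (q0⁻¹ * q') * z2 = z2 * (q0⁻¹ * q') := by
            calc (q0⁻¹ * q') * z2 = q0⁻¹ * (q' * z2 * q'⁻¹) * q' := by group
              _ = q0⁻¹ * (q0 * z2 * q0⁻¹) * q' := by rw [e2]
              _ = z2 * (q0⁻¹ * q') := by group
          have hq : ∀ t, q0⁻¹ * q' = t → q' = q0 * t := by
            intro t ht; rw [← ht]; group
          rcases hR1 (q0⁻¹ * q') ((Q z1).mul_mem ((Q z1).inv_mem hq0) hq'') hs2 with e | e | e | e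
          · right; right; right; right; left; rw [hq _ e, mul_one]
          · right; right; right; right; right; left; exact hq _ e
          · right; right; right; right; right; right; left; exact hq _ e
          · right; right; right; right; right; right; right; exact hq _ e
      have hcard1 : Nat.card (Q z1) ≤ 8 := by
        have h1' : Nat.card (Q z1) = ((Q z1 : Subgroup G) : Set G).ncard := by
          rw [← Nat.card_coe_set_eq]; rfl
        rw [h1']
        calc ((Q z1 : Subgroup G) : Set G).ncard ≤ (F : Set G).ncard :=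
              Set.ncard_le_ncard hsub (Finset.finite_toSet F)
          _ = F.card := Set.ncard_coe_finset F
          _ ≤ 8 := by
            calc F.card ≤ _ + 1 := Finset.card_insert_le _ _
              _ ≤ (_ + 1) + 1 := Nat.succ_le_succ (Finset.card_insert_le _ _)
              _ ≤ (6 + 1) + 1 := Nat.succ_le_succ (Nat.succ_le_succ Finset.card_le_six)
      have hcard2 : Nat.card (Q z2) ≤ 8 := hcard.trans hcard1
      -- final contradiction
      have hex : ∃ v0 ∈ Q z2, z1 * v0 ≠ v0 * z1 := by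
        by_contra hcon
        push Not at hcon
        rcases h2.cent z1 hcon with e | e
        · exact h1.ne e
        · exact hne e.symm
      obtain ⟨v0, hv0, hv0n⟩ := hex
      set d0 := z1 * v0 * z1⁻¹ * v0⁻¹ with hd0
      have hd0Q : d0 ∈ Q z2 := hdmem v0 hv0
      have hd01 : z1 * d0 = d0 * z1 := hD v0 hv0
      have hd0ne : ¬ (d0 = 1 ∨ d0 = z2) := fun h => hv0n (hK v0 hv0 h)
      push Not at hd0ne
      have hd0sq : d0 * d0 = 1 := by
        have e := hdinv v0
        rw [← hd0] at e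
        have : d0 = d0⁻¹ := by
          calc d0 = (d0 * z1) * z1⁻¹ := by group
            _ = (z1 * d0) * z1⁻¹ := by rw [hd01]
            _ = d0⁻¹ := e
        calc d0 * d0 = d0 * d0⁻¹ := by rw [← this]
          _ = 1 := by group
      have hv0d0 : v0 * d0 = d0 * v0 := by
        have e1 : z1 * v0 * z1⁻¹ = d0 * v0 := by rw [hd0]; group
        have e2 : (d0 * v0) * (d0 * v0) = v0 * v0 := by
          rw [← e1]
          have hvv : z1 * (v0 * v0) = (v0 * v0) * z1 := by
            rcases h2.sqr v0 hv0 with e | e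
            · rw [e]; group
            · rw [e]; exact hz12.symm
          calc z1 * v0 * z1⁻¹ * (z1 * v0 * z1⁻¹) = (z1 * (v0 * v0)) * z1⁻¹ := by group
            _ = ((v0 * v0) * z1) * z1⁻¹ := by rw [hvv]
            _ = v0 * v0 := by group
        have e3 : d0 * (v0 * d0 * v0⁻¹) = 1 := by
          calc d0 * (v0 * d0 * v0⁻¹) = ((d0 * v0) * (d0 * v0)) * v0⁻¹ * v0⁻¹ := by group
            _ = (v0 * v0) * v0⁻¹ * v0⁻¹ := by rw [e2]
            _ = 1 := by group
        have e4 : v0 * d0 * v0⁻¹ = d0 := by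
          calc v0 * d0 * v0⁻¹ = (d0 * d0) * (v0 * d0 * v0⁻¹) := by rw [hd0sq]; group
            _ = d0 * (d0 * (v0 * d0 * v0⁻¹)) := by group
            _ = d0 := by rw [e3]; group
        calc v0 * d0 = (v0 * d0 * v0⁻¹) * v0 := by group
          _ = d0 * v0 := by rw [e4]
      let M : Subgroup G := Q z2 ⊓ Subgroup.centralizer ({d0} : Set G)
      have hmemM : ∀ m, m ∈ M ↔ m ∈ Q z2 ∧ d0 * m = m * d0 := by
        intro m
        simp only [M, Subgroup.mem_inf, Subgroup.mem_centralizer_iff, Set.mem_singleton_iff,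
          forall_eq]
      have hML : M ≤ Q z2 := inf_le_left
      let F5 : Finset G := {1, z2, d0, d0 * z2, v0}
      have hz2d0 : d0 * z2 = z2 * d0 := Q_comm hQ hd0Q
      have hF5 : (F5 : Set G) ⊆ (M : Set G) := by
        intro m hm
        simp only [F5, Finset.coe_insert, Finset.coe_singleton, Set.mem_insert_iff,
          Set.mem_singleton_iff] at hm
        show m ∈ M
        rw [hmemM]
        rcases hm with rfl | rfl | rfl | rfl | rfl
        · exact ⟨(Q z2).one_mem, by group⟩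
        · exact ⟨h2.mem, hz2d0⟩
        · exact ⟨hd0Q, rfl⟩
        · refine ⟨(Q z2).mul_mem hd0Q h2.mem, ?_⟩
          calc d0 * (d0 * z2) = d0 * (z2 * d0) := by rw [hz2d0]
            _ = d0 * z2 * d0 := by group
        · exact ⟨hv0, hv0d0.symm⟩
      have hcomm1 : ∀ m, z1 * m = m * z1 → m ≠ v0 := by
        intro m hm e; rw [e] at hm; exact hv0n hm
      have hF5card : F5.card = 5 := by
        have n1 : (1 : G) ≠ z2 := fun e => h2.ne e.symm
        have n2 : (1 : G) ≠ d0 := fun e => hd0ne.1 e.symm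
        have n3 : (1 : G) ≠ d0 * z2 := by
          intro e
          apply hd0ne.2
          calc d0 = (d0 * z2) * z2⁻¹ := by group
            _ = z2 := by rw [← e, i2]; group
        have n4 : (1 : G) ≠ v0 := hcomm1 1 (by group)
        have n5 : z2 ≠ d0 := fun e => hd0ne.2 e.symm
        have n6 : z2 ≠ d0 * z2 := by
          intro e
          apply hd0ne.1
          calc d0 = (d0 * z2) * z2⁻¹ := by group
            _ = 1 := by rw [← e]; group
        have n7 : z2 ≠ v0 := hcomm1 z2 hz12.symm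
        have n8 : d0 ≠ d0 * z2 := by
          intro e
          apply h2.ne
          calc z2 = d0⁻¹ * (d0 * z2) := by group
            _ = 1 := by rw [← e]; group
        have n9 : d0 ≠ v0 := hcomm1 d0 hd01
        have n10 : d0 * z2 ≠ v0 := by
          apply hcomm1
          calc z1 * (d0 * z2) = (z1 * d0) * z2 := by group
            _ = (d0 * z1) * z2 := by rw [hd01]
            _ = d0 * (z1 * z2) := by group
            _ = d0 * (z2 * z1) := by rw [hz12]
            _ = d0 * z2 * z1 := by group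
        simp only [F5]
        rw [Finset.card_insert_of_notMem, Finset.card_insert_of_notMem,
          Finset.card_insert_of_notMem, Finset.card_insert_of_notMem, Finset.card_singleton]
        · simp only [Finset.mem_singleton]; exact n10
        · simp only [Finset.mem_insert, Finset.mem_singleton]; push Not; exact ⟨n8, n9⟩
        · simp only [Finset.mem_insert, Finset.mem_singleton]; push Not; exact ⟨n5, n6, n7⟩
        · simp only [Finset.mem_insert, Finset.mem_singleton]; push Not; exact ⟨n1, n2, n3, n4⟩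
      have hM5 : 5 ≤ Nat.card M := by
        have h1' : Nat.card M = ((M : Subgroup G) : Set G).ncard := by
          rw [← Nat.card_coe_set_eq]; rfl
        rw [h1', ← hF5card, ← Set.ncard_coe_finset F5]
        exact Set.ncard_le_ncard hF5 (Set.toFinite _)
      have hdvd : Nat.card M ∣ Nat.card (Q z2) := Subgroup.card_dvd_of_le hML
      have hMeq : Nat.card (Q z2) ≤ Nat.card M := by
        obtain ⟨k, hk⟩ := hdvd
        have hpos : 0 < Nat.card (Q z2) := Nat.card_pos
        rcases k with _ | _ | k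
        · rw [hk] at hpos; simp at hpos
        · rw [hk]; simp
        · exfalso
          have : Nat.card (Q z2) ≥ Nat.card M * 2 := by
            rw [hk]; exact Nat.mul_le_mul_left _ (by omega)
          omega
      have hMtop : M = Q z2 := Subgroup.eq_of_le_of_card_ge hML hMeq
      have hall : ∀ b ∈ Q z2, d0 * b = b * d0 := by
        intro b hb
        rw [← hMtop] at hb
        exact ((hmemM b).1 hb).2
      rcases h2.cent d0 hall with e | e
      · exact hd0ne.1 e
      · exact hd0ne.2 e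



/-- For two distinct mutually orthogonal singular elements, `Q u1 ∩ Q u2 ≤ Q (u1 u2)`. -/
theorem LE.inter_le_mul (hQ : Fam Q) {u1 u2 : G} (h1 : LE Q u1) (h2 : LE Q u2)
    (h12 : u1 ∈ Q u2) (h21 : u2 ∈ Q u1) (hne : u1 ≠ u2) {y : G} (hy1 : y ∈ Q u1)
    (hy2 : y ∈ Q u2) : y ∈ Q (u1 * u2) := by
  obtain ⟨b, hb, hbu⟩ := h2.exists_move h12 h1.ne hne
  have hcomm : u1 * u2 = u2 * u1 := Q_comm hQ h12
  have e1 : b * u1 * b⁻¹ = u1 * u2 := by
    calc b * u1 * b⁻¹ = (b * u1 * b⁻¹ * u1⁻¹) * u1 := by group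
      _ = u2 * u1 := by rw [hbu]
      _ = u1 * u2 := hcomm.symm
  have hy' : b⁻¹ * y * b ∈ Q u1 := by
    have e : b⁻¹ * y * b = y * (y⁻¹ * b⁻¹ * y⁻¹⁻¹ * b⁻¹⁻¹) := by group
    rw [e]
    apply (Q u1).mul_mem hy1
    rcases h2.comm y⁻¹ ((Q u2).inv_mem hy2) b⁻¹ ((Q u2).inv_mem hb) with e' | e'
    · rw [e']; exact (Q u1).one_mem
    · rw [e']; exact h21
  have := mem_Q_conj hQ b hy'
  rw [e1] at this
  have e : b * (b⁻¹ * y * b) * b⁻¹ = y := by group
  rwa [e] at this



theorem LE.isE2 (hQ : Fam Q) {u : G} (h : LE Q u) : IsE2 ↥(Q u) ⟨u, h.mem⟩ := by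
  have hcen : (⟨u, h.mem⟩ : ↥(Q u)) ∈ Subgroup.center ↥(Q u) := by
    rw [Subgroup.mem_center_iff]
    intro b
    apply Subtype.ext
    exact Q_comm hQ b.2
  refine ⟨hcen, fun e => h.ne (congrArg Subtype.val e), ?_, ?_⟩
  · intro w hw
    have : ∀ b ∈ Q u, (w : G) * b = b * w := by
      intro b hb
      have := Subgroup.mem_center_iff.1 hw ⟨b, hb⟩
      exact (congrArg Subtype.val this).symm
    rcases h.cent w this with e | e
    · left; exact Subtype.ext e
    · right; exact Subtype.ext e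
  · rw [commutator_def, Subgroup.commutator_le]
    intro g1 _ g2 _
    have e : ⁅g1, g2⁆ = g1 * g2 * g1⁻¹ * g2⁻¹ := commutatorElement_def g1 g2
    rcases h.comm g1 g1.2 g2 g2.2 with e' | e'
    · have : ⁅g1, g2⁆ = 1 := by rw [e]; exact Subtype.ext e'
      rw [this]; exact Subgroup.one_mem _
    · have : ⁅g1, g2⁆ = ⟨u, h.mem⟩ := by rw [e]; exact Subtype.ext e'
      rw [this]; exact hcen

/-- Double centralizer consequence: an element of `Q u` outside a subgroup `U ∋ u` of `Q u`
is moved by an element of `Q u` centralizing `U`. -/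
theorem LE.exists_cent_move [Finite G] (hQ : Fam Q) {u : G} (h : LE Q u) (U : Subgroup G)
    (hUle : U ≤ Q u) (huU : u ∈ U) {x : G} (hx : x ∈ Q u) (hxU : x ∉ U) :
    ∃ g ∈ Q u, (∀ v ∈ U, v * g = g * v) ∧ g * x * g⁻¹ * x⁻¹ = u := by
  have hE := h.isE2 hQ
  let D : Subgroup ↥(Q u) := U.subgroupOf (Q u)
  have hcenD : Subgroup.center ↥(Q u) ≤ D := by
    intro w hw
    rcases hE.all w hw with e | e
    · rw [e]; exact D.one_mem
    · rw [e]; exact Subgroup.mem_subgroupOf.2 huU
  by_contra hcon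
  push Not at hcon
  apply hxU
  have hxD : (⟨x, hx⟩ : ↥(Q u)) ∈ D := by
    refine mem_of_commute_centralizer (p := 2) hE.card_center
      (fun a q => pairHom hE.comm a q) ?_ ?_ ?_ D hcenD ⟨x, hx⟩ ?_
    · intro a b q; exact pairHom_mul hE.comm a b q
    · intro a q q'; exact map_mul (pairHom hE.comm a) q q'
    · intro a q; exact pairHom_eq_one_iff hE.comm a q
    · intro y hy
      by_contra hne
      have hyc : ∀ v ∈ U, v * (y : G) = y * v := by
        intro v hv
        have := hy ⟨v, hUle hv⟩ (Subgroup.mem_subgroupOf.2 hv)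
        exact (congrArg Subtype.val this).symm
      apply hcon y y.2 hyc
      rcases h.comm y y.2 x hx with e | e
      · exfalso; apply hne
        apply Subtype.ext
        show x * (y : G) = y * x
        calc x * (y : G) = ((y : G) * x * (y : G)⁻¹ * x⁻¹)⁻¹ * (y * x) := by group
          _ = y * x := by rw [e]; group
      · exact e
  exact Subgroup.mem_subgroupOf.1 hxD


end Cfsg.Agent.Lib.Helper4.LXF
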