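import Mathlib
import Cfsg.Agent.Lib.Helper4.LargeExtraF

set_option autoImplicit false

namespace Cfsg.Agent.Lib.Helper4.LXF

open Cfsg

variable {G : Type*} [Group G]

/-! ### The family attached to a subgroup `Q` normalized by `C_G(z)` -/

theorem map_conj_eq_of (Q : Subgroup G) (z : G)
    (hN : Subgroup.centralizer ({z} : Set G) ≤ Subgroup.normalizer (Q : Set G)) {a b : G}
    (h : a * z * a⁻¹ = b * z * b⁻¹) :
    Q.map (MulAut.conj a).toMonoidHom = Q.map (MulAut.conj b).toMonoidHom := by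
  have hc : b⁻¹ * a ∈ Subgroup.centralizer ({z} : Set G) := by
    rw [Subgroup.mem_centralizer_iff]
    intro y hy
    rw [Set.mem_singleton_iff] at hy
    subst hy
    calc y * (b⁻¹ * a) = b⁻¹ * (b * y * b⁻¹) * a := by group
      _ = b⁻¹ * (a * y * a⁻¹) * a := by rw [h]
      _ = b⁻¹ * a * y := by group
  have hn := hN hc
  rw [Subgroup.mem_normalizer_iff] at hn
  ext x
  simp only [Subgroup.mem_map, MulEquiv.coe_toMonoidHom, MulAut.conj_apply]
  constructor
  · rintro ⟨q, hq, rfl⟩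
    refine ⟨b⁻¹ * a * q * (b⁻¹ * a)⁻¹, (hn q).1 hq, by group⟩
  · rintro ⟨q, hq, rfl⟩
    refine ⟨(b⁻¹ * a)⁻¹ * q * (b⁻¹ * a), ?_, by group⟩
    rw [hn]
    have e : b⁻¹ * a * ((b⁻¹ * a)⁻¹ * q * (b⁻¹ * a)) * (b⁻¹ * a)⁻¹ = q := by group
    rw [e]; exact hq

open Classical in
/-- The conjugation-equivariant family with value `Q` at `z`. -/
noncomputable def famOf (Q : Subgroup G) (z : G) : G → Subgroup G := fun x =>
  if h : ∃ a : G, a * z * a⁻¹ = x then Q.map (MulAut.conj (Classical.choose h)).toMonoidHom else ⊥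

theorem famOf_conj (Q : Subgroup G) (z : G)
    (hN : Subgroup.centralizer ({z} : Set G) ≤ Subgroup.normalizer (Q : Set G)) (a : G) :
    famOf Q z (a * z * a⁻¹) = Q.map (MulAut.conj a).toMonoidHom := by
  have h : ∃ b : G, b * z * b⁻¹ = a * z * a⁻¹ := ⟨a, rfl⟩
  unfold famOf
  rw [dif_pos h]
  exact map_conj_eq_of Q z hN (Classical.choose_spec h)

theorem famOf_self (Q : Subgroup G) (z : G)
    (hN : Subgroup.centralizer ({z} : Set G) ≤ Subgroup.normalizer (Q : Set G)) :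
    famOf Q z z = Q := by
  have := famOf_conj Q z hN 1
  simp only [one_mul, inv_one, mul_one] at this
  rw [this]
  ext x
  simp

theorem famOf_fam (Q : Subgroup G) (z : G)
    (hN : Subgroup.centralizer ({z} : Set G) ≤ Subgroup.normalizer (Q : Set G))
    (hQz : ∀ q ∈ Q, q * z = z * q) : Fam (famOf Q z) := by
  constructor
  · intro g x
    by_cases h : ∃ a : G, a * z * a⁻¹ = x
    · obtain ⟨a, rfl⟩ := h
      have e : g * (a * z * a⁻¹) * g⁻¹ = (g * a) * z * (g * a)⁻¹ := by group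
      rw [e, famOf_conj Q z hN, famOf_conj Q z hN]
      ext y
      simp only [Subgroup.mem_map, MulEquiv.coe_toMonoidHom, MulAut.conj_apply]
      constructor
      · rintro ⟨_, ⟨q, hq, rfl⟩, rfl⟩
        exact ⟨q, hq, by group⟩
      · rintro ⟨q, hq, rfl⟩
        exact ⟨a * q * a⁻¹, ⟨q, hq, rfl⟩, by group⟩
    · have h' : ¬ ∃ a : G, a * z * a⁻¹ = g * x * g⁻¹ := by
        rintro ⟨a, ha⟩
        apply h
        refine ⟨g⁻¹ * a, ?_⟩
        calc g⁻¹ * a * z * (g⁻¹ * a)⁻¹ = g⁻¹ * (a * z * a⁻¹) * g := by group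
          _ = x := by rw [ha]; group
      unfold famOf
      rw [dif_neg h, dif_neg h']
      exact Subgroup.map_bot _
  · intro x y hy
    by_cases h : ∃ a : G, a * z * a⁻¹ = x
    · obtain ⟨a, rfl⟩ := h
      rw [famOf_conj Q z hN] at hy
      simp only [Subgroup.mem_map, MulEquiv.coe_toMonoidHom, MulAut.conj_apply] at hy
      obtain ⟨q, hq, rfl⟩ := hy
      calc a * q * a⁻¹ * (a * z * a⁻¹) = a * (q * z) * a⁻¹ := by group
        _ = a * (z * q) * a⁻¹ := by rw [hQz q hq]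
        _ = a * z * a⁻¹ * (a * q * a⁻¹) := by group
    · unfold famOf at hy
      rw [dif_neg h, Subgroup.mem_bot] at hy
      rw [hy]; group

/-! ### Pairs of mutually orthogonal singular elements -/

structure Pair (Q : G → Subgroup G) (z1 z2 : G) : Prop where
  fam : Fam Q
  le1 : LE Q z1
  le2 : LE Q z2
  m21 : z2 ∈ Q z1
  m12 : z1 ∈ Q z2
  ne : z1 ≠ z2

namespace Pair

variable {Q : G → Subgroup G} {z1 z2 : G}

theorem symm (P : Pair Q z1 z2) : Pair Q z2 z1 :=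
  ⟨P.fam, P.le2, P.le1, P.m12, P.m21, P.ne.symm⟩

theorem comm12 (P : Pair Q z1 z2) : z1 * z2 = z2 * z1 := Q_comm P.fam P.m12

theorem exists_q1 (P : Pair Q z1 z2) :
    ∃ q1 ∈ Q z1, q1 * z2 * q1⁻¹ = z1 * z2 ∧ q1 * z1 = z1 * q1 := by
  obtain ⟨q, hq, hqz⟩ := P.le1.exists_move P.m21 P.le2.ne P.ne.symm
  refine ⟨q, hq, ?_, Q_comm P.fam hq⟩
  calc q * z2 * q⁻¹ = (q * z2 * q⁻¹ * z2⁻¹) * z2 := by group
    _ = z1 * z2 := by rw [hqz]

/-- elements of `Q z1` normalize `V = {1, z1, z2, z1 z2}`: the conjugate of `z2` -/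
theorem conj_z2 (P : Pair Q z1 z2) {q : G} (hq : q ∈ Q z1) :
    q * z2 * q⁻¹ = z2 ∨ q * z2 * q⁻¹ = z1 * z2 := by
  rcases P.le1.comm q hq z2 P.m21 with e | e
  · left
    calc q * z2 * q⁻¹ = (q * z2 * q⁻¹ * z2⁻¹) * z2 := by group
      _ = z2 := by rw [e]; group
  · right
    calc q * z2 * q⁻¹ = (q * z2 * q⁻¹ * z2⁻¹) * z2 := by group
      _ = z1 * z2 := by rw [e]

end Pair

end Cfsg.Agent.Lib.Helper4.LXF
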