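import Mathlib
import Cfsg.Agent.Lib.Helper4.LargeExtraP

set_option autoImplicit false

namespace Cfsg.Agent.Lib.Helper4.LXF

open Cfsg

variable {G : Type*} [Group G]

namespace Pair

variable {Q : G → Subgroup G} {z1 z2 : G}

/-- The four-group `V = ⟨z1, z2⟩`. -/
def VV (z1 z2 : G) : Subgroup G := Subgroup.closure ({z1, z2} : Set G)

def R1 (Q : G → Subgroup G) (z1 z2 : G) : Subgroup G :=
  Q z1 ⊓ Subgroup.centralizer ({z2} : Set G)

def R2 (Q : G → Subgroup G) (z1 z2 : G) : Subgroup G :=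
  Q z2 ⊓ Subgroup.centralizer ({z1} : Set G)

theorem mem_R1 {r : G} : r ∈ R1 Q z1 z2 ↔ r ∈ Q z1 ∧ r * z2 = z2 * r := by
  rw [R1, Subgroup.mem_inf, Subgroup.mem_centralizer_singleton_iff]

theorem mem_R2 {r : G} : r ∈ R2 Q z1 z2 ↔ r ∈ Q z2 ∧ r * z1 = z1 * r := by
  rw [R2, Subgroup.mem_inf, Subgroup.mem_centralizer_singleton_iff]

theorem mem_CV {c : G} :
    c ∈ Subgroup.centralizer (VV z1 z2 : Set G) ↔ c * z1 = z1 * c ∧ c * z2 = z2 * c := by
  rw [VV, Subgroup.centralizer_closure, Subgroup.mem_centralizer_iff]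
  constructor
  · intro h
    exact ⟨(h z1 (by simp)).symm, (h z2 (by simp)).symm⟩
  · rintro ⟨h1, h2⟩ y hy
    rcases hy with rfl | rfl
    · exact h1.symm
    · exact h2.symm

theorem z1_mem_VV : z1 ∈ VV z1 z2 := Subgroup.subset_closure (by simp)
theorem z2_mem_VV : z2 ∈ VV z1 z2 := Subgroup.subset_closure (by simp)

theorem mem_VV (P : Pair Q z1 z2) {v : G} :
    v ∈ VV z1 z2 ↔ v = 1 ∨ v = z1 ∨ v = z2 ∨ v = z1 * z2 := by
  have s1 := P.le1.sq
  have s2 := P.le2.sq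
  have hc := P.comm12
  have i1 := P.le1.inv_eq
  have i2 := P.le2.inv_eq
  constructor
  · intro hv
    have step : ∀ x : G, (x = 1 ∨ x = z1 ∨ x = z2 ∨ x = z1 * z2) → ∀ y ∈ ({z1, z2} : Set G),
        (x * y = 1 ∨ x * y = z1 ∨ x * y = z2 ∨ x * y = z1 * z2) := by
      intro x hx y hy
      have hy' : y = z1 ∨ y = z2 := by simpa using hy
      rcases hy' with hy' | hy' <;> rw [hy']
      · rcases hx with hx | hx | hx | hx <;> rw [hx]
        · right; left; group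
        · left; exact s1
        · right; right; right; exact hc.symm
        · right; right; left
          calc z1 * z2 * z1 = z1 * (z2 * z1) := by group
            _ = z1 * (z1 * z2) := by rw [hc]
            _ = (z1 * z1) * z2 := by group
            _ = z2 := by rw [s1]; group
      · rcases hx with hx | hx | hx | hx <;> rw [hx]
        · right; right; left; group
        · right; right; right; rfl
        · left; exact s2
        · right; left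
          calc z1 * z2 * z2 = z1 * (z2 * z2) := by group
            _ = z1 := by rw [s2]; group
    refine Subgroup.closure_induction_right (p := fun x _ => x = 1 ∨ x = z1 ∨ x = z2 ∨ x = z1 * z2)
      (Or.inl rfl) (fun x _ y hy ih => step x ih y hy) (fun x _ y hy ih => ?_) hv
    have : y⁻¹ = y := by
      have hy' : y = z1 ∨ y = z2 := by simpa using hy
      rcases hy' with hy' | hy' <;> rw [hy']
      · exact i1
      · exact i2
    rw [this]
    exact step x ih y hy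
  · rintro (rfl | rfl | rfl | rfl)
    · exact Subgroup.one_mem _
    · exact z1_mem_VV
    · exact z2_mem_VV
    · exact Subgroup.mul_mem _ z1_mem_VV z2_mem_VV

theorem R1_le_CV (P : Pair Q z1 z2) : R1 Q z1 z2 ≤ Subgroup.centralizer (VV z1 z2 : Set G) := by
  intro r hr
  rw [mem_R1] at hr
  exact mem_CV.2 ⟨Q_comm P.fam hr.1, hr.2⟩

theorem R2_le_CV (P : Pair Q z1 z2) : R2 Q z1 z2 ≤ Subgroup.centralizer (VV z1 z2 : Set G) := by
  intro r hr
  rw [mem_R2] at hr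
  exact mem_CV.2 ⟨hr.2, Q_comm P.fam hr.1⟩

theorem Q1_inf_CV (P : Pair Q z1 z2) :
    Q z1 ⊓ Subgroup.centralizer (VV z1 z2 : Set G) = R1 Q z1 z2 := by
  ext r
  rw [Subgroup.mem_inf, mem_CV, mem_R1]
  constructor
  · rintro ⟨h1, _, h3⟩; exact ⟨h1, h3⟩
  · rintro ⟨h1, h3⟩; exact ⟨h1, Q_comm P.fam h1, h3⟩

theorem Q2_inf_CV (P : Pair Q z1 z2) :
    Q z2 ⊓ Subgroup.centralizer (VV z1 z2 : Set G) = R2 Q z1 z2 := by
  ext r
  rw [Subgroup.mem_inf, mem_CV, mem_R2]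
  constructor
  · rintro ⟨h1, h2, _⟩; exact ⟨h1, h2⟩
  · rintro ⟨h1, h3⟩; exact ⟨h1, h3, Q_comm P.fam h1⟩

/-- `Q z1` normalizes `V`. -/
theorem conj_mem_VV_of_Q1 (P : Pair Q z1 z2) {q : G} (hq : q ∈ Q z1) {v : G}
    (hv : v ∈ VV z1 z2) : q * v * q⁻¹ ∈ VV z1 z2 := by
  have hq1 : q * z1 = z1 * q := Q_comm P.fam hq
  have e1 : q * z1 * q⁻¹ = z1 := by rw [hq1]; group
  rw [P.mem_VV] at hv
  rcases hv with rfl | rfl | rfl | rfl
  · have : q * 1 * q⁻¹ = 1 := by group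
    rw [this]; exact Subgroup.one_mem _
  · rw [e1]; exact z1_mem_VV
  · rcases P.conj_z2 hq with e | e
    · rw [e]; exact z2_mem_VV
    · rw [e]; exact Subgroup.mul_mem _ z1_mem_VV z2_mem_VV
  · have : q * (z1 * z2) * q⁻¹ = (q * z1 * q⁻¹) * (q * z2 * q⁻¹) := by group
    rw [this, e1]
    exact Subgroup.mul_mem _ z1_mem_VV
      (by rcases P.conj_z2 hq with e | e
          · rw [e]; exact z2_mem_VV
          · rw [e]; exact Subgroup.mul_mem _ z1_mem_VV z2_mem_VV)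

theorem VV_symm : VV z1 z2 = VV z2 z1 := by
  unfold VV
  rw [Set.pair_comm]

theorem Q1_le_NV (P : Pair Q z1 z2) : Q z1 ≤ Subgroup.normalizer (VV z1 z2 : Set G) := by
  intro q hq
  rw [Subgroup.mem_normalizer_iff]
  intro v
  constructor
  · exact P.conj_mem_VV_of_Q1 hq
  · intro hv
    have := P.conj_mem_VV_of_Q1 ((Q z1).inv_mem hq) hv
    have e : q⁻¹ * (q * v * q⁻¹) * q⁻¹⁻¹ = v := by group
    rwa [e] at this

theorem Q2_le_NV (P : Pair Q z1 z2) : Q z2 ≤ Subgroup.normalizer (VV z1 z2 : Set G) := by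
  rw [VV_symm]
  exact P.symm.Q1_le_NV

theorem X_le_NV (P : Pair Q z1 z2) : Q z1 ⊔ Q z2 ≤ Subgroup.normalizer (VV z1 z2 : Set G) :=
  sup_le P.Q1_le_NV P.Q2_le_NV

/-- The centralizer of a subgroup is normalized by its normalizer. -/
theorem conj_mem_centralizer (V : Subgroup G) {n c : G}
    (hn : n ∈ Subgroup.normalizer (V : Set G)) (hc : c ∈ Subgroup.centralizer (V : Set G)) :
    n * c * n⁻¹ ∈ Subgroup.centralizer (V : Set G) := by
  rw [Subgroup.mem_centralizer_iff] at hc ⊢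
  intro v hv
  have hv' : n⁻¹ * v * n ∈ V := by
    rw [Subgroup.mem_normalizer_iff] at hn
    rw [hn]
    have e : n * (n⁻¹ * v * n) * n⁻¹ = v := by group
    rw [e]; exact hv
  have := hc _ hv'
  calc v * (n * c * n⁻¹) = n * ((n⁻¹ * v * n) * c) * n⁻¹ := by group
    _ = n * (c * (n⁻¹ * v * n)) * n⁻¹ := by rw [this]
    _ = n * c * n⁻¹ * v := by group

/-- elements of `C(V)` normalize `Q z1`. -/
theorem CV_conj_Q1 (P : Pair Q z1 z2) {c : G} (hc : c ∈ Subgroup.centralizer (VV z1 z2 : Set G))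
    {q : G} (hq : q ∈ Q z1) : c * q * c⁻¹ ∈ Q z1 :=
  Q_normal P.fam (mem_CV.1 hc).1 hq

theorem CV_conj_Q2 (P : Pair Q z1 z2) {c : G} (hc : c ∈ Subgroup.centralizer (VV z1 z2 : Set G))
    {q : G} (hq : q ∈ Q z2) : c * q * c⁻¹ ∈ Q z2 :=
  Q_normal P.fam (mem_CV.1 hc).2 hq

/-- `[Q z1, C(V)] ≤ R1`. -/
theorem comm_Q1_CV (P : Pair Q z1 z2) {q : G} (hq : q ∈ Q z1) {c : G}
    (hc : c ∈ Subgroup.centralizer (VV z1 z2 : Set G)) : q * c * q⁻¹ * c⁻¹ ∈ R1 Q z1 z2 := by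
  rw [← P.Q1_inf_CV, Subgroup.mem_inf]
  constructor
  · have : q * c * q⁻¹ * c⁻¹ = q * (c * q⁻¹ * c⁻¹) := by group
    rw [this]
    exact (Q z1).mul_mem hq (P.CV_conj_Q1 hc ((Q z1).inv_mem hq))
  · exact Subgroup.mul_mem _ (conj_mem_centralizer _ (P.Q1_le_NV hq) hc) (Subgroup.inv_mem _ hc)

theorem comm_Q2_CV (P : Pair Q z1 z2) {q : G} (hq : q ∈ Q z2) {c : G}
    (hc : c ∈ Subgroup.centralizer (VV z1 z2 : Set G)) : q * c * q⁻¹ * c⁻¹ ∈ R2 Q z1 z2 := by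
  have := P.symm.comm_Q1_CV hq (c := c) (by rw [← VV_symm]; exact hc)
  exact this

/-- `E = Q z1 ⊓ Q z2 = R1 ⊓ R2`. -/
theorem R1_inf_R2 (P : Pair Q z1 z2) : R2 Q z1 z2 ⊓ R1 Q z1 z2 = Q z1 ⊓ Q z2 := by
  ext r
  simp only [Subgroup.mem_inf, mem_R1, mem_R2]
  constructor
  · rintro ⟨⟨h2, _⟩, ⟨h1, _⟩⟩; exact ⟨h1, h2⟩
  · rintro ⟨h1, h2⟩
    exact ⟨⟨h2, Q_comm P.fam h1⟩, ⟨h1, Q_comm P.fam h2⟩⟩

/-- `[R1, R2] ≤ E`. -/
theorem comm_R1_R2 (P : Pair Q z1 z2) {r1 r2 : G} (h1 : r1 ∈ R1 Q z1 z2) (h2 : r2 ∈ R2 Q z1 z2) :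
    r1 * r2 * r1⁻¹ * r2⁻¹ ∈ Q z1 ⊓ Q z2 := by
  rw [mem_R1] at h1
  rw [mem_R2] at h2
  rw [Subgroup.mem_inf]
  constructor
  · have : r1 * r2 * r1⁻¹ * r2⁻¹ = r1 * (r2 * r1⁻¹ * r2⁻¹) := by group
    rw [this]
    exact (Q z1).mul_mem h1.1 (Q_normal P.fam h2.2 ((Q z1).inv_mem h1.1))
  · exact (Q z2).mul_mem (Q_normal P.fam h1.2 h2.1) ((Q z2).inv_mem h2.1)

end Pair

end Cfsg.Agent.Lib.Helper4.LXF
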