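import Mathlib
import Cfsg.Agent.Lib.Helper4.LargeExtraP2

set_option autoImplicit false

namespace Cfsg.Agent.Lib.Helper4.LXF

open Cfsg

variable {G : Type*} [Group G]

namespace Pair

variable {Q : G → Subgroup G} {z1 z2 : G}

def RR (Q : G → Subgroup G) (z1 z2 : G) : Subgroup G := R2 Q z1 z2 ⊔ R1 Q z1 z2

def XX (Q : G → Subgroup G) (z1 z2 : G) : Subgroup G := Q z1 ⊔ Q z2

theorem RR_symm : RR Q z2 z1 = RR Q z1 z2 := by
  unfold RR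
  rw [sup_comm]
  rfl

theorem XX_symm : XX Q z2 z1 = XX Q z1 z2 := by
  unfold XX
  rw [sup_comm]

theorem RR_le_CV (P : Pair Q z1 z2) : RR Q z1 z2 ≤ Subgroup.centralizer (VV z1 z2 : Set G) :=
  sup_le P.R2_le_CV P.R1_le_CV

theorem RR_le_XX : RR Q z1 z2 ≤ XX Q z1 z2 :=
  sup_le (inf_le_left.trans le_sup_right) (inf_le_left.trans le_sup_left)

theorem R1_le_RR : R1 Q z1 z2 ≤ RR Q z1 z2 := le_sup_right
theorem R2_le_RR : R2 Q z1 z2 ≤ RR Q z1 z2 := le_sup_left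

theorem conj_R1_of_Q1 (P : Pair Q z1 z2) {q : G} (hq : q ∈ Q z1) {r : G}
    (hr : r ∈ R1 Q z1 z2) : q * r * q⁻¹ ∈ R1 Q z1 z2 := by
  have hr' := hr
  rw [← P.Q1_inf_CV, Subgroup.mem_inf] at hr' ⊢
  exact ⟨(Q z1).mul_mem ((Q z1).mul_mem hq hr'.1) ((Q z1).inv_mem hq),
    conj_mem_centralizer _ (P.Q1_le_NV hq) hr'.2⟩

theorem conj_R2_of_Q1 (P : Pair Q z1 z2) {q : G} (hq : q ∈ Q z1) {r : G}
    (hr : r ∈ R2 Q z1 z2) : q * r * q⁻¹ ∈ RR Q z1 z2 := by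
  have e : q * r * q⁻¹ = (q * r * q⁻¹ * r⁻¹) * r := by group
  rw [e]
  exact (RR Q z1 z2).mul_mem (R1_le_RR (P.comm_Q1_CV hq (P.R2_le_CV hr))) (R2_le_RR hr)

theorem conj_RR_of_Q1 (P : Pair Q z1 z2) {q : G} (hq : q ∈ Q z1) {r : G}
    (hr : r ∈ RR Q z1 z2) : q * r * q⁻¹ ∈ RR Q z1 z2 := by
  have h : (RR Q z1 z2).map (MulAut.conj q).toMonoidHom ≤ RR Q z1 z2 := by
    unfold RR
    rw [Subgroup.map_sup]
    apply sup_le
    · rintro _ ⟨r, hr, rfl⟩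
      exact P.conj_R2_of_Q1 hq hr
    · rintro _ ⟨r, hr, rfl⟩
      exact R1_le_RR (P.conj_R1_of_Q1 hq hr)
  exact h ⟨r, hr, rfl⟩

theorem Q1_le_NR (P : Pair Q z1 z2) : Q z1 ≤ Subgroup.normalizer (RR Q z1 z2 : Set G) := by
  intro q hq
  rw [Subgroup.mem_normalizer_iff]
  intro r
  constructor
  · exact P.conj_RR_of_Q1 hq
  · intro hr
    have := P.conj_RR_of_Q1 ((Q z1).inv_mem hq) hr
    have e : q⁻¹ * (q * r * q⁻¹) * q⁻¹⁻¹ = r := by group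
    rwa [e] at this

theorem XX_le_NR (P : Pair Q z1 z2) : XX Q z1 z2 ≤ Subgroup.normalizer (RR Q z1 z2 : Set G) := by
  apply sup_le P.Q1_le_NR
  have := P.symm.Q1_le_NR
  rwa [RR_symm] at this

theorem conj_RR_of_XX (P : Pair Q z1 z2) {x : G} (hx : x ∈ XX Q z1 z2) {r : G}
    (hr : r ∈ RR Q z1 z2) : x * r * x⁻¹ ∈ RR Q z1 z2 := by
  have := P.XX_le_NR hx
  rw [Subgroup.mem_normalizer_iff] at this
  exact (this r).1 hr

/-- `[X, C(V)] ≤ R`. -/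
theorem comm_XX_CV (P : Pair Q z1 z2) {x : G} (hx : x ∈ XX Q z1 z2) {c : G}
    (hc : c ∈ Subgroup.centralizer (VV z1 z2 : Set G)) : x * c * x⁻¹ * c⁻¹ ∈ RR Q z1 z2 := by
  let K : Subgroup G :=
    { carrier := {x | x ∈ Subgroup.normalizer (RR Q z1 z2 : Set G) ∧
        ∀ c ∈ Subgroup.centralizer (VV z1 z2 : Set G), x * c * x⁻¹ * c⁻¹ ∈ RR Q z1 z2}
      one_mem' := by
        refine ⟨Subgroup.one_mem _, fun c _ => ?_⟩
        have : (1 : G) * c * 1⁻¹ * c⁻¹ = 1 := by group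
        rw [this]; exact Subgroup.one_mem _
      mul_mem' := by
        rintro a b ⟨ha1, ha2⟩ ⟨hb1, hb2⟩
        refine ⟨Subgroup.mul_mem _ ha1 hb1, fun c hc => ?_⟩
        have e : a * b * c * (a * b)⁻¹ * c⁻¹ = (a * (b * c * b⁻¹ * c⁻¹) * a⁻¹) * (a * c * a⁻¹ * c⁻¹) := by
          group
        rw [e]
        refine Subgroup.mul_mem _ ?_ (ha2 c hc)
        rw [Subgroup.mem_normalizer_iff] at ha1
        exact (ha1 _).1 (hb2 c hc)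
      inv_mem' := by
        rintro a ⟨ha1, ha2⟩
        refine ⟨Subgroup.inv_mem _ ha1, fun c hc => ?_⟩
        have e : a⁻¹ * c * a⁻¹⁻¹ * c⁻¹ = a⁻¹ * (a * c * a⁻¹ * c⁻¹)⁻¹ * a⁻¹⁻¹ := by group
        rw [e]
        have := Subgroup.inv_mem _ ha1
        rw [Subgroup.mem_normalizer_iff] at this
        exact (this _).1 (Subgroup.inv_mem _ (ha2 c hc)) }
  have hK1 : Q z1 ≤ K := fun q hq =>
    ⟨P.Q1_le_NR hq, fun c hc => R1_le_RR (P.comm_Q1_CV hq hc)⟩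
  have hK2 : Q z2 ≤ K := fun q hq =>
    ⟨by have := P.symm.Q1_le_NR hq; rwa [RR_symm] at this,
      fun c hc => R2_le_RR (P.comm_Q2_CV hq hc)⟩
  have hXK : XX Q z1 z2 ≤ K := sup_le hK1 hK2
  exact (hXK hx).2 c hc

/-- Every element of `Q z1` lies in `R1` or in `q1 R1`. -/
theorem Q1_cases (P : Pair Q z1 z2) {q1 : G} (hq1 : q1 ∈ Q z1) (h1 : q1 * z2 * q1⁻¹ = z1 * z2)
    {q : G} (hq : q ∈ Q z1) : q ∈ R1 Q z1 z2 ∨ q1⁻¹ * q ∈ R1 Q z1 z2 := by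
  rcases P.conj_z2 hq with e | e
  · left
    rw [mem_R1]
    refine ⟨hq, ?_⟩
    calc q * z2 = (q * z2 * q⁻¹) * q := by group
      _ = z2 * q := by rw [e]
  · right
    rw [mem_R1]
    refine ⟨(Q z1).mul_mem ((Q z1).inv_mem hq1) hq, ?_⟩
    calc q1⁻¹ * q * z2 = q1⁻¹ * (q * z2 * q⁻¹) * q := by group
      _ = q1⁻¹ * (q1 * z2 * q1⁻¹) * q := by rw [e, h1]
      _ = z2 * (q1⁻¹ * q) := by group

end Pair

end Cfsg.Agent.Lib.Helper4.LXF
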