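import Mathlib
import Cfsg.Agent.Lib.Helper4.LargeExtraP3

set_option autoImplicit false

namespace Cfsg.Agent.Lib.Helper4.LXF

open Cfsg

variable {G : Type*} [Group G]

/-- `Cj g x y` : `g x g⁻¹ = y`. -/
def Cj (g x y : G) : Prop := g * x * g⁻¹ = y

theorem Cj.mul {g h x w y : G} (h1 : Cj h x w) (h2 : Cj g w y) : Cj (g * h) x y := by
  unfold Cj at *
  calc g * h * x * (g * h)⁻¹ = g * (h * x * h⁻¹) * g⁻¹ := by group
    _ = y := by rw [h1, h2]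

theorem Cj.inv {g x y : G} (h : Cj g x y) : Cj g⁻¹ y x := by
  unfold Cj at *
  rw [← h]; group

theorem Cj.prod {g x y x' y' : G} (h : Cj g x y) (h' : Cj g x' y') : Cj g (x * x') (y * y') := by
  unfold Cj at *
  calc g * (x * x') * g⁻¹ = (g * x * g⁻¹) * (g * x' * g⁻¹) := by group
    _ = y * y' := by rw [h, h']

theorem Cj.comm {g x : G} (h : Cj g x x) : g * x = x * g := by
  unfold Cj at h
  calc g * x = (g * x * g⁻¹) * g := by group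
    _ = x * g := by rw [h]

namespace Pair

variable {Q : G → Subgroup G} {z1 z2 : G}

theorem z1_mem_R2 (P : Pair Q z1 z2) : z1 ∈ R2 Q z1 z2 := mem_R2.2 ⟨P.m12, rfl⟩
theorem z2_mem_R1 (P : Pair Q z1 z2) : z2 ∈ R1 Q z1 z2 := mem_R1.2 ⟨P.m21, rfl⟩
theorem z1_mem_R1 (P : Pair Q z1 z2) : z1 ∈ R1 Q z1 z2 := mem_R1.2 ⟨P.le1.mem, P.comm12⟩
theorem z2_mem_R2 (P : Pair Q z1 z2) : z2 ∈ R2 Q z1 z2 := mem_R2.2 ⟨P.le2.mem, P.comm12.symm⟩

theorem sq_mem_R1 (P : Pair Q z1 z2) {q : G} (hq : q ∈ Q z1) : q * q ∈ R1 Q z1 z2 := by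
  rcases P.le1.sqr q hq with e | e
  · rw [e]; exact Subgroup.one_mem _
  · rw [e]; exact P.z1_mem_R1

theorem sq_mem_R2 (P : Pair Q z1 z2) {q : G} (hq : q ∈ Q z2) : q * q ∈ R2 Q z1 z2 := by
  rcases P.le2.sqr q hq with e | e
  · rw [e]; exact Subgroup.one_mem _
  · rw [e]; exact P.z2_mem_R2

/-- The data of two "transposition" elements. -/
structure Trans (P : Pair Q z1 z2) (q1 q2 : G) : Prop where
  m1 : q1 ∈ Q z1
  m2 : q2 ∈ Q z2
  c1 : Cj q1 z2 (z1 * z2)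
  c2 : Cj q2 z1 (z1 * z2)

theorem exists_trans (P : Pair Q z1 z2) : ∃ q1 q2 : G, P.Trans q1 q2 := by
  obtain ⟨q1, hq1, h1, -⟩ := P.exists_q1
  obtain ⟨q2, hq2, h2, -⟩ := P.symm.exists_q1
  refine ⟨q1, q2, hq1, hq2, h1, ?_⟩
  show q2 * z1 * q2⁻¹ = z1 * z2
  rw [h2, P.comm12]

namespace Trans

variable {P : Pair Q z1 z2} {q1 q2 : G}

theorem q1z1 (T : P.Trans q1 q2) : Cj q1 z1 z1 := by
  have := Q_comm P.fam T.m1
  show q1 * z1 * q1⁻¹ = z1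
  rw [this]; group

theorem q2z2 (T : P.Trans q1 q2) : Cj q2 z2 z2 := by
  have := Q_comm P.fam T.m2
  show q2 * z2 * q2⁻¹ = z2
  rw [this]; group

theorem q1z3 (T : P.Trans q1 q2) : Cj q1 (z1 * z2) z2 := by
  have := T.q1z1.prod T.c1
  have e : z1 * (z1 * z2) = z2 := by
    calc z1 * (z1 * z2) = (z1 * z1) * z2 := by group
      _ = z2 := by rw [P.le1.sq]; group
  rwa [e] at this

theorem q2z3 (T : P.Trans q1 q2) : Cj q2 (z1 * z2) z1 := by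
  have := T.c2.prod T.q2z2
  have e : z1 * z2 * z2 = z1 := by
    calc z1 * z2 * z2 = z1 * (z2 * z2) := by group
      _ = z1 := by rw [P.le2.sq]; group
  rwa [e] at this

/-- The braid relation modulo `R`. -/
theorem braid (T : P.Trans q1 q2) :
    (q2 * q1 * q2⁻¹)⁻¹ * (q1 * q2 * q1⁻¹) ∈ RR Q z1 z2 := by
  set a := q2 * q1 * q2⁻¹ with ha
  set b := q1 * q2 * q1⁻¹ with hb
  -- both lie in Q (z1 z2)
  have haQ : a ∈ Q (z1 * z2) := by
    have := mem_Q_conj P.fam q2 T.m1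
    rwa [T.c2] at this
  have hbQ : b ∈ Q (z1 * z2) := by
    have := mem_Q_conj P.fam q1 T.m2
    rwa [T.c1] at this
  have habQ : a⁻¹ * b ∈ Q (z1 * z2) := (Q _).mul_mem ((Q _).inv_mem haQ) hbQ
  -- action on V
  have a1 : Cj a z1 z2 := by rw [ha, mul_assoc]; exact (T.q2z3.inv.mul T.q1z3).mul T.q2z2
  have a2 : Cj a z2 z1 := by rw [ha, mul_assoc]; exact (T.q2z2.inv.mul T.c1).mul T.q2z3
  have b1 : Cj b z1 z2 := by rw [hb, mul_assoc]; exact (T.q1z1.inv.mul T.c2).mul T.q1z3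
  have b2 : Cj b z2 z1 := by rw [hb, mul_assoc]; exact (T.q1z3.inv.mul T.q2z3).mul T.q1z1
  have ab1 : Cj (a⁻¹ * b) z1 z1 := b1.mul a1.inv
  have ab2 : Cj (a⁻¹ * b) z2 z2 := b2.mul a2.inv
  have habC : a⁻¹ * b ∈ Subgroup.centralizer (VV z1 z2 : Set G) :=
    mem_CV.2 ⟨ab1.comm, ab2.comm⟩
  -- conjugate back by q2
  have h1 : q2⁻¹ * (a⁻¹ * b) * q2 ∈ Q z1 := by
    have e : z1 * z2 = q2 * z1 * q2⁻¹ := T.c2.symm
    rw [e] at habQ
    exact (mem_Q_conj_iff P.fam q2 z1 _).1 habQ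
  have h2 : q2⁻¹ * (a⁻¹ * b) * q2 ∈ Subgroup.centralizer (VV z1 z2 : Set G) := by
    have := conj_mem_centralizer _ (Subgroup.inv_mem _ (P.Q2_le_NV T.m2)) habC
    simpa using this
  have h3 : q2⁻¹ * (a⁻¹ * b) * q2 ∈ R1 Q z1 z2 := by
    rw [← P.Q1_inf_CV]; exact ⟨h1, h2⟩
  have h4 := P.conj_RR_of_XX (x := q2) (Subgroup.mem_sup_right T.m2) (R1_le_RR h3)
  have e : q2 * (q2⁻¹ * (a⁻¹ * b) * q2) * q2⁻¹ = a⁻¹ * b := by group
  rwa [e] at h4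

end Trans

end Pair

end Cfsg.Agent.Lib.Helper4.LXF
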