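import Mathlib
import Cfsg.Agent.Lib.Helper4.LargeExtraP4

set_option autoImplicit false

namespace Cfsg.Agent.Lib.Helper4.LXF

open Cfsg

/-- A group generated by two involutions satisfying the braid relation has at most 6 elements. -/
theorem card_le_six_of_braid {D : Type*} [Group D] (a b : D) (ha : a * a = 1) (hb : b * b = 1)
    (hbr : a * b * a = b * a * b) (hgen : Subgroup.closure ({a, b} : Set D) = ⊤) :
    Nat.card D ≤ 6 := by
  classical
  have ia : a⁻¹ = a := inv_eq_of_mul_eq_one_right ha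
  have ib : b⁻¹ = b := inv_eq_of_mul_eq_one_right hb
  let S : Finset D := {1, a, b, a * b, b * a, a * b * a}
  have hmemS : ∀ x, x ∈ S ↔ x = 1 ∨ x = a ∨ x = b ∨ x = a * b ∨ x = b * a ∨ x = a * b * a := by
    intro x; simp [S]
  have stepa : ∀ y ∈ S, a * y ∈ S := by
    intro y hy
    rw [hmemS] at hy ⊢
    rcases hy with rfl | rfl | rfl | rfl | rfl | rfl
    · right; left; group
    · left; exact ha
    · right; right; right; left; rfl
    · right; right; left
      calc a * (a * b) = (a * a) * b := by group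
        _ = b := by rw [ha]; group
    · right; right; right; right; right; group
    · right; right; right; right; left
      calc a * (a * b * a) = (a * a) * (b * a) := by group
        _ = b * a := by rw [ha]; group
  have stepb : ∀ y ∈ S, b * y ∈ S := by
    intro y hy
    rw [hmemS] at hy ⊢
    rcases hy with rfl | rfl | rfl | rfl | rfl | rfl
    · right; right; left; group
    · right; right; right; right; left; rfl
    · left; exact hb
    · right; right; right; right; right
      calc b * (a * b) = b * a * b := by group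
        _ = a * b * a := hbr.symm
    · right; left
      calc b * (b * a) = (b * b) * a := by group
        _ = a := by rw [hb]; group
    · right; right; right; left
      calc b * (a * b * a) = b * (b * a * b) := by rw [hbr]
        _ = (b * b) * (a * b) := by group
        _ = a * b := by rw [hb]; group
  have hall : ∀ x : D, x ∈ S := by
    intro x
    have hx : x ∈ Subgroup.closure ({a, b} : Set D) := by rw [hgen]; exact Subgroup.mem_top x
    refine Subgroup.closure_induction_left (p := fun x _ => x ∈ S) ?_ ?_ ?_ hx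
    · rw [hmemS]; left; rfl
    · intro g hg y _ hy
      have hg' : g = a ∨ g = b := by simpa using hg
      rcases hg' with rfl | rfl
      · exact stepa y hy
      · exact stepb y hy
    · intro g hg y _ hy
      have hg' : g = a ∨ g = b := by simpa using hg
      rcases hg' with rfl | rfl
      · rw [ia]; exact stepa y hy
      · rw [ib]; exact stepb y hy
  have hfin : Finite D := Finite.of_injective (fun x : D => (⟨x, hall x⟩ : S)) (by
    intro x y h; exact congrArg Subtype.val h)
  have h1 : Nat.card D ≤ Nat.card S := Nat.card_le_card_of_injective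
    (fun x : D => (⟨x, hall x⟩ : S)) (by intro x y h; exact congrArg Subtype.val h)
  have h2 : Nat.card S = S.card := by simp
  have h3 : S.card ≤ 6 := Finset.card_le_six
  omega

variable {G : Type*} [Group G]

namespace Pair

variable {Q : G → Subgroup G} {z1 z2 : G}

theorem RR_normal_in_XX (P : Pair Q z1 z2) :
    ((RR Q z1 z2).subgroupOf (XX Q z1 z2)).Normal :=
  (Subgroup.normal_subgroupOf_iff_le_normalizer RR_le_XX).2 P.XX_le_NR

/-- `R` has index at most 6 in `X`. -/
theorem index_RR_le (P : Pair Q z1 z2) :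
    ((RR Q z1 z2).subgroupOf (XX Q z1 z2)).index ≤ 6 := by
  obtain ⟨q1, q2, T⟩ := P.exists_trans
  have := P.RR_normal_in_XX
  set X := XX Q z1 z2 with hX
  set R' := (RR Q z1 z2).subgroupOf X with hR'
  have hq1X : q1 ∈ X := Subgroup.mem_sup_left T.m1
  have hq2X : q2 ∈ X := Subgroup.mem_sup_right T.m2
  let a : ↥X ⧸ R' := QuotientGroup.mk ⟨q1, hq1X⟩
  let b : ↥X ⧸ R' := QuotientGroup.mk ⟨q2, hq2X⟩
  have hmk1 : ∀ (x : G) (hx : x ∈ X), x ∈ RR Q z1 z2 → (QuotientGroup.mk ⟨x, hx⟩ : ↥X ⧸ R') = 1 := by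
    intro x hx hxR
    rw [QuotientGroup.eq_one_iff]
    exact Subgroup.mem_subgroupOf.2 hxR
  have ha : a * a = 1 := by
    show (QuotientGroup.mk ⟨q1, hq1X⟩ : ↥X ⧸ R') * QuotientGroup.mk ⟨q1, hq1X⟩ = 1
    rw [← QuotientGroup.mk_mul]
    exact hmk1 (q1 * q1) _ (R1_le_RR (P.sq_mem_R1 T.m1))
  have hb : b * b = 1 := by
    show (QuotientGroup.mk ⟨q2, hq2X⟩ : ↥X ⧸ R') * QuotientGroup.mk ⟨q2, hq2X⟩ = 1
    rw [← QuotientGroup.mk_mul]
    exact hmk1 (q2 * q2) _ (R2_le_RR (P.sq_mem_R2 T.m2))
  have ia : a⁻¹ = a := inv_eq_of_mul_eq_one_right ha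
  have ib : b⁻¹ = b := inv_eq_of_mul_eq_one_right hb
  have hbr : a * b * a = b * a * b := by
    have h := hmk1 _ (X.mul_mem (X.inv_mem (X.mul_mem (X.mul_mem hq2X hq1X) (X.inv_mem hq2X)))
      (X.mul_mem (X.mul_mem hq1X hq2X) (X.inv_mem hq1X))) T.braid
    have e : (QuotientGroup.mk ⟨(q2 * q1 * q2⁻¹)⁻¹ * (q1 * q2 * q1⁻¹), X.mul_mem
        (X.inv_mem (X.mul_mem (X.mul_mem hq2X hq1X) (X.inv_mem hq2X)))
        (X.mul_mem (X.mul_mem hq1X hq2X) (X.inv_mem hq1X))⟩ : ↥X ⧸ R') =
        (b * a * b⁻¹)⁻¹ * (a * b * a⁻¹) := rfl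
    rw [e, ia, ib] at h
    have : b * a * b = a * b * a := by
      calc b * a * b = (b * a * b) * ((b * a * b)⁻¹ * (a * b * a)) := by rw [h, mul_one]
        _ = a * b * a := by group
    exact this.symm
  have hgen : Subgroup.closure ({a, b} : Set (↥X ⧸ R')) = ⊤ := by
    rw [eq_top_iff]
    intro d _
    induction d using QuotientGroup.induction_on with
    | H x =>
      let K : Subgroup ↥X := (Subgroup.closure ({a, b} : Set (↥X ⧸ R'))).comap (QuotientGroup.mk' R')
      let L : Subgroup G := K.map X.subtype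
      have haK : a ∈ Subgroup.closure ({a, b} : Set (↥X ⧸ R')) := Subgroup.subset_closure (by simp)
      have hbK : b ∈ Subgroup.closure ({a, b} : Set (↥X ⧸ R')) := Subgroup.subset_closure (by simp)
      have hRK : ∀ (r : G) (hr : r ∈ X), r ∈ RR Q z1 z2 → (⟨r, hr⟩ : ↥X) ∈ K := by
        intro r hr hrR
        show (QuotientGroup.mk ⟨r, hr⟩ : ↥X ⧸ R') ∈ Subgroup.closure ({a, b} : Set (↥X ⧸ R'))
        rw [hmk1 r hr hrR]; exact Subgroup.one_mem _
      have hQ1L : Q z1 ≤ L := by
        intro q hq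
        have hqX : q ∈ X := Subgroup.mem_sup_left hq
        refine ⟨⟨q, hqX⟩, ?_, rfl⟩
        rcases P.Q1_cases T.m1 T.c1 hq with h | h
        · exact hRK q hqX (R1_le_RR h)
        · have e : (⟨q, hqX⟩ : ↥X) = ⟨q1, hq1X⟩ * ⟨q1⁻¹ * q, X.mul_mem (X.inv_mem hq1X) hqX⟩ := by
            apply Subtype.ext; show q = q1 * (q1⁻¹ * q); group
          rw [e]
          exact K.mul_mem haK (hRK _ _ (R1_le_RR h))
      have hQ2L : Q z2 ≤ L := by
        intro q hq
        have hqX : q ∈ X := Subgroup.mem_sup_right hq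
        refine ⟨⟨q, hqX⟩, ?_, rfl⟩
        have hc2 : q2 * z1 * q2⁻¹ = z2 * z1 := by rw [← P.comm12]; exact T.c2
        rcases P.symm.Q1_cases T.m2 hc2 hq with h | h
        · exact hRK q hqX (R2_le_RR h)
        · have e : (⟨q, hqX⟩ : ↥X) = ⟨q2, hq2X⟩ * ⟨q2⁻¹ * q, X.mul_mem (X.inv_mem hq2X) hqX⟩ := by
            apply Subtype.ext; show q = q2 * (q2⁻¹ * q); group
          rw [e]
          exact K.mul_mem hbK (hRK _ _ (R2_le_RR h))
      have hXL : X ≤ L := sup_le hQ1L hQ2L
      obtain ⟨k, hk, hkx⟩ := hXL x.2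
      have : k = x := Subtype.ext hkx
      rw [this] at hk
      exact hk
  have := card_le_six_of_braid a b ha hb hbr hgen
  rwa [Subgroup.index_eq_card]

end Pair

end Cfsg.Agent.Lib.Helper4.LXF
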