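import Mathlib
import Cfsg.Agent.Lib.Helper4.LargeExtraP5

set_option autoImplicit false

namespace Cfsg.Agent.Lib.Helper4.LXF

open Cfsg

variable {G : Type*} [Group G]

/-- Conjugation action of the normalizer of `V` on the non-identity elements of `V`. -/
def conjHom (V : Subgroup G) :
    ↥(Subgroup.normalizer (V : Set G)) →* Equiv.Perm {v : G // v ∈ V ∧ v ≠ 1} where
  toFun n :=
    { toFun := fun v => ⟨(n : G) * v * (n : G)⁻¹,
        ((Subgroup.mem_normalizer_iff.1 n.2) v).1 v.2.1, fun h => v.2.2 (by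
          calc (v : G) = (n : G)⁻¹ * ((n : G) * v * (n : G)⁻¹) * n := by group
            _ = 1 := by rw [h]; group)⟩
      invFun := fun v => ⟨(n : G)⁻¹ * v * (n : G),
        ((Subgroup.mem_normalizer_iff.1 n.2) _).2 (by
          have e : (n : G) * ((n : G)⁻¹ * v * (n : G)) * (n : G)⁻¹ = v := by group
          rw [e]; exact v.2.1), fun h => v.2.2 (by
          calc (v : G) = (n : G) * ((n : G)⁻¹ * v * (n : G)) * (n : G)⁻¹ := by group
            _ = 1 := by rw [h]; group)⟩
      left_inv := fun v => by apply Subtype.ext; simp only; group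
      right_inv := fun v => by apply Subtype.ext; simp only; group }
  map_one' := by
    apply Equiv.ext; intro v; apply Subtype.ext
    show ((1 : ↥(Subgroup.normalizer (V : Set G))) : G) * v * ((1 : ↥(Subgroup.normalizer (V : Set G))) : G)⁻¹ = v
    simp
  map_mul' a b := by
    apply Equiv.ext; intro v; apply Subtype.ext
    show ((a * b : ↥(Subgroup.normalizer (V : Set G))) : G) * v *
      ((a * b : ↥(Subgroup.normalizer (V : Set G))) : G)⁻¹ = (a : G) * ((b : G) * v * (b : G)⁻¹) * (a : G)⁻¹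
    rw [Subgroup.coe_mul]; group

theorem conjHom_apply (V : Subgroup G) (n : ↥(Subgroup.normalizer (V : Set G)))
    (v : {v : G // v ∈ V ∧ v ≠ 1}) : ((conjHom V n v : {v : G // v ∈ V ∧ v ≠ 1}) : G) = n * v * (n : G)⁻¹ :=
  rfl

theorem conjHom_ker (V : Subgroup G) :
    (conjHom V).ker = (Subgroup.centralizer (V : Set G)).subgroupOf (Subgroup.normalizer (V : Set G)) := by
  ext n
  rw [MonoidHom.mem_ker, Subgroup.mem_subgroupOf, Subgroup.mem_centralizer_iff]
  constructor
  · intro h v hv
    by_cases hv1 : v = 1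
    · rw [hv1]; group
    · have := congrArg (fun σ => ((σ ⟨v, hv, hv1⟩ : {v : G // v ∈ V ∧ v ≠ 1}) : G)) h
      simp only [conjHom_apply, Equiv.Perm.coe_one, id_eq] at this
      calc v * (n : G) = ((n : G) * v * (n : G)⁻¹) * n := by rw [this]
        _ = n * v := by group
  · intro h
    apply Equiv.ext; intro v; apply Subtype.ext
    rw [conjHom_apply]
    have := h v v.2.1
    show (n : G) * v * (n : G)⁻¹ = v
    rw [← this]; group

namespace Pair

variable {Q : G → Subgroup G} {z1 z2 : G}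

/-- The three non-identity elements of `V`. -/
def iota (P : Pair Q z1 z2) : Fin 3 → {v : G // v ∈ VV z1 z2 ∧ v ≠ 1} :=
  ![⟨z1, z1_mem_VV, P.le1.ne⟩, ⟨z2, z2_mem_VV, P.le2.ne⟩,
    ⟨z1 * z2, Subgroup.mul_mem _ z1_mem_VV z2_mem_VV, fun h => P.ne (by
      calc z1 = (z1 * z2) * z2⁻¹ := by group
        _ = z2 := by rw [h, P.le2.inv_eq]; group)⟩]

theorem iota_zero (P : Pair Q z1 z2) : ((P.iota 0 : {v : G // v ∈ VV z1 z2 ∧ v ≠ 1}) : G) = z1 := rfl
theorem iota_one (P : Pair Q z1 z2) : ((P.iota 1 : {v : G // v ∈ VV z1 z2 ∧ v ≠ 1}) : G) = z2 := rfl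
theorem iota_two (P : Pair Q z1 z2) : ((P.iota 2 : {v : G // v ∈ VV z1 z2 ∧ v ≠ 1}) : G) = z1 * z2 := rfl

theorem iota_bijective (P : Pair Q z1 z2) : Function.Bijective P.iota := by
  have n12 : z1 ≠ z2 := P.ne
  have n13 : z1 ≠ z1 * z2 := by
    intro h; apply P.le2.ne
    calc z2 = z1⁻¹ * (z1 * z2) := by group
      _ = 1 := by rw [← h]; group
  have n23 : z2 ≠ z1 * z2 := by
    intro h; apply P.le1.ne
    calc z1 = (z1 * z2) * z2⁻¹ := by group
      _ = 1 := by rw [← h]; group
  constructor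
  · intro i j h
    have h' := congrArg Subtype.val h
    fin_cases i <;> fin_cases j <;> first | rfl | (exfalso; simp only [iota] at h'; first | exact n12 h' | exact n13 h' | exact n23 h' | exact n12 h'.symm | exact n13 h'.symm | exact n23 h'.symm)
  · intro v
    have := (P.mem_VV).1 v.2.1
    rcases this with h | h | h | h
    · exact absurd h v.2.2
    · exact ⟨0, Subtype.ext h.symm⟩
    · exact ⟨1, Subtype.ext h.symm⟩
    · exact ⟨2, Subtype.ext h.symm⟩

/-- The permutation representation of `N_G(V)` on `Fin 3`. -/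
noncomputable def FF (P : Pair Q z1 z2) :
    ↥(Subgroup.normalizer (VV z1 z2 : Set G)) →* Equiv.Perm (Fin 3) :=
  (Equiv.permCongrHom (Equiv.ofBijective P.iota P.iota_bijective).symm).toMonoidHom.comp
    (conjHom (VV z1 z2))

theorem FF_apply (P : Pair Q z1 z2) (n : ↥(Subgroup.normalizer (VV z1 z2 : Set G))) (i j : Fin 3)
    (h : (n : G) * (P.iota i : G) * (n : G)⁻¹ = (P.iota j : G)) : P.FF n i = j := by
  unfold FF
  simp only [MonoidHom.coe_comp, MulEquiv.coe_toMonoidHom, Function.comp_apply,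
    Equiv.permCongrHom_coe, Equiv.permCongr_apply, Equiv.symm_symm, Equiv.ofBijective_apply]
  rw [Equiv.symm_apply_eq, Equiv.ofBijective_apply]
  apply Subtype.ext
  rw [conjHom_apply]
  exact h

theorem FF_ker (P : Pair Q z1 z2) :
    P.FF.ker = (Subgroup.centralizer (VV z1 z2 : Set G)).subgroupOf
      (Subgroup.normalizer (VV z1 z2 : Set G)) := by
  rw [← conjHom_ker]
  ext n
  unfold FF
  rw [MonoidHom.mem_ker, MonoidHom.mem_ker, MonoidHom.comp_apply]
  constructor
  · intro h
    exact (Equiv.permCongrHom (Equiv.ofBijective P.iota P.iota_bijective).symm).injective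
      (by rw [map_one]; exact h)
  · intro h
    rw [h, map_one]

end Pair

end Cfsg.Agent.Lib.Helper4.LXF
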