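import Mathlib
import Cfsg.Agent.Lib.Helper4.LargeExtraP6

set_option autoImplicit false

namespace Cfsg.Agent.Lib.Helper4.LXF

open Cfsg

variable {G : Type*} [Group G]

theorem perm3_cases (σ : Equiv.Perm (Fin 3)) :
    σ = 1 ∨ σ = Equiv.swap 1 2 ∨ σ = Equiv.swap 0 2 ∨ σ = Equiv.swap 1 2 * Equiv.swap 0 2 ∨
      σ = Equiv.swap 0 2 * Equiv.swap 1 2 ∨ σ = Equiv.swap 1 2 * Equiv.swap 0 2 * Equiv.swap 1 2 := by
  revert σ
  decide

namespace Pair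

variable {Q : G → Subgroup G} {z1 z2 : G}

theorem FF_q1 {P : Pair Q z1 z2} {q1 q2 : G} (T : P.Trans q1 q2) :
    P.FF ⟨q1, P.Q1_le_NV T.m1⟩ = Equiv.swap 1 2 := by
  apply Equiv.ext
  intro i
  fin_cases i
  · have : P.FF ⟨q1, P.Q1_le_NV T.m1⟩ 0 = 0 := P.FF_apply _ 0 0 T.q1z1
    show P.FF ⟨q1, P.Q1_le_NV T.m1⟩ 0 = (Equiv.swap 1 2 : Equiv.Perm (Fin 3)) 0
    rw [this]; decide
  · have : P.FF ⟨q1, P.Q1_le_NV T.m1⟩ 1 = 2 := P.FF_apply _ 1 2 T.c1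
    simpa using this
  · have : P.FF ⟨q1, P.Q1_le_NV T.m1⟩ 2 = 1 := P.FF_apply _ 2 1 T.q1z3
    simpa using this

theorem FF_q2 {P : Pair Q z1 z2} {q1 q2 : G} (T : P.Trans q1 q2) :
    P.FF ⟨q2, P.Q2_le_NV T.m2⟩ = Equiv.swap 0 2 := by
  apply Equiv.ext
  intro i
  fin_cases i
  · have : P.FF ⟨q2, P.Q2_le_NV T.m2⟩ 0 = 2 := P.FF_apply _ 0 2 T.c2
    simpa using this
  · have : P.FF ⟨q2, P.Q2_le_NV T.m2⟩ 1 = 1 := P.FF_apply _ 1 1 T.q2z2
    show P.FF ⟨q2, P.Q2_le_NV T.m2⟩ 1 = (Equiv.swap 0 2 : Equiv.Perm (Fin 3)) 1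
    rw [this]; decide
  · have : P.FF ⟨q2, P.Q2_le_NV T.m2⟩ 2 = 0 := P.FF_apply _ 2 0 T.q2z3
    simpa using this

/-- The restriction of `FF` to `X`. -/
noncomputable def GG (P : Pair Q z1 z2) : ↥(XX Q z1 z2) →* Equiv.Perm (Fin 3) :=
  P.FF.comp (Subgroup.inclusion P.X_le_NV)

theorem GG_surjective (P : Pair Q z1 z2) : Function.Surjective P.GG := by
  obtain ⟨q1, q2, T⟩ := P.exists_trans
  have hq1X : q1 ∈ XX Q z1 z2 := Subgroup.mem_sup_left T.m1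
  have hq2X : q2 ∈ XX Q z1 z2 := Subgroup.mem_sup_right T.m2
  have h1 : P.GG ⟨q1, hq1X⟩ = Equiv.swap 1 2 := FF_q1 T
  have h2 : P.GG ⟨q2, hq2X⟩ = Equiv.swap 0 2 := FF_q2 T
  intro σ
  rcases perm3_cases σ with rfl | rfl | rfl | rfl | rfl | rfl
  · exact ⟨1, map_one _⟩
  · exact ⟨_, h1⟩
  · exact ⟨_, h2⟩
  · exact ⟨⟨q1, hq1X⟩ * ⟨q2, hq2X⟩, by rw [map_mul, h1, h2]⟩
  · exact ⟨⟨q2, hq2X⟩ * ⟨q1, hq1X⟩, by rw [map_mul, h1, h2]⟩
  · exact ⟨⟨q1, hq1X⟩ * ⟨q2, hq2X⟩ * ⟨q1, hq1X⟩, by rw [map_mul, map_mul, h1, h2]⟩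

theorem FF_surjective (P : Pair Q z1 z2) : Function.Surjective P.FF := by
  intro σ
  obtain ⟨x, hx⟩ := P.GG_surjective σ
  exact ⟨Subgroup.inclusion P.X_le_NV x, hx⟩

theorem GG_ker (P : Pair Q z1 z2) :
    P.GG.ker = (XX Q z1 z2 ⊓ Subgroup.centralizer (VV z1 z2 : Set G)).subgroupOf (XX Q z1 z2) := by
  ext x
  unfold GG
  rw [MonoidHom.mem_ker, MonoidHom.comp_apply, ← MonoidHom.mem_ker, P.FF_ker,
    Subgroup.mem_subgroupOf, Subgroup.mem_subgroupOf, Subgroup.mem_inf]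
  constructor
  · intro h; exact ⟨x.2, h⟩
  · intro h; exact h.2

/-- `X ∩ C(V) = R`. -/
theorem XX_inf_CV [Finite G] (P : Pair Q z1 z2) :
    XX Q z1 z2 ⊓ Subgroup.centralizer (VV z1 z2 : Set G) = RR Q z1 z2 := by
  apply le_antisymm
  · -- index comparison
    set X := XX Q z1 z2
    set Y' := (X ⊓ Subgroup.centralizer (VV z1 z2 : Set G)).subgroupOf X with hY'
    set R' := (RR Q z1 z2).subgroupOf X with hR'
    have hRY : R' ≤ Y' := by
      intro r hr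
      rw [hR', Subgroup.mem_subgroupOf] at hr
      rw [hY', Subgroup.mem_subgroupOf]
      exact ⟨r.2, P.RR_le_CV hr⟩
    have hYi : Y'.index = 6 := by
      rw [hY', ← P.GG_ker, Subgroup.index_ker, MonoidHom.range_eq_top.2 P.GG_surjective,
        Subgroup.card_top, Nat.card_perm]
      simp [Nat.factorial]
    have hRi : R'.index ≤ 6 := P.index_RR_le
    have hmul := Subgroup.relIndex_mul_index hRY
    have hpos : R'.index ≠ 0 := Subgroup.index_ne_zero_of_finite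
    have hrel : R'.relIndex Y' = 1 := by
      rw [hYi] at hmul
      have : R'.relIndex Y' ≠ 0 := by
        intro h; rw [h] at hmul; omega
      omega
    have hle : Y' ≤ R' := Subgroup.relIndex_eq_one.1 hrel
    intro y hy
    have hyX : y ∈ X := hy.1
    have : (⟨y, hyX⟩ : ↥X) ∈ Y' := by
      rw [hY', Subgroup.mem_subgroupOf]; exact hy
    have := hle this
    rw [hR', Subgroup.mem_subgroupOf] at this
    exact this
  · exact le_inf RR_le_XX P.RR_le_CV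

theorem quot_iso [Finite G] (P : Pair Q z1 z2) :
    ∃ h : ((RR Q z1 z2).subgroupOf (XX Q z1 z2)).Normal,
      Nonempty (↥(XX Q z1 z2) ⧸ (RR Q z1 z2).subgroupOf (XX Q z1 z2) ≃* Equiv.Perm (Fin 3)) := by
  refine ⟨P.RR_normal_in_XX, ?_⟩
  have hker : P.GG.ker = (RR Q z1 z2).subgroupOf (XX Q z1 z2) := by
    rw [P.GG_ker, P.XX_inf_CV]
  have := P.RR_normal_in_XX
  exact ⟨(QuotientGroup.quotientMulEquivOfEq hker.symm).trans
    (QuotientGroup.quotientKerEquivOfSurjective P.GG P.GG_surjective)⟩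

theorem NV_eq (P : Pair Q z1 z2) :
    Subgroup.normalizer (VV z1 z2 : Set G) =
      XX Q z1 z2 ⊔ Subgroup.centralizer (VV z1 z2 : Set G) := by
  apply le_antisymm
  · intro n hn
    obtain ⟨x, hx⟩ := P.GG_surjective (P.FF ⟨n, hn⟩)
    have hk : (Subgroup.inclusion P.X_le_NV x)⁻¹ * ⟨n, hn⟩ ∈ P.FF.ker := by
      rw [MonoidHom.mem_ker, map_mul, map_inv]
      have : P.FF (Subgroup.inclusion P.X_le_NV x) = P.FF ⟨n, hn⟩ := hx
      rw [this]; group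
    rw [P.FF_ker, Subgroup.mem_subgroupOf] at hk
    have e : n = (x : G) * ((x : G)⁻¹ * n) := by group
    rw [e]
    exact Subgroup.mul_mem _ (Subgroup.mem_sup_left x.2) (Subgroup.mem_sup_right hk)
  · exact sup_le P.X_le_NV (Subgroup.centralizer_le_normalizer _)

theorem relIndex_eq (P : Pair Q z1 z2) :
    (Subgroup.centralizer (VV z1 z2 : Set G)).relIndex (Subgroup.normalizer (VV z1 z2 : Set G)) = 6 := by
  rw [Subgroup.relIndex, ← P.FF_ker, Subgroup.index_ker, MonoidHom.range_eq_top.2 P.FF_surjective,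
    Subgroup.card_top, Nat.card_perm]
  simp [Nat.factorial]

end Pair

end Cfsg.Agent.Lib.Helper4.LXF
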