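import Mathlib
import Cfsg.Agent.Lib.Helper4.LargeExtraP7
import Cfsg.Agent.Lib.Helper87.PCore

set_option autoImplicit false

namespace Cfsg.Agent.Lib.Helper4.LXF

open Cfsg

variable {G : Type*} [Group G]

set_option maxRecDepth 100000 in
theorem perm3_normal_aux (σ : Equiv.Perm (Fin 3)) (hσ : σ ≠ 1) :
    ∃ τ : Equiv.Perm (Fin 3), (σ * (τ * σ * τ⁻¹) ≠ 1 ∧ (σ * (τ * σ * τ⁻¹)) ^ 3 = 1) ∨ σ ^ 3 = 1 := by
  revert σ
  decide

/-- A normal 2-subgroup of `Sym(3)` is trivial. -/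
theorem perm3_normal_two_group (N : Subgroup (Equiv.Perm (Fin 3))) [N.Normal]
    (hN : IsPGroup 2 N) : N = ⊥ := by
  rw [Subgroup.eq_bot_iff_forall]
  intro σ hσ
  by_contra h1
  have key : ∀ c ∈ N, c ^ 3 = 1 → c = 1 := by
    intro c hc h3
    obtain ⟨k, hk⟩ := hN ⟨c, hc⟩
    have hk' : c ^ (2 ^ k) = 1 := by
      have := congrArg Subtype.val hk
      simpa using this
    have h4 : orderOf c ∣ 3 := orderOf_dvd_of_pow_eq_one h3
    have h5 : orderOf c ∣ 2 ^ k := orderOf_dvd_of_pow_eq_one hk'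
    have h6 : orderOf c ∣ Nat.gcd 3 (2 ^ k) := Nat.dvd_gcd h4 h5
    have h7 : Nat.gcd 3 (2 ^ k) = 1 := by
      apply Nat.Coprime.pow_right
      decide
    rw [h7, Nat.dvd_one] at h6
    exact orderOf_eq_one_iff.1 h6
  obtain ⟨τ, h | h⟩ := perm3_normal_aux σ h1
  · have hc : σ * (τ * σ * τ⁻¹) ∈ N := N.mul_mem hσ (Subgroup.Normal.conj_mem inferInstance σ hσ τ)
    exact h.1 (key _ hc h.2)
  · exact h1 (key σ hσ h)

namespace LE

variable {Q : G → Subgroup G}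

theorem isPGroup {x : G} (h : LE Q x) : IsPGroup 2 ↥(Q x) := by
  intro a
  refine ⟨2, ?_⟩
  apply Subtype.ext
  have e : ((a ^ 2 ^ 2 : ↥(Q x)) : G) = ((a : G) * a) * ((a : G) * a) := by
    rw [Subgroup.coe_pow]
    show (a : G) ^ 4 = _
    simp [pow_succ, mul_assoc]
  rw [e]
  rcases h.sqr a a.2 with e' | e'
  · rw [e']; simp
  · rw [e']; exact h.sq

end LE

namespace Pair

variable {Q : G → Subgroup G} {z1 z2 : G}

theorem RR_isPGroup (P : Pair Q z1 z2) : IsPGroup 2 ↥(RR Q z1 z2) := by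
  have h1 : IsPGroup 2 ↥(R1 Q z1 z2) :=
    P.le1.isPGroup.to_le (inf_le_left : R1 Q z1 z2 ≤ Q z1)
  have h2 : IsPGroup 2 ↥(R2 Q z1 z2) :=
    P.le2.isPGroup.to_le (inf_le_left : R2 Q z1 z2 ≤ Q z2)
  have hN : R2 Q z1 z2 ≤ Subgroup.normalizer (R1 Q z1 z2 : Set G) := by
    intro c hc
    have hcV := P.R2_le_CV hc
    have key : ∀ c ∈ Subgroup.centralizer (VV z1 z2 : Set G), ∀ r ∈ R1 Q z1 z2,
        c * r * c⁻¹ ∈ R1 Q z1 z2 := by
      intro c hcV r hr
      have hr' := hr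
      rw [← P.Q1_inf_CV, Subgroup.mem_inf] at hr' ⊢
      exact ⟨P.CV_conj_Q1 hcV hr'.1,
        Subgroup.mul_mem _ (Subgroup.mul_mem _ hcV hr'.2) (Subgroup.inv_mem _ hcV)⟩
    rw [Subgroup.mem_normalizer_iff]
    intro r
    constructor
    · exact key c hcV r
    · intro hr
      have := key c⁻¹ (Subgroup.inv_mem _ hcV) _ hr
      have e : c⁻¹ * (c * r * c⁻¹) * c⁻¹⁻¹ = r := by group
      rwa [e] at this
  exact IsPGroup.to_sup_of_normal_right' h2 h1 hN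

theorem pCore_XX [Finite G] (P : Pair Q z1 z2) :
    (Cfsg.pCore 2 ↥(XX Q z1 z2)).map (XX Q z1 z2).subtype = RR Q z1 z2 := by
  have hn := P.RR_normal_in_XX
  apply le_antisymm
  · -- image of O_2(X) in Sym(3) is trivial
    set O := Cfsg.pCore 2 ↥(XX Q z1 z2) with hO
    have hOn : O.Normal := Cfsg.Agent.Lib.Helper87.pCore_normal 2 _
    have hOp : IsPGroup 2 O := Cfsg.Agent.Lib.Helper87.pCore_isPGroup 2 _
    have hmn : (O.map P.GG).Normal := hOn.map P.GG P.GG_surjective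
    have hmp : IsPGroup 2 (O.map P.GG) := hOp.map P.GG
    have hbot := perm3_normal_two_group (O.map P.GG) hmp
    have hle : O ≤ P.GG.ker := by
      intro x hx
      rw [MonoidHom.mem_ker]
      have : P.GG x ∈ O.map P.GG := ⟨x, hx, rfl⟩
      rw [hbot, Subgroup.mem_bot] at this
      exact this
    rw [P.GG_ker, P.XX_inf_CV] at hle
    rintro _ ⟨x, hx, rfl⟩
    exact Subgroup.mem_subgroupOf.1 (hle hx)
  · have hp : IsPGroup 2 ↥((RR Q z1 z2).subgroupOf (XX Q z1 z2)) :=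
      P.RR_isPGroup.of_injective (Subgroup.subgroupOfEquivOfLe
        (RR_le_XX (Q := Q) (z1 := z1) (z2 := z2))).toMonoidHom
        (Subgroup.subgroupOfEquivOfLe RR_le_XX).injective
    have hle := Cfsg.Agent.Lib.Helper87.le_pCore hn hp
    intro r hr
    exact ⟨⟨r, RR_le_XX hr⟩, hle (Subgroup.mem_subgroupOf.2 hr), rfl⟩

end Pair

end Cfsg.Agent.Lib.Helper4.LXF
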