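import Mathlib
import Cfsg.Agent.Lib.Helper4.LargeExtraP8

set_option autoImplicit false

namespace Cfsg.Agent.Lib.Helper4.LXF

open Cfsg

variable {G : Type*} [Group G]

theorem LE.of_hyp' {Q : G → Subgroup G} (hQ : Fam Q) {z : G} (hz : orderOf z = 2)
    (S : Subgroup G) (hS : Q z = S) (hE : Cfsg.IsExtraspecial 2 ↥S)
    (hC : Subgroup.centralizer ((S : Subgroup G) : Set G) ≤ S) : LE Q z := by
  subst hS
  exact LE.of_hyp hQ hz hE hC

theorem centralizer_zpowers (z : G) :
    Subgroup.centralizer ((Subgroup.zpowers z : Subgroup G) : Set G) =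
      Subgroup.centralizer ({z} : Set G) := by
  rw [Subgroup.zpowers_eq_closure, Subgroup.centralizer_closure]

/-- Build the pair configuration from the "large extraspecial" style hypotheses. -/
theorem pair_of_large [Finite G] (Q : Subgroup G) (hE : Cfsg.IsExtraspecial 2 ↥Q)
    (hC : Subgroup.centralizer (Q : Set G) = (Subgroup.center ↥Q).map Q.subtype)
    (hN : Subgroup.centralizer (((Subgroup.center ↥Q).map Q.subtype : Subgroup G) : Set G) ≤
      Subgroup.normalizer (Q : Set G))
    (z : G) (hz : (Subgroup.center ↥Q).map Q.subtype = Subgroup.zpowers z) (hz2 : orderOf z = 2)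
    (g : G) (hgH : g ∉ Subgroup.centralizer ({z} : Set G)) (hgQ : g * z * g⁻¹ ∈ Q) :
    Pair (famOf Q z) z (g * z * g⁻¹) ∧ famOf Q z z = Q ∧
      famOf Q z (g * z * g⁻¹) = Q.map (MulAut.conj g).toMonoidHom := by
  have hN' : Subgroup.centralizer ({z} : Set G) ≤ Subgroup.normalizer (Q : Set G) := by
    rw [← centralizer_zpowers, ← hz]; exact hN
  have hzc : z ∈ (Subgroup.center ↥Q).map Q.subtype := by
    rw [hz]; exact Subgroup.mem_zpowers z
  have hQz : ∀ q ∈ Q, q * z = z * q := by
    intro q hq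
    obtain ⟨c, hc, rfl⟩ := hzc
    have := Subgroup.mem_center_iff.1 hc ⟨q, hq⟩
    exact congrArg Subtype.val this
  have hF : Fam (famOf Q z) := famOf_fam Q z hN' hQz
  have hself : famOf Q z z = Q := famOf_self Q z hN'
  have hconj : famOf Q z (g * z * g⁻¹) = Q.map (MulAut.conj g).toMonoidHom := famOf_conj Q z hN' g
  have hCle : Subgroup.centralizer (Q : Set G) ≤ Q := by
    rw [hC]; exact Subgroup.map_subtype_le _
  have h1 : LE (famOf Q z) z := LE.of_hyp' hF hz2 Q hself hE hCle
  have h2 : LE (famOf Q z) (g * z * g⁻¹) := h1.conj hF g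
  have h21 : g * z * g⁻¹ ∈ famOf Q z z := by rw [hself]; exact hgQ
  have h12 : z ∈ famOf Q z (g * z * g⁻¹) :=
    h1.symm_mem hF h2 (le_of_eq (card_Q_conj hF g z)) h21
  have hne : z ≠ g * z * g⁻¹ := by
    intro h
    apply hgH
    rw [Subgroup.mem_centralizer_singleton_iff]
    calc g * z = (g * z * g⁻¹) * g := by group
      _ = z * g := by rw [← h]
  exact ⟨⟨hF, h1, h2, h21, h12, hne⟩, hself, hconj⟩

end Cfsg.Agent.Lib.Helper4.LXF
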