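import Mathlib
import Cfsg.Agent.Lib.Helper4.LargeExtraP9

set_option autoImplicit false

namespace Cfsg.Agent.Lib.Helper4.LXF

open Cfsg

variable {G : Type*} [Group G]

/-- An involution acting fixed-point-freely on a finite invariant subgroup inverts it. -/
theorem inverts_of_fpf (K : Subgroup G) [Finite K] {z : G}
    (hz : z * z = 1) (hzK : ∀ k ∈ K, z * k * z⁻¹ ∈ K)
    (hfix : ∀ k ∈ K, k * z = z * k → k = 1) :
    ∀ k ∈ K, z * k * z⁻¹ = k⁻¹ := by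
  have hzinv : z⁻¹ = z := inv_eq_of_mul_eq_one_right hz
  let f : K → K := fun k => ⟨(k : G)⁻¹ * (z * k * z⁻¹), K.mul_mem (K.inv_mem k.2) (hzK _ k.2)⟩
  have hinj : Function.Injective f := by
    intro k l hkl
    have h1 : (k : G)⁻¹ * (z * k * z⁻¹) = (l : G)⁻¹ * (z * l * z⁻¹) := congrArg Subtype.val hkl
    have h2 : ((l : G) * (k : G)⁻¹) * z = z * ((l : G) * (k : G)⁻¹) := by
      have h3 : (l : G) * (k : G)⁻¹ = (z * l * z⁻¹) * (z * k * z⁻¹)⁻¹ := by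
        have : (l : G) * ((k : G)⁻¹ * (z * k * z⁻¹)) * (z * k * z⁻¹)⁻¹ = (l : G) * ((l : G)⁻¹ * (z * l * z⁻¹)) * (z * k * z⁻¹)⁻¹ := by rw [h1]
        calc (l : G) * (k : G)⁻¹ = (l : G) * ((k : G)⁻¹ * (z * k * z⁻¹)) * (z * k * z⁻¹)⁻¹ := by group
          _ = (l : G) * ((l : G)⁻¹ * (z * l * z⁻¹)) * (z * k * z⁻¹)⁻¹ := this
          _ = (z * l * z⁻¹) * (z * k * z⁻¹)⁻¹ := by group
      have h4 : (z * l * z⁻¹) * (z * k * z⁻¹)⁻¹ = z * ((l : G) * (k : G)⁻¹) * z⁻¹ := by group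
      rw [h4] at h3
      calc ((l : G) * (k : G)⁻¹) * z = (z * ((l : G) * (k : G)⁻¹) * z⁻¹) * z := by rw [← h3]
        _ = z * ((l : G) * (k : G)⁻¹) := by group
    have h5 := hfix _ (K.mul_mem l.2 (K.inv_mem k.2)) h2
    apply Subtype.ext
    have : (l : G) = k := by
      have : (l : G) * (k : G)⁻¹ * k = 1 * k := by rw [h5]
      simpa using this
    exact this.symm
  have hsurj : Function.Surjective f := Finite.surjective_of_injective hinj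
  intro k hk
  obtain ⟨l, hl⟩ := hsurj ⟨k, hk⟩
  have h1 : (l : G)⁻¹ * (z * l * z⁻¹) = k := congrArg Subtype.val hl
  rw [← h1, hzinv]
  calc z * ((l : G)⁻¹ * (z * l * z)) * z = (z * (l : G)⁻¹ * z) * l * (z * z) := by group
    _ = (z * (l : G)⁻¹ * z) * l := by rw [hz, mul_one]
    _ = ((l : G)⁻¹ * (z * l * z))⁻¹ := by
      have : ((l : G)⁻¹ * (z * l * z))⁻¹ = z⁻¹ * (l : G)⁻¹ * z⁻¹ * l := by group
      rw [this, hzinv]

theorem eq_one_of_pow_two_of_odd {K : Subgroup G} (hK : Odd (Nat.card K)) {x : G} (n : ℕ)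
    (hx : x ^ (2 ^ n) = 1) (hxK : x ∈ K) : x = 1 := by
  have h2 : orderOf x ∣ 2 ^ n := orderOf_dvd_of_pow_eq_one hx
  have h3 : orderOf x ∣ Nat.card K := Subgroup.orderOf_dvd_natCard K hxK
  have h4 : Nat.Coprime (2 ^ n) (Nat.card K) :=
    Nat.Coprime.pow_left n (Nat.coprime_two_left.2 hK)
  have : orderOf x = 1 := Nat.eq_one_of_dvd_coprimes h4 h2 h3
  exact orderOf_eq_one_iff.1 this

namespace Pair

variable {Q : G → Subgroup G} {z1 z2 : G}

theorem pow_four_of_mem {x : G} (h : LE Q x) {a : G} (ha : a ∈ Q x) : a ^ (2 ^ 2) = 1 := by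
  have e : a ^ (2 ^ 2) = (a * a) * (a * a) := by
    show a ^ 4 = _
    simp [pow_succ, mul_assoc]
  rw [e]
  rcases h.sqr a ha with e' | e'
  · rw [e']; simp
  · rw [e']; exact h.sq

/-- fixed points of `z1` in an odd-order subgroup normalized by `Q z1` are trivial -/
theorem fix_z1_trivial (P : Pair Q z1 z2) (K : Subgroup G) (hodd : Odd (Nat.card K))
    (hK : Q z1 ≤ Subgroup.normalizer (K : Set G)) {k : G} (hk : k ∈ K) (hkz : k * z1 = z1 * k) :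
    k = 1 := by
  have hcomm : ∀ q ∈ Q z1, k * q = q * k := by
    intro q hq
    have h1 : k * q * k⁻¹ * q⁻¹ ∈ Q z1 :=
      (Q z1).mul_mem (Q_normal P.fam hkz hq) ((Q z1).inv_mem hq)
    have h2 : k * q * k⁻¹ * q⁻¹ ∈ K := by
      have hq' := hK hq
      rw [Subgroup.mem_normalizer_iff] at hq'
      have : q * k⁻¹ * q⁻¹ ∈ K := (hq' k⁻¹).1 (K.inv_mem hk)
      have e : k * q * k⁻¹ * q⁻¹ = k * (q * k⁻¹ * q⁻¹) := by group
      rw [e]; exact K.mul_mem hk this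
    have h3 := eq_one_of_pow_two_of_odd hodd 2 (pow_four_of_mem P.le1 h1) h2
    calc k * q = (k * q * k⁻¹ * q⁻¹) * (q * k) := by group
      _ = q * k := by rw [h3, one_mul]
  rcases P.le1.cent k hcomm with h | h
  · exact h
  · exfalso
    apply P.le1.ne
    rw [h] at hk
    exact eq_one_of_pow_two_of_odd hodd 2 (pow_four_of_mem P.le1 P.le1.mem) hk

theorem odd_trivial [Finite G] (P : Pair Q z1 z2) (K : Subgroup G) (hodd : Odd (Nat.card K))
    (hK : Q z1 ≤ Subgroup.normalizer (K : Set G)) : K = ⊥ := by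
  have hnorm : ∀ q ∈ Q z1, ∀ k ∈ K, q * k * q⁻¹ ∈ K := by
    intro q hq k hk
    have hq' := hK hq
    rw [Subgroup.mem_normalizer_iff] at hq'
    exact (hq' k).1 hk
  have inv1 : ∀ k ∈ K, z1 * k * z1⁻¹ = k⁻¹ :=
    inverts_of_fpf K P.le1.sq (hnorm z1 P.le1.mem)
      (fun k hk hkz => P.fix_z1_trivial K hodd hK hk hkz)
  have fix2 : ∀ k ∈ K, k * z2 = z2 * k → k = 1 := by
    intro k hk hkz
    have h1 : z1 * k * z1⁻¹ * k⁻¹ ∈ Q z2 := by
      have : k * z1⁻¹ * k⁻¹ ∈ Q z2 := Q_normal P.fam hkz ((Q z2).inv_mem P.m12)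
      have e : z1 * k * z1⁻¹ * k⁻¹ = z1 * (k * z1⁻¹ * k⁻¹) := by group
      rw [e]; exact (Q z2).mul_mem P.m12 this
    have h2 : z1 * k * z1⁻¹ * k⁻¹ ∈ K := K.mul_mem (hnorm z1 P.le1.mem k hk) (K.inv_mem hk)
    have h3 := eq_one_of_pow_two_of_odd hodd 2 (pow_four_of_mem P.le2 h1) h2
    rw [inv1 k hk] at h3
    have h4 : k ^ (2 ^ 1) = 1 := by
      have : k * k = 1 := by
        calc k * k = (k⁻¹ * k⁻¹)⁻¹ := by simp
          _ = 1 := by rw [h3, inv_one]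
      rw [pow_one, pow_two]; exact this
    exact eq_one_of_pow_two_of_odd hodd 1 h4 hk
  have inv2 : ∀ k ∈ K, z2 * k * z2⁻¹ = k⁻¹ :=
    inverts_of_fpf K P.le2.sq (hnorm z2 P.m21) fix2
  obtain ⟨q, hq, hqz, -⟩ := P.exists_q1
  rw [Subgroup.eq_bot_iff_forall]
  intro k hk
  -- z1 z2 centralizes k
  have c3 : (z1 * z2) * k * (z1 * z2)⁻¹ = k := by
    calc (z1 * z2) * k * (z1 * z2)⁻¹ = z1 * (z2 * k * z2⁻¹) * z1⁻¹ := by group
      _ = z1 * k⁻¹ * z1⁻¹ := by rw [inv2 k hk]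
      _ = (k⁻¹)⁻¹ := inv1 _ (K.inv_mem hk)
      _ = k := inv_inv k
  -- z1 z2 = q z2 q⁻¹ inverts k
  have hk' : q⁻¹ * k * q ∈ K := by
    have := hnorm q⁻¹ ((Q z1).inv_mem hq) k hk
    simpa using this
  have i3 : (z1 * z2) * k * (z1 * z2)⁻¹ = k⁻¹ := by
    rw [← hqz]
    calc q * z2 * q⁻¹ * k * (q * z2 * q⁻¹)⁻¹ = q * (z2 * (q⁻¹ * k * q) * z2⁻¹) * q⁻¹ := by group
      _ = q * (q⁻¹ * k * q)⁻¹ * q⁻¹ := by rw [inv2 _ hk']
      _ = k⁻¹ := by group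
  have h4 : k ^ (2 ^ 1) = 1 := by
    have : k * k = 1 := by
      have e : k = k⁻¹ := by rw [← i3, c3]
      calc k * k = k * k⁻¹ := by rw [← e]
        _ = 1 := mul_inv_cancel k
    simpa [pow_succ] using this
  exact eq_one_of_pow_two_of_odd hodd 1 h4 hk

end Pair

end Cfsg.Agent.Lib.Helper4.LXF
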