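import Mathlib
import Cfsg.Agent.Lib.Helper4.LargeExtraP10

set_option autoImplicit false

namespace Cfsg.Agent.Lib.Helper4.LXF

open Cfsg

variable {G : Type*} [Group G]

theorem conj_mem_of_le_normalizer {N K : Subgroup G} (hK : K ≤ Subgroup.normalizer (N : Set G))
    {k n : G} (hk : k ∈ K) (hn : n ∈ N) : k * n * k⁻¹ ∈ N := by
  have := hK hk
  rw [Subgroup.mem_normalizer_iff] at this
  exact (this n).1 hn

theorem conj_mem_of_le_normalizer' {N K : Subgroup G} (hK : K ≤ Subgroup.normalizer (N : Set G))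
    {k n : G} (hk : k ∈ K) (hn : n ∈ N) : k⁻¹ * n * k ∈ N := by
  have := conj_mem_of_le_normalizer hK (K.inv_mem hk) hn
  simpa using this

/-- commutators of generators in `N` ⇒ commutators of the generated subgroups in `N`. -/
theorem comm_closure {N : Subgroup G} {s t : Set G}
    (hs : Subgroup.closure s ≤ Subgroup.normalizer (N : Set G))
    (ht : Subgroup.closure t ≤ Subgroup.normalizer (N : Set G))
    (h : ∀ x ∈ s, ∀ y ∈ t, x * y * x⁻¹ * y⁻¹ ∈ N) :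
    ∀ x ∈ Subgroup.closure s, ∀ y ∈ Subgroup.closure t, x * y * x⁻¹ * y⁻¹ ∈ N := by
  have step1 : ∀ x ∈ s, ∀ y ∈ Subgroup.closure t, x * y * x⁻¹ * y⁻¹ ∈ N := by
    intro x hx y hy
    refine Subgroup.closure_induction (p := fun y _ => x * y * x⁻¹ * y⁻¹ ∈ N)
      (fun y hy => h x hx y hy) ?_ ?_ ?_ hy
    · simp
    · intro y z hy hz iy iz
      have e : x * (y * z) * x⁻¹ * (y * z)⁻¹ =
          (x * y * x⁻¹ * y⁻¹) * (y * (x * z * x⁻¹ * z⁻¹) * y⁻¹) := by group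
      rw [e]
      exact N.mul_mem iy (conj_mem_of_le_normalizer ht hy iz)
    · intro y hy iy
      have e : x * y⁻¹ * x⁻¹ * y⁻¹⁻¹ = y⁻¹ * (x * y * x⁻¹ * y⁻¹)⁻¹ * y := by group
      rw [e]
      exact conj_mem_of_le_normalizer' ht hy (N.inv_mem iy)
  intro x hx y hy
  refine Subgroup.closure_induction (p := fun x _ => x * y * x⁻¹ * y⁻¹ ∈ N)
    (fun x hx => step1 x hx y hy) ?_ ?_ ?_ hx
  · simp
  · intro x x' hx hx' ix ix'
    have e : (x * x') * y * (x * x')⁻¹ * y⁻¹ =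
        (x * (x' * y * x'⁻¹ * y⁻¹) * x⁻¹) * (x * y * x⁻¹ * y⁻¹) := by group
    rw [e]
    exact N.mul_mem (conj_mem_of_le_normalizer hs hx ix') ix
  · intro x hx ix
    have e : x⁻¹ * y * x⁻¹⁻¹ * y⁻¹ = x⁻¹ * (x * y * x⁻¹ * y⁻¹)⁻¹ * x := by group
    rw [e]
    exact conj_mem_of_le_normalizer' hs hx (N.inv_mem ix)

/-- squares of generators in `N` and all commutators in `N` ⇒ squares in `N`. -/
theorem sq_closure {N : Subgroup G} {s : Set G}
    (hc : ∀ x ∈ Subgroup.closure s, ∀ y ∈ Subgroup.closure s, x * y * x⁻¹ * y⁻¹ ∈ N)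
    (h : ∀ x ∈ s, x * x ∈ N) :
    ∀ x ∈ Subgroup.closure s, x * x ∈ N := by
  intro x hx
  refine Subgroup.closure_induction (p := fun x _ => x * x ∈ N) h ?_ ?_ ?_ hx
  · simp
  · intro x y hx hy ix iy
    have e : (x * y) * (x * y) = (x * x) * (x⁻¹ * y * x⁻¹⁻¹ * y⁻¹) * (y * y) := by group
    rw [e]
    exact N.mul_mem (N.mul_mem ix (hc _ (Subgroup.inv_mem _ hx) _ hy)) iy
  · intro x hx ix
    have e : x⁻¹ * x⁻¹ = (x * x)⁻¹ := by group
    rw [e]
    exact N.inv_mem ix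

namespace Pair

variable {Q : G → Subgroup G} {z1 z2 : G}

/-- `E = Q z1 ⊓ Q z2` -/
def EE (Q : G → Subgroup G) (z1 z2 : G) : Subgroup G := Q z1 ⊓ Q z2

theorem mem_EE {e : G} : e ∈ EE Q z1 z2 ↔ e ∈ Q z1 ∧ e ∈ Q z2 := Subgroup.mem_inf

theorem VV_le_EE (P : Pair Q z1 z2) : VV z1 z2 ≤ EE Q z1 z2 := by
  unfold VV
  rw [Subgroup.closure_le]
  intro v hv
  have hv' : v = z1 ∨ v = z2 := by simpa using hv
  rcases hv' with h | h <;> rw [h]
  · exact mem_EE.2 ⟨P.le1.mem, P.m12⟩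
  · exact mem_EE.2 ⟨P.m21, P.le2.mem⟩

theorem EE_le_R1 (P : Pair Q z1 z2) : EE Q z1 z2 ≤ R1 Q z1 z2 := by
  unfold EE; rw [← P.R1_inf_R2]; exact inf_le_right

theorem EE_le_R2 (P : Pair Q z1 z2) : EE Q z1 z2 ≤ R2 Q z1 z2 := by
  unfold EE; rw [← P.R1_inf_R2]; exact inf_le_left

theorem EE_le_RR (P : Pair Q z1 z2) : EE Q z1 z2 ≤ RR Q z1 z2 :=
  P.EE_le_R1.trans R1_le_RR

theorem EE_sq (P : Pair Q z1 z2) {e : G} (he : e ∈ EE Q z1 z2) : e * e = 1 := by
  rw [mem_EE] at he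
  rcases P.le1.sqr e he.1 with h | h
  · exact h
  · rcases P.le2.sqr e he.2 with h' | h'
    · exact h'
    · exact absurd (h.symm.trans h') P.ne

theorem EE_comm (P : Pair Q z1 z2) {a b : G} (ha : a ∈ EE Q z1 z2) (hb : b ∈ EE Q z1 z2) :
    a * b = b * a := by
  rw [mem_EE] at ha hb
  have key : a * b * a⁻¹ * b⁻¹ = 1 := by
    rcases P.le1.comm a ha.1 b hb.1 with h | h
    · exact h
    · rcases P.le2.comm a ha.2 b hb.2 with h' | h'
      · exact h'
      · exact absurd (h.symm.trans h') P.ne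
  calc a * b = (a * b * a⁻¹ * b⁻¹) * (b * a) := by group
    _ = b * a := by rw [key, one_mul]

/-- commutator of `Q z1` with `E` lies in `⟨z1⟩ ≤ V` -/
theorem comm_Q1_EE (P : Pair Q z1 z2) {q e : G} (hq : q ∈ Q z1) (he : e ∈ EE Q z1 z2) :
    q * e * q⁻¹ * e⁻¹ ∈ VV z1 z2 := by
  rcases P.le1.comm q hq e (mem_EE.1 he).1 with h | h <;> rw [h]
  · exact Subgroup.one_mem _
  · exact z1_mem_VV

theorem comm_Q2_EE (P : Pair Q z1 z2) {q e : G} (hq : q ∈ Q z2) (he : e ∈ EE Q z1 z2) :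
    q * e * q⁻¹ * e⁻¹ ∈ VV z1 z2 := by
  rcases P.le2.comm q hq e (mem_EE.1 he).2 with h | h <;> rw [h]
  · exact Subgroup.one_mem _
  · exact z2_mem_VV

theorem EE_le_NV (P : Pair Q z1 z2) : EE Q z1 z2 ≤ Subgroup.normalizer (VV z1 z2 : Set G) :=
  (inf_le_left : EE Q z1 z2 ≤ Q z1).trans P.Q1_le_NV

theorem XX_eq_closure : XX Q z1 z2 = Subgroup.closure ((Q z1 : Set G) ∪ (Q z2 : Set G)) := by
  unfold XX
  rw [Subgroup.closure_union, Subgroup.closure_eq, Subgroup.closure_eq]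

theorem RR_eq_closure :
    RR Q z1 z2 = Subgroup.closure ((R2 Q z1 z2 : Set G) ∪ (R1 Q z1 z2 : Set G)) := by
  unfold RR
  rw [Subgroup.closure_union, Subgroup.closure_eq, Subgroup.closure_eq]

/-- `[X, E] ≤ V` -/
theorem comm_XX_EE (P : Pair Q z1 z2) {x e : G} (hx : x ∈ XX Q z1 z2) (he : e ∈ EE Q z1 z2) :
    x * e * x⁻¹ * e⁻¹ ∈ VV z1 z2 := by
  have h := comm_closure (N := VV z1 z2) (s := (Q z1 : Set G) ∪ (Q z2 : Set G))
    (t := (EE Q z1 z2 : Set G))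
    (by rw [← XX_eq_closure]; exact P.X_le_NV)
    (by rw [Subgroup.closure_eq]; exact P.EE_le_NV)
    (by
      intro x hx y hy
      rcases hx with hx | hx
      · exact P.comm_Q1_EE hx hy
      · exact P.comm_Q2_EE hx hy)
  rw [← XX_eq_closure, Subgroup.closure_eq] at h
  exact h x hx e he

/-- `R` normalizes `E`. -/
theorem RR_le_NE (P : Pair Q z1 z2) : RR Q z1 z2 ≤ Subgroup.normalizer (EE Q z1 z2 : Set G) := by
  have key : ∀ r ∈ RR Q z1 z2, ∀ e ∈ EE Q z1 z2, r * e * r⁻¹ ∈ EE Q z1 z2 := by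
    intro r hr e he
    have h := P.comm_XX_EE (RR_le_XX hr) he
    have e' : r * e * r⁻¹ = (r * e * r⁻¹ * e⁻¹) * e := by group
    rw [e']
    exact (EE Q z1 z2).mul_mem (P.VV_le_EE h) he
  intro r hr
  rw [Subgroup.mem_normalizer_iff]
  intro e
  constructor
  · exact key r hr e
  · intro h
    have := key r⁻¹ (Subgroup.inv_mem _ hr) _ h
    have e' : r⁻¹ * (r * e * r⁻¹) * r⁻¹⁻¹ = e := by group
    rwa [e'] at this

/-- `[R, R] ≤ E` -/
theorem comm_RR (P : Pair Q z1 z2) {x y : G} (hx : x ∈ RR Q z1 z2) (hy : y ∈ RR Q z1 z2) :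
    x * y * x⁻¹ * y⁻¹ ∈ EE Q z1 z2 := by
  have hn : Subgroup.closure ((R2 Q z1 z2 : Set G) ∪ (R1 Q z1 z2 : Set G)) ≤
      Subgroup.normalizer (EE Q z1 z2 : Set G) := by
    rw [← RR_eq_closure]; exact P.RR_le_NE
  have h := comm_closure (N := EE Q z1 z2) (s := (R2 Q z1 z2 : Set G) ∪ (R1 Q z1 z2 : Set G))
    (t := (R2 Q z1 z2 : Set G) ∪ (R1 Q z1 z2 : Set G)) hn hn
    (by
      intro x hx y hy
      rcases hx with hx | hx <;> rcases hy with hy | hy
      · -- both in R2 ≤ Q z2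
        rcases P.le2.comm x (mem_R2.1 hx).1 y (mem_R2.1 hy).1 with h | h <;> rw [h]
        · exact Subgroup.one_mem _
        · exact P.VV_le_EE z2_mem_VV
      · -- x ∈ R2, y ∈ R1
        have := P.comm_R1_R2 hy hx
        have e : x * y * x⁻¹ * y⁻¹ = (y * x * y⁻¹ * x⁻¹)⁻¹ := by group
        rw [e]
        exact Subgroup.inv_mem _ this
      · exact P.comm_R1_R2 hx hy
      · rcases P.le1.comm x (mem_R1.1 hx).1 y (mem_R1.1 hy).1 with h | h <;> rw [h]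
        · exact Subgroup.one_mem _
        · exact P.VV_le_EE z1_mem_VV)
  rw [← RR_eq_closure] at h
  exact h x hx y hy

theorem sq_RR (P : Pair Q z1 z2) {x : G} (hx : x ∈ RR Q z1 z2) : x * x ∈ EE Q z1 z2 := by
  have h := sq_closure (N := EE Q z1 z2) (s := (R2 Q z1 z2 : Set G) ∪ (R1 Q z1 z2 : Set G))
    (by
      rw [← RR_eq_closure]
      intro x hx y hy
      exact P.comm_RR hx hy)
    (by
      intro x hx
      rcases hx with hx | hx
      · rcases P.le2.sqr x (mem_R2.1 hx).1 with h | h <;> rw [h]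
        · exact Subgroup.one_mem _
        · exact P.VV_le_EE z2_mem_VV
      · rcases P.le1.sqr x (mem_R1.1 hx).1 with h | h <;> rw [h]
        · exact Subgroup.one_mem _
        · exact P.VV_le_EE z1_mem_VV)
  rw [← RR_eq_closure] at h
  exact h x hx

/-- `[E, R] ≤ V` -/
theorem comm_EE_RR (P : Pair Q z1 z2) {e r : G} (he : e ∈ EE Q z1 z2) (hr : r ∈ RR Q z1 z2) :
    e * r * e⁻¹ * r⁻¹ ∈ VV z1 z2 := by
  have := P.comm_XX_EE (RR_le_XX hr) he
  have e' : e * r * e⁻¹ * r⁻¹ = (r * e * r⁻¹ * e⁻¹)⁻¹ := by group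
  rw [e']
  exact Subgroup.inv_mem _ this

end Pair

end Cfsg.Agent.Lib.Helper4.LXF
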