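import Mathlib
import Cfsg.Agent.Lib.Helper4.LargeExtraP11

set_option autoImplicit false

namespace Cfsg.Agent.Lib.Helper4.LXF

open Cfsg

variable {G : Type*} [Group G]

namespace Pair

variable {Q : G → Subgroup G} {z1 z2 : G}

/-- an element commuting with `R1` and with `q1` (which moves `z2`) centralizes `Q z1`. -/
theorem cent_of_R1_q1 (P : Pair Q z1 z2) {q1 : G} (hq1 : q1 ∈ Q z1)
    (h1 : q1 * z2 * q1⁻¹ = z1 * z2) {y : G} (hy : ∀ r ∈ R1 Q z1 z2, y * r = r * y)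
    (hyq : y * q1 = q1 * y) : y = 1 ∨ y = z1 := by
  apply P.le1.cent
  intro q hq
  rcases P.Q1_cases hq1 h1 hq with h | h
  · exact hy q h
  · have e : q = q1 * (q1⁻¹ * q) := by group
    rw [e]
    calc y * (q1 * (q1⁻¹ * q)) = (y * q1) * (q1⁻¹ * q) := by group
      _ = q1 * (y * (q1⁻¹ * q)) := by rw [hyq]; group
      _ = q1 * ((q1⁻¹ * q) * y) := by rw [hy _ h]
      _ = q1 * (q1⁻¹ * q) * y := by group

/-- `C_G(R1) ≤ V`. -/
theorem cent_R1_le_VV (P : Pair Q z1 z2) {y : G} (hy : ∀ r ∈ R1 Q z1 z2, y * r = r * y) :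
    y ∈ VV z1 z2 := by
  obtain ⟨q1, hq1, h1, hq1z⟩ := P.exists_q1
  have i1 := P.le1.inv_eq
  have i2 := P.le2.inv_eq
  have s1 := P.le1.sq
  have s2 := P.le2.sq
  have c12 := P.comm12
  have hyz1 : y * z1 = z1 * y := hy z1 P.z1_mem_R1
  -- q1⁻¹ z2 q1 = z1 z2
  have h1' : q1⁻¹ * z2 * q1 = z1 * z2 := by
    have e : z2 = q1⁻¹ * (z1 * z2) * q1 := by rw [← h1]; group
    have hq1z' : q1⁻¹ * z1 = z1 * q1⁻¹ := by
      calc q1⁻¹ * z1 = q1⁻¹ * (z1 * q1) * q1⁻¹ := by group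
        _ = q1⁻¹ * (q1 * z1) * q1⁻¹ := by rw [hq1z]
        _ = z1 * q1⁻¹ := by group
    have e2 : z2 = z1 * (q1⁻¹ * z2 * q1) := by
      calc z2 = q1⁻¹ * (z1 * z2) * q1 := e
        _ = (q1⁻¹ * z1) * z2 * q1 := by group
        _ = z1 * (q1⁻¹ * z2 * q1) := by rw [hq1z']; group
    calc q1⁻¹ * z2 * q1 = (z1 * z1) * (q1⁻¹ * z2 * q1) := by rw [s1, one_mul]
      _ = z1 * (z1 * (q1⁻¹ * z2 * q1)) := by group
      _ = z1 * z2 := by rw [← e2]
  set p := y * q1 * y⁻¹ with hp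
  have hpQ : p ∈ Q z1 := Q_normal P.fam hyz1 hq1
  set c := q1⁻¹ * p with hc
  have hcQ : c ∈ Q z1 := (Q z1).mul_mem ((Q z1).inv_mem hq1) hpQ
  have hpc : p = q1 * c := by rw [hc]; group
  -- c centralizes R1
  have hcR : ∀ s ∈ Q z1, s * z2 = z2 * s → s * c = c * s := by
    intro s hs hsz
    have hsR : s ∈ R1 Q z1 z2 := mem_R1.2 ⟨hs, hsz⟩
    have hconj : q1 * s * q1⁻¹ ∈ R1 Q z1 z2 := P.conj_R1_of_Q1 hq1 hsR
    have e1 : y * (q1 * s * q1⁻¹) = (q1 * s * q1⁻¹) * y := hy _ hconj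
    have e2 : y * s = s * y := hy _ hsR
    -- p s p⁻¹ = q1 s q1⁻¹
    have e3 : p * s * p⁻¹ = q1 * s * q1⁻¹ := by
      calc p * s * p⁻¹ = y * q1 * (y⁻¹ * (s * y)) * q1⁻¹ * y⁻¹ := by rw [hp]; group
        _ = y * q1 * (y⁻¹ * (y * s)) * q1⁻¹ * y⁻¹ := by rw [e2]
        _ = (y * (q1 * s * q1⁻¹)) * y⁻¹ := by group
        _ = (q1 * s * q1⁻¹) * y * y⁻¹ := by rw [e1]
        _ = q1 * s * q1⁻¹ := by group
    calc s * c = q1⁻¹ * (q1 * s * q1⁻¹) * p := by rw [hc]; group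
      _ = q1⁻¹ * (p * s * p⁻¹) * p := by rw [e3]
      _ = c * s := by rw [hc]; group
  -- squares
  have hsq : p * p = q1 * q1 := by
    have hR : q1 * q1 ∈ R1 Q z1 z2 := P.sq_mem_R1 hq1
    have := hy _ hR
    calc p * p = (y * (q1 * q1)) * y⁻¹ := by rw [hp]; group
      _ = (q1 * q1) * y * y⁻¹ := by rw [this]
      _ = q1 * q1 := by group
  have hsq' : q1 * c * (q1 * c) = q1 * q1 := by rw [← hpc]; exact hsq
  have hz1ne : z1 ≠ 1 := P.le1.ne
  rcases P.le1.double_cent P.fam P.m21 P.le2.ne P.ne.symm hcQ hcR with e | e | e | e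
  · -- c = 1: y commutes with q1
    have hyq : y * q1 = q1 * y := by
      have : p = q1 := by rw [hpc, e, mul_one]
      calc y * q1 = (y * q1 * y⁻¹) * y := by group
        _ = q1 * y := by rw [← hp, this]
    rcases P.cent_of_R1_q1 hq1 h1 hy hyq with h | h <;> rw [h]
    · exact Subgroup.one_mem _
    · exact z1_mem_VV
  · -- c = z1: y z2 centralizes Q z1
    have hy' : ∀ r ∈ R1 Q z1 z2, (y * z2) * r = r * (y * z2) := by
      intro r hr
      have h2 := (mem_R1.1 hr).2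
      calc y * z2 * r = y * (z2 * r) := by group
        _ = y * (r * z2) := by rw [h2]
        _ = (y * r) * z2 := by group
        _ = r * y * z2 := by rw [hy r hr]
        _ = r * (y * z2) := by group
    have hz2q : z2 * q1 = q1 * z1 * z2 := by
      calc z2 * q1 = q1 * (q1⁻¹ * z2 * q1) := by group
        _ = q1 * z1 * z2 := by rw [h1']; group
    have hpq : y * q1 = q1 * z1 * y := by
      calc y * q1 = (y * q1 * y⁻¹) * y := by group
        _ = q1 * z1 * y := by rw [← hp, hpc, e]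
    have hyq : (y * z2) * q1 = q1 * (y * z2) := by
      calc y * z2 * q1 = y * (z2 * q1) := by group
        _ = y * (q1 * z1 * z2) := by rw [hz2q]
        _ = (y * q1) * z1 * z2 := by group
        _ = q1 * z1 * (y * z1) * z2 := by rw [hpq]; group
        _ = q1 * (z1 * z1) * y * z2 := by rw [hyz1]; group
        _ = q1 * (y * z2) := by rw [s1]; group
    have hmem : y = (y * z2) * z2 := by
      calc y = y * (z2 * z2) := by rw [s2, mul_one]
        _ = (y * z2) * z2 := by group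
    rw [hmem]
    refine Subgroup.mul_mem _ ?_ z2_mem_VV
    rcases P.cent_of_R1_q1 hq1 h1 hy' hyq with h | h <;> rw [h]
    · exact Subgroup.one_mem _
    · exact z1_mem_VV
  · -- c = z2⁻¹ = z2 : impossible
    exfalso
    rw [e, i2] at hsq'
    have : q1 * z2 * (q1 * z2) = q1 * q1 * z1 := by
      calc q1 * z2 * (q1 * z2) = q1 * q1 * (q1⁻¹ * z2 * q1) * z2 := by group
        _ = q1 * q1 * (z1 * z2) * z2 := by rw [h1']
        _ = q1 * q1 * z1 * (z2 * z2) := by group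
        _ = q1 * q1 * z1 := by rw [s2, mul_one]
    rw [this] at hsq'
    exact hz1ne (mul_left_cancel (a := q1 * q1) (by rw [hsq', mul_one]))
  · -- c = z1 z2⁻¹ = z1 z2 : impossible
    exfalso
    rw [e, i2] at hsq'
    have : q1 * (z1 * z2) * (q1 * (z1 * z2)) = q1 * q1 * z1 := by
      calc q1 * (z1 * z2) * (q1 * (z1 * z2))
          = q1 * z1 * q1 * (q1⁻¹ * z2 * q1) * z1 * z2 := by group
        _ = q1 * z1 * q1 * (z1 * z2) * z1 * z2 := by rw [h1']
        _ = q1 * (z1 * q1) * z1 * (z2 * z1) * z2 := by group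
        _ = q1 * (q1 * z1) * z1 * (z1 * z2) * z2 := by rw [← hq1z, ← c12]
        _ = q1 * q1 * (z1 * z1) * z1 * (z2 * z2) := by group
        _ = q1 * q1 * z1 := by rw [s1, s2]; group
    rw [this] at hsq'
    exact hz1ne (mul_left_cancel (a := q1 * q1) (by rw [hsq', mul_one]))

end Pair

end Cfsg.Agent.Lib.Helper4.LXF
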