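import Mathlib
import Cfsg.Agent.S5552
import Cfsg.Agent.Lib.Golay.LeechGram
import Cfsg.Agent.Lib.Conway.Shapes
import Cfsg.Agent.Lib.Helper29.ExtraTwoRank
import Cfsg.Agent.Lib.Helper4.ExtraQuad

set_option autoImplicit false
set_option linter.unusedSectionVars false

/-!
An extraspecial group of order `2^25` whose central quotient is identified with the Leech lattice
modulo 2 compatibly with an action of `Co0` is of plus type: the squaring map is the standard
quadratic form, and the vectors with all coordinates divisible by 4 give a totally singular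
subspace of dimension 12.
-/

namespace Cfsg.Agent.Lib.Helper4.MP

open Cfsg Cfsg.Agent.Lib.Helper29 Cfsg.Agent.Lib.Helper4.EQ
open Cfsg.Agent.Lib.Golay.LeechBasis Cfsg.Agent.Lib.Golay.LeechGram

/-! ### lattice facts -/

set_option maxRecDepth 100000 in
theorem four_dvd_bvec : ∀ j : Fin 24, j.val < 12 → ∀ p : GolayPt, (4 : ℤ) ∣ bvec j p := by
  decide +kernel

/-- vectors all of whose coordinates are divisible by 4 have `sqNorm / 16` even -/
theorem even_of_four_dvd {x : GolayPt → ℤ} (hx : x ∈ leechLattice) (h4 : ∀ p, (4 : ℤ) ∣ x p) :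
    (2 : ℤ) ∣ sqNorm x / 16 := by
  obtain ⟨m, hm1, hm2, -⟩ := Cfsg.Agent.Lib.Conway.mem_data hx
  choose y hy using h4
  have hm : m % 2 = 0 := by
    have := hm1 none
    rw [hy none] at this
    omega
  have hsum : (∑ i, x i) = 4 * ∑ i, y i := by
    rw [Finset.mul_sum]
    exact Finset.sum_congr rfl fun i _ => hy i
  have hs2 : (2 : ℤ) ∣ ∑ i, y i := by
    rw [hsum] at hm2
    omega
  have hsq : sqNorm x = 16 * ∑ i, y i ^ 2 := by
    unfold sqNorm
    rw [Finset.mul_sum]
    refine Finset.sum_congr rfl fun i _ => ?_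
    rw [hy i]; ring
  rw [hsq, Int.mul_ediv_cancel_left _ (by norm_num : (16 : ℤ) ≠ 0)]
  have hdiff : (2 : ℤ) ∣ ∑ i, (y i ^ 2 - y i) := by
    refine Finset.dvd_sum fun i _ => ?_
    have : y i ^ 2 - y i = y i * (y i - 1) := by ring
    rw [this]
    exact even_iff_two_dvd.mp (Int.even_mul_pred_self (y i))
  rw [Finset.sum_sub_distrib] at hdiff
  have := dvd_add hdiff hs2
  simpa using this

/-- coordinates of the `0/1`-combination of the first twelve basis vectors -/
def cof (ε : Fin 12 → Bool) : Fin 24 → ℤ := fun j =>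
  if hj : j.val < 12 then (if ε ⟨j.val, hj⟩ then 1 else 0) else 0

/-- the `0/1`-combination of the first twelve basis vectors -/
def wv (ε : Fin 12 → Bool) : leechLattice := ⟨Tf (cof ε), Tf_mem _⟩

theorem four_dvd_wv (ε : Fin 12 → Bool) (p : GolayPt) :
    (4 : ℤ) ∣ ((wv ε : leechLattice) : GolayPt → ℤ) p := by
  show (4 : ℤ) ∣ Tf (cof ε) p
  rw [Tf_apply]
  refine Finset.dvd_sum fun j _ => ?_
  by_cases hj : j.val < 12
  · exact Dvd.dvd.mul_left (four_dvd_bvec j hj p) _
  · simp [cof, hj]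

theorem wv_cong {ε ε' : Fin 12 → Bool} (u : leechLattice) (h : wv ε + wv ε' = u + u) :
    ε = ε' := by
  have h1 : Tf (cof ε) + Tf (cof ε') = (u : GolayPt → ℤ) + (u : GolayPt → ℤ) := by
    have := congrArg (fun v : leechLattice => (v : GolayPt → ℤ)) h
    simpa [wv] using this
  have h2 : ∃ z ∈ leechLattice, Tf (cof ε + cof ε') - Tf 0 = 2 • z := by
    refine ⟨(u : GolayPt → ℤ), u.2, ?_⟩
    rw [Tf_add, Tf_zero, sub_zero, h1, two_smul]
  have h3 := (cong_iff (cof ε + cof ε') 0).mp h2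
  funext k
  have h4 := h3 ⟨k.val, by omega⟩
  have hk : (⟨k.val, by omega⟩ : Fin 24).val < 12 := k.2
  simp only [Pi.sub_apply, Pi.add_apply, Pi.zero_apply, sub_zero, cof, hk, dite_true,
    Fin.eta] at h4
  cases hε : ε k <;> cases hε' : ε' k <;> simp [hε, hε'] at h4 ⊢

/-! ### the abstract core -/

section core

variable {P : Type*} [Group P] [Finite P] {z0 : P} (hE : IsE2 P z0)
  (ψ : leechLattice → P ⧸ Subgroup.center P)
  (hadd : ∀ v w : leechLattice, ψ (v + w) = ψ v * ψ w)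
  (hsurj : Function.Surjective ψ)
  (hker : ∀ v : leechLattice, ψ v = 1 ↔ ∃ w : leechLattice, v = w + w)

/-- the quadratic form on the lattice -/
noncomputable def qf (ψ : leechLattice → P ⧸ Subgroup.center P) (v : leechLattice) : ZMod 2 :=
  EQ.sq (ψ v).out

/-- the polar form -/
noncomputable def bb (ψ : leechLattice → P ⧸ Subgroup.center P) (v w : leechLattice) : ZMod 2 :=
  cmb (ψ v).out (ψ w).out

include hE in
theorem qf_of_lift {v : leechLattice} {x : P} (hx : ψ v = QuotientGroup.mk x) :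
    qf ψ v = EQ.sq x := by
  unfold qf
  apply EQ.sq_congr hE
  rw [QuotientGroup.out_eq', hx]

include hE hadd in
theorem qf_add (v w : leechLattice) : qf ψ (v + w) = qf ψ v + qf ψ w + bb ψ v w := by
  have h1 : ψ (v + w) = QuotientGroup.mk ((ψ v).out * (ψ w).out) := by
    rw [hadd, QuotientGroup.mk_mul, QuotientGroup.out_eq', QuotientGroup.out_eq']
  rw [qf_of_lift hE ψ h1, EQ.sq_mul hE]
  rfl

include hE hadd in
theorem bb_add_left (u v w : leechLattice) : bb ψ (u + v) w = bb ψ u w + bb ψ v w := by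
  unfold bb
  have h1 : (QuotientGroup.mk (ψ (u + v)).out : P ⧸ Subgroup.center P) =
      QuotientGroup.mk ((ψ u).out * (ψ v).out) := by
    rw [QuotientGroup.out_eq', hadd, QuotientGroup.mk_mul, QuotientGroup.out_eq',
      QuotientGroup.out_eq']
  rw [cmb_congr_left hE _ h1, cmb_mul_left hE]

include hE hadd in
theorem qf_quad (u v w : leechLattice) :
    qf ψ (u + v + w) + qf ψ u + qf ψ v + qf ψ w =
      qf ψ (u + v) + qf ψ (u + w) + qf ψ (v + w) := by
  rw [qf_add hE ψ hadd (u + v) w, bb_add_left hE ψ hadd u v w, qf_add hE ψ hadd u w,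
    qf_add hE ψ hadd v w]
  ring

include hadd hker in
theorem qf_coset (v w : leechLattice) : qf ψ (v + (w + w)) = qf ψ v := by
  have : ψ (v + (w + w)) = ψ v := by
    rw [hadd, (hker (w + w)).mpr ⟨w, rfl⟩, mul_one]
  unfold qf
  rw [this]

include hE hsurj in
theorem qf_ne (hna : ∃ x y : P, x * y ≠ y * x) : ∃ v : leechLattice, qf ψ v ≠ 0 := by
  obtain ⟨x, hx⟩ := exists_sq_ne hE hna
  obtain ⟨v, hv⟩ := hsurj (QuotientGroup.mk x)
  refine ⟨v, ?_⟩
  rw [qf_of_lift hE ψ hv, hx]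
  exact one_ne_zero

include hadd hker in
theorem psi_zero : ψ 0 = 1 := (hker 0).mpr ⟨0, by simp⟩

include hadd hker in
theorem psi_sq (v : leechLattice) : ψ v * ψ v = 1 := by
  rw [← hadd]; exact (hker _).mpr ⟨v, rfl⟩

/-- the preimage of the totally singular subspace -/
def EE (ψ : leechLattice → P ⧸ Subgroup.center P)
    (hadd : ∀ v w : leechLattice, ψ (v + w) = ψ v * ψ w)
    (hker : ∀ v : leechLattice, ψ v = 1 ↔ ∃ w : leechLattice, v = w + w) : Subgroup P where
  carrier := {x | ∃ v : leechLattice, (∀ p, (4 : ℤ) ∣ (v : GolayPt → ℤ) p) ∧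
    QuotientGroup.mk x = ψ v}
  one_mem' := ⟨0, fun p => by simp, by rw [psi_zero ψ hadd hker]; rfl⟩
  mul_mem' := by
    rintro a b ⟨v, hv4, hv⟩ ⟨w, hw4, hw⟩
    refine ⟨v + w, fun p => ?_, ?_⟩
    · show (4 : ℤ) ∣ ((v : GolayPt → ℤ) + (w : GolayPt → ℤ)) p
      exact dvd_add (hv4 p) (hw4 p)
    · rw [QuotientGroup.mk_mul, hv, hw, hadd]
  inv_mem' := by
    rintro a ⟨v, hv4, hv⟩
    refine ⟨v, hv4, ?_⟩
    rw [QuotientGroup.mk_inv, hv]
    exact inv_eq_of_mul_eq_one_right (psi_sq ψ hadd hker v)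

end core

section core2

variable {P : Type*} [Group P] [Finite P] {z0 : P} (hE : IsE2 P z0)
  (ψ : leechLattice → P ⧸ Subgroup.center P)
  (hadd : ∀ v w : leechLattice, ψ (v + w) = ψ v * ψ w)
  (hsurj : Function.Surjective ψ)
  (hker : ∀ v : leechLattice, ψ v = 1 ↔ ∃ w : leechLattice, v = w + w)
  (hconj : ∀ (g : Co0) (v : leechLattice), ∃ x y : P, ψ v = QuotientGroup.mk x ∧
    ψ (g • v) = QuotientGroup.mk y ∧ (y * y = 1 ↔ x * x = 1))

include hE hconj in
theorem qf_inv (g : Co0) (v : leechLattice) : qf ψ (g • v) = qf ψ v := by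
  obtain ⟨x, y, hx, hy, hxy⟩ := hconj g v
  rw [qf_of_lift hE ψ hx, qf_of_lift hE ψ hy]
  by_cases h1 : x * x = 1
  · rw [sq_of x h1, sq_of y (hxy.mpr h1)]
  · rw [sq_of_ne x h1, sq_of_ne y (fun e => h1 (hxy.mp e))]

include hE hadd hsurj hker hconj in
theorem qf_formula (hna : ∃ x y : P, x * y ≠ y * x) (v : leechLattice) :
    qf ψ v = ((sqNorm (v : GolayPt → ℤ) / 16 : ℤ) : ZMod 2) :=
  Cfsg.Agent.S5552.result (qf ψ) (qf_coset ψ hadd hker) (qf_quad hE ψ hadd)
    (qf_inv hE ψ hconj) (qf_ne hE ψ hsurj hna) v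

include hE hadd hsurj hker hconj in
theorem qf_zero_of_four (hna : ∃ x y : P, x * y ≠ y * x) (v : leechLattice)
    (h4 : ∀ p, (4 : ℤ) ∣ (v : GolayPt → ℤ) p) : qf ψ v = 0 := by
  rw [qf_formula hE ψ hadd hsurj hker hconj hna v]
  exact (ZMod.intCast_zmod_eq_zero_iff_dvd _ 2).mpr (even_of_four_dvd v.2 h4)

include hE hadd hsurj hker hconj in
theorem EE_sq (hna : ∃ x y : P, x * y ≠ y * x) {x : P} (hx : x ∈ EE ψ hadd hker) :
    x * x = 1 := by
  obtain ⟨v, hv4, hv⟩ := hx
  have h1 := qf_of_lift hE ψ hv.symm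
  rw [qf_zero_of_four hE ψ hadd hsurj hker hconj hna v hv4] at h1
  exact (sq_eq_zero_iff x).mp h1.symm

include hE hadd hsurj hker hconj in
theorem EE_comm (hna : ∃ x y : P, x * y ≠ y * x) {x y : P} (hx : x ∈ EE ψ hadd hker)
    (hy : y ∈ EE ψ hadd hker) : x * y = y * x := by
  have h1 := EE_sq hE ψ hadd hsurj hker hconj hna hx
  have h2 := EE_sq hE ψ hadd hsurj hker hconj hna hy
  have h3 := EE_sq hE ψ hadd hsurj hker hconj hna ((EE ψ hadd hker).mul_mem hx hy)
  have h4 := EQ.sq_mul hE x y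
  rw [sq_of x h1, sq_of y h2, sq_of (x * y) h3, zero_add, zero_add] at h4
  exact (cmb_eq_zero_iff x y).mp h4.symm

/-- the injection giving the lower bound on the order -/
noncomputable def inj (ε : (Fin 12 → Bool) × Bool) : P := (ψ (wv ε.1)).out * bp z0 ε.2

include hE in
theorem inj_mem (ε : (Fin 12 → Bool) × Bool) : inj (z0 := z0) ψ ε ∈ EE ψ hadd hker := by
  refine ⟨wv ε.1, four_dvd_wv ε.1, ?_⟩
  unfold inj
  rw [QuotientGroup.mk_mul, QuotientGroup.out_eq']
  have : (QuotientGroup.mk (bp z0 ε.2) : P ⧸ Subgroup.center P) = 1 := by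
    rw [QuotientGroup.eq_one_iff]
    cases ε.2
    · rw [bp_false]; exact Subgroup.one_mem _
    · rw [bp_true]; exact hE.mem
  rw [this, mul_one]

include hE hadd hker in
theorem inj_injective : Function.Injective (inj (z0 := z0) ψ) := by
  intro ε ε' h
  have h1 : ψ (wv ε.1) = ψ (wv ε'.1) := by
    have e1 : ∀ η : (Fin 12 → Bool) × Bool,
        (QuotientGroup.mk (inj (z0 := z0) ψ η) : P ⧸ Subgroup.center P) = ψ (wv η.1) := by
      intro η
      obtain ⟨v, -, hv⟩ := inj_mem hE ψ hadd hker η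
      unfold inj
      rw [QuotientGroup.mk_mul, QuotientGroup.out_eq']
      have : (QuotientGroup.mk (bp z0 η.2) : P ⧸ Subgroup.center P) = 1 := by
        rw [QuotientGroup.eq_one_iff]
        cases η.2
        · rw [bp_false]; exact Subgroup.one_mem _
        · rw [bp_true]; exact hE.mem
      rw [this, mul_one]
    rw [← e1 ε, ← e1 ε', h]
  have h2 : ψ (wv ε.1 + wv ε'.1) = 1 := by
    rw [hadd, h1]; exact psi_sq ψ hadd hker _
  obtain ⟨u, hu⟩ := (hker _).mp h2
  have h3 : ε.1 = ε'.1 := wv_cong u hu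
  have h4 : bp z0 ε.2 = bp z0 ε'.2 := by
    unfold inj at h
    rw [h3] at h
    exact mul_left_cancel h
  have h5 : ε.2 = ε'.2 := by
    cases h6 : ε.2 <;> cases h7 : ε'.2 <;> simp only [h6, h7, bp_true, bp_false] at h4 ⊢
    · exact absurd h4.symm hE.ne
    · exact absurd h4 hE.ne
  exact Prod.ext h3 h5

include hE hadd hsurj hker hconj in
theorem exists_elemAb (hcard : Nat.card P = 2 ^ 25) :
    ∃ E : Subgroup P, Cfsg.IsElementaryAbelian 2 E ∧ Nat.card E = 2 ^ 13 := by
  have hna : ∃ x y : P, x * y ≠ y * x := hE.not_comm_of_card (by rw [hcard]; norm_num)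
  refine ⟨EE ψ hadd hker, ⟨⟨⟨fun a b => Subtype.ext ?_⟩⟩, fun a ha => ?_⟩, ?_⟩
  · exact EE_comm hE ψ hadd hsurj hker hconj hna a.2 b.2
  · rw [pow_two]; exact EE_sq hE ψ hadd hsurj hker hconj hna ha
  · have hEA : IsEA2 (EE ψ hadd hker) :=
      ⟨fun a ha b hb => EE_comm hE ψ hadd hsurj hker hconj hna ha hb,
        fun a ha => EE_sq hE ψ hadd hsurj hker hconj hna ha⟩
    have hup := (IsE2.rank_upper (2 ^ 25) P z0 hE hcard (EE ψ hadd hker) hEA).1
    have hup2 : Nat.card (EE ψ hadd hker) ≤ 2 ^ 13 := by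
      rw [hcard] at hup
      have : Nat.card (EE ψ hadd hker) ^ 2 ≤ (2 ^ 13) ^ 2 := by
        calc Nat.card (EE ψ hadd hker) ^ 2 ≤ 2 * 2 ^ 25 := hup
          _ = (2 ^ 13) ^ 2 := by norm_num
      exact (Nat.pow_le_pow_iff_left (by norm_num : 2 ≠ 0)).mp this
    have hlow : 2 ^ 13 ≤ Nat.card (EE ψ hadd hker) := by
      let f : (Fin 12 → Bool) × Bool → EE ψ hadd hker :=
        fun ε => ⟨inj (z0 := z0) ψ ε, inj_mem hE ψ hadd hker ε⟩
      have hf : Function.Injective f := by
        intro a b hab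
        exact inj_injective hE ψ hadd hker (congrArg Subtype.val hab)
      have := Nat.card_le_card_of_injective f hf
      have hc : Nat.card ((Fin 12 → Bool) × Bool) = 2 ^ 13 := by
        rw [Nat.card_eq_fintype_card]
        simp
      rwa [hc] at this
    exact le_antisymm hup2 hlow

end core2

end Cfsg.Agent.Lib.Helper4.MP
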