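import Mathlib
import Cfsg.Prelude.Def_MonsterType
import Cfsg.Agent.Lib.Helper4.Co2Core
import Cfsg.Agent.Lib.Helper4.MonsterPlus
import Cfsg.Agent.Lib.Helper4.LargeExtraP12
import Cfsg.Agent.Lib.Helper22.FStar
import Cfsg.Agent.S1570

set_option autoImplicit false

/-!
Groups of Monster type: the conjugates of the central involution `z` inside the extraspecial
group `Q` are the elements whose image in the Leech lattice modulo 2 has type 4.
-/

namespace Cfsg.Agent.Lib.Helper4.MC

open Cfsg Cfsg.Agent.Lib.Conway Cfsg.Agent.Lib.Helper29 Cfsg.Agent.Lib.Helper4.LXF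
open Cfsg.Agent.Lib.Helper4.C2C

/-! ### lattice lemmas -/

theorem negCo0_center : negCo0 ∈ Subgroup.center Co0 := by
  rw [Subgroup.mem_center_iff]
  intro g
  apply co0_ext
  intro v
  rw [co0_mul_smul, co0_mul_smul, negCo0_smul, negCo0_smul, co0_neg]

theorem sqNorm_eq_zero {x : Vec} (h : sqNorm x = 0) : x = 0 := by
  unfold sqNorm at h
  funext i
  have := (Finset.sum_eq_zero_iff_of_nonneg (fun i _ => sq_nonneg (x i))).mp h i (Finset.mem_univ i)
  exact pow_eq_zero_iff (by norm_num) |>.mp this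

/-- a central element of `Co0` fixing a minimal vector is trivial -/
theorem central_fix (c : Co0) (hc : c ∈ Subgroup.center Co0) (v : leechLattice)
    (hv : sqNorm (v : Vec) = 32) (h : c • v = v) : c = 1 := by
  have key : ∀ w : leechLattice, sqNorm (w : Vec) = 32 → c • w = w := by
    intro w hw
    obtain ⟨g, rfl⟩ := trans4 v w hv hw
    rw [← co0_mul_smul, ← Subgroup.mem_center_iff.mp hc g, co0_mul_smul, h]
  exact eq_one_of_fix c (key V0 sqNorm_v0) fun u hu => key u hu.1

/-- two minimal vectors congruent modulo twice the lattice are equal or opposite -/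
theorem pm_of_cong (v v' w : leechLattice) (hv : sqNorm (v : Vec) = 32)
    (hv' : sqNorm (v' : Vec) = 32) (h : v' + v = w + w) : v' = v ∨ v' = -v := by
  have h1 : (v' : Vec) + (v : Vec) = (w : Vec) + (w : Vec) := by
    have := congrArg (fun x : leechLattice => (x : Vec)) h
    simpa using this
  have h2 := Cfsg.Agent.S0393.sqNorm_add (v' : Vec) (v : Vec)
  have h3 : sqNorm ((w : Vec) + (w : Vec)) = 4 * sqNorm (w : Vec) := by
    rw [Cfsg.Agent.S0393.sqNorm_add, ← sqNorm_eq_dot]; ring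
  rw [h1, h3, hv, hv'] at h2
  have h4 := sqNorm_sub' (v' : Vec) (v : Vec)
  rw [hv, hv'] at h4
  have h5 : 0 ≤ sqNorm ((v' : Vec) - (v : Vec)) := by
    unfold sqNorm
    exact Finset.sum_nonneg fun i _ => sq_nonneg _
  by_cases hw : (w : Vec) = 0
  · right
    rw [hw] at h1
    apply Subtype.ext
    show (v' : Vec) = -(v : Vec)
    have : (v' : Vec) + (v : Vec) = 0 := by rw [h1]; simp
    exact eq_neg_of_add_eq_zero_left this
  · left
    have h6 := Cfsg.Agent.Lib.Helper93.Leech.sqNorm_ge_of_mem_leechLattice w.2 hw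
    have h7 : sqNorm ((v' : Vec) - (v : Vec)) = 0 := by omega
    apply Subtype.ext
    exact sub_eq_zero.mp (sqNorm_eq_zero h7)


/-! ### the group-theoretic set-up -/

section setup

variable {G : Type*} [Group G] {z : G}

theorem z_mem_cent (z : G) : z ∈ Subgroup.centralizer ({z} : Set G) :=
  Subgroup.mem_centralizer_singleton_iff.mpr rfl

/-- `Q` as a subgroup of `G` -/
def Q1 (Q : Subgroup (Subgroup.centralizer ({z} : Set G))) : Subgroup G :=
  Q.map (Subgroup.centralizer ({z} : Set G)).subtype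

theorem mem_Q1 {Q : Subgroup (Subgroup.centralizer ({z} : Set G))} {a : G} :
    a ∈ Q1 Q ↔ ∃ q : Q, ((q : Subgroup.centralizer ({z} : Set G)) : G) = a := by
  unfold Q1
  constructor
  · rintro ⟨c, hc, rfl⟩
    exact ⟨⟨c, hc⟩, rfl⟩
  · rintro ⟨q, rfl⟩
    exact ⟨q.1, q.2, rfl⟩

theorem comm_z_of_mem_cent (c : Subgroup.centralizer ({z} : Set G)) : (c : G) * z = z * (c : G) :=
  (Subgroup.mem_centralizer_iff.mp c.2 z rfl).symm

variable {Q : Subgroup (Subgroup.centralizer ({z} : Set G))}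

theorem z_mem_Q [Finite G]
    (hF : generalizedFittingSubgroup (Subgroup.centralizer ({z} : Set G)) = Q) :
    (⟨z, z_mem_cent z⟩ : Subgroup.centralizer ({z} : Set G)) ∈ Q := by
  rw [← hF]
  apply Cfsg.Agent.Lib.Helper22.centralizer_generalizedFitting_le
  rw [Subgroup.mem_centralizer_iff]
  intro b _
  exact Subtype.ext (comm_z_of_mem_cent b)

theorem cent_le_normalizer [hQn : Q.Normal] :
    Subgroup.centralizer ({z} : Set G) ≤ Subgroup.normalizer ((Q1 Q : Subgroup G) : Set G) := by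
  intro c hc
  rw [Subgroup.mem_normalizer_iff]
  intro a
  constructor
  · rintro ⟨q, hq, rfl⟩
    exact ⟨⟨c, hc⟩ * q * ⟨c, hc⟩⁻¹, hQn.conj_mem q hq ⟨c, hc⟩, rfl⟩
  · rintro ⟨q, hq, hqe⟩
    refine ⟨⟨c, hc⟩⁻¹ * q * ⟨c, hc⟩, ?_, ?_⟩
    · have := hQn.conj_mem q hq (⟨c, hc⟩⁻¹)
      simpa using this
    · simp only [Subgroup.coe_subtype, Subgroup.coe_mul, Subgroup.coe_inv] at hqe ⊢
      rw [hqe]; group

theorem Q1_comm_z {q : G} (hq : q ∈ Q1 Q) : q * z = z * q := by
  obtain ⟨c, rfl⟩ := mem_Q1.mp hq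
  exact comm_z_of_mem_cent _

theorem isE2_Q (hz : orderOf z = 2) (hX : IsExtraspecial 2 Q)
    (hzQ : (⟨z, z_mem_cent z⟩ : Subgroup.centralizer ({z} : Set G)) ∈ Q) :
    IsE2 Q ⟨⟨z, z_mem_cent z⟩, hzQ⟩ := by
  obtain ⟨z', hz'⟩ := IsE2.exists_of_card hX.2 (le_of_eq hX.1.2.2)
  have hzc : (⟨⟨z, z_mem_cent z⟩, hzQ⟩ : Q) ∈ Subgroup.center Q := by
    rw [Subgroup.mem_center_iff]
    intro b
    exact Subtype.ext (Subtype.ext (comm_z_of_mem_cent b.1))
  rcases hz'.all _ hzc with h | h
  · exfalso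
    have h1 : z = 1 := congrArg (fun q : Q => ((q : Subgroup.centralizer ({z} : Set G)) : G)) h
    rw [h1, orderOf_one] at hz
    omega
  · rw [h]; exact hz'

theorem le_z [Finite G] [hQn : Q.Normal] (hz : orderOf z = 2)
    (hF : generalizedFittingSubgroup (Subgroup.centralizer ({z} : Set G)) = Q)
    (hX : IsExtraspecial 2 Q) : LE (famOf (Q1 Q) z) z := by
  have hN := cent_le_normalizer (Q := Q)
  have hzQ := z_mem_Q hF
  have hE := isE2_Q hz hX hzQ
  have hself := famOf_self (Q1 Q) z hN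
  have hz1 : z ≠ 1 := by
    intro h; rw [h, orderOf_one] at hz; omega
  have hzz : z * z = 1 := by
    have := pow_orderOf_eq_one z
    rwa [hz, pow_two] at this
  refine ⟨hz1, hzz, ?_, ?_, ?_, ?_⟩
  · rw [hself]
    exact mem_Q1.mpr ⟨⟨⟨z, z_mem_cent z⟩, hzQ⟩, rfl⟩
  · intro a ha b hb
    rw [hself] at ha hb
    obtain ⟨qa, rfl⟩ := mem_Q1.mp ha
    obtain ⟨qb, rfl⟩ := mem_Q1.mp hb
    rcases hE.cm_cases qa qb with h | h
    · left
      have := congrArg (fun q : Q => ((q : Subgroup.centralizer ({z} : Set G)) : G)) h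
      simpa [cm] using this
    · right
      have := congrArg (fun q : Q => ((q : Subgroup.centralizer ({z} : Set G)) : G)) h
      simpa [cm] using this
  · intro a ha
    rw [hself] at ha
    obtain ⟨qa, rfl⟩ := mem_Q1.mp ha
    rcases hE.sq_cases qa with h | h
    · left
      have := congrArg (fun q : Q => ((q : Subgroup.centralizer ({z} : Set G)) : G)) h
      simpa using this
    · right
      have := congrArg (fun q : Q => ((q : Subgroup.centralizer ({z} : Set G)) : G)) h
      simpa using this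
  · intro a ha
    rw [hself] at ha
    have haz : a * z = z * a := by
      have := ha z (mem_Q1.mpr ⟨⟨⟨z, z_mem_cent z⟩, hzQ⟩, rfl⟩)
      exact this
    have haC : a ∈ Subgroup.centralizer ({z} : Set G) :=
      Subgroup.mem_centralizer_singleton_iff.mpr haz
    have haQ : (⟨a, haC⟩ : Subgroup.centralizer ({z} : Set G)) ∈ Q := by
      rw [← hF]
      apply Cfsg.Agent.Lib.Helper22.centralizer_generalizedFitting_le
      rw [Subgroup.mem_centralizer_iff]
      intro b hb
      rw [hF] at hb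
      apply Subtype.ext
      exact (ha b (mem_Q1.mpr ⟨⟨b, hb⟩, rfl⟩)).symm
    have hac : (⟨⟨a, haC⟩, haQ⟩ : Q) ∈ Subgroup.center Q := by
      rw [Subgroup.mem_center_iff]
      intro b
      apply Subtype.ext
      apply Subtype.ext
      exact (ha b.1 (mem_Q1.mpr ⟨b, rfl⟩)).symm
    rcases hE.all _ hac with h | h
    · left
      exact congrArg (fun q : Q => ((q : Subgroup.centralizer ({z} : Set G)) : G)) h
    · right
      exact congrArg (fun q : Q => ((q : Subgroup.centralizer ({z} : Set G)) : G)) h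

end setup


/-! ### pairs -/

section pairs

variable {G : Type*} [Group G] [Finite G]

omit [Group G] [Finite G] in
theorem ncard_four (a b c d : G) : ({a, b, c, d} : Set G).ncard ≤ 4 := by
  calc ({a, b, c, d} : Set G).ncard ≤ ({b, c, d} : Set G).ncard + 1 := Set.ncard_insert_le _ _
    _ ≤ (({c, d} : Set G).ncard + 1) + 1 := by
        have := Set.ncard_insert_le b ({c, d} : Set G); omega
    _ ≤ ((({d} : Set G).ncard + 1) + 1) + 1 := by
        have := Set.ncard_insert_le c ({d} : Set G); omega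
    _ = 4 := by rw [Set.ncard_singleton]

/-- in a pair with `Q z2` large, `R2 = C_{Q z2}(z1)` is not contained in `Q z1` -/
theorem exists_R2_not_mem {Q : G → Subgroup G} {z1 z2 : G} (P : Pair Q z1 z2)
    (hcard : 8 < Nat.card (Q z2)) : ∃ r ∈ Pair.R2 Q z1 z2, r ∉ Q z1 := by
  by_contra hall
  push Not at hall
  have hR2E : ∀ r ∈ Pair.R2 Q z1 z2, r ∈ Pair.EE Q z1 z2 := fun r hr =>
    Pair.mem_EE.mpr ⟨hall r hr, (Pair.mem_R2.mp hr).1⟩
  have hR2V : ∀ y ∈ Pair.R2 Q z1 z2, y ∈ Pair.VV z1 z2 := by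
    intro y hy
    have h1 : y ∈ Pair.VV z2 z1 := by
      apply P.symm.cent_R1_le_VV
      intro r hr
      have hr2 : r ∈ Pair.R2 Q z1 z2 := Pair.mem_R2.mpr (Pair.mem_R1.mp hr)
      exact P.EE_comm (hR2E y hy) (hR2E r hr2)
    rwa [Pair.VV_symm] at h1
  obtain ⟨q1, hq1, hq1z, -⟩ := P.symm.exists_q1
  have hsub : ((Q z2 : Subgroup G) : Set G) ⊆
      ((Pair.VV z1 z2 : Subgroup G) : Set G) ∪ (fun v => q1 * v) '' ((Pair.VV z1 z2 : Subgroup G) : Set G) := by
    intro q hq
    rcases P.symm.Q1_cases hq1 hq1z hq with h | h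
    · left
      exact hR2V q (Pair.mem_R2.mpr (Pair.mem_R1.mp h))
    · right
      exact ⟨q1⁻¹ * q, hR2V _ (Pair.mem_R2.mpr (Pair.mem_R1.mp h)), by group⟩
  have hV4 : ((Pair.VV z1 z2 : Subgroup G) : Set G).ncard ≤ 4 := by
    have hsub2 : ((Pair.VV z1 z2 : Subgroup G) : Set G) ⊆ ({1, z1, z2, z1 * z2} : Set G) := by
      intro v hv
      rcases P.mem_VV.mp hv with h | h | h | h <;> simp [h]
    exact le_trans (Set.ncard_le_ncard hsub2 (Set.toFinite _)) (ncard_four _ _ _ _)
  have h8 : ((Q z2 : Subgroup G) : Set G).ncard ≤ 8 := by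
    calc ((Q z2 : Subgroup G) : Set G).ncard ≤ _ := Set.ncard_le_ncard hsub (Set.toFinite _)
      _ ≤ _ := Set.ncard_union_le _ _
      _ ≤ 4 + 4 := by
          have := Set.ncard_image_le (f := fun v => q1 * v)
            (s := ((Pair.VV z1 z2 : Subgroup G) : Set G)) (Set.toFinite _)
          omega
  have : Nat.card (Q z2) = ((Q z2 : Subgroup G) : Set G).ncard :=
    Nat.card_coe_set_eq _
  omega

end pairs


/-! ### the main argument -/

section main

set_option linter.unusedSectionVars false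

variable {G : Type*} [Group G] [Finite G] {z : G}
  {Q : Subgroup (Subgroup.centralizer ({z} : Set G))} [hQn : Q.Normal]

theorem fam_fam : Fam (famOf (Q1 Q) z) :=
  famOf_fam (Q1 Q) z cent_le_normalizer (fun _ hq => Q1_comm_z hq)

theorem fam_self : famOf (Q1 Q) z z = Q1 Q := famOf_self (Q1 Q) z cent_le_normalizer

theorem pair_of_conj (hz : orderOf z = 2)
    (hF : generalizedFittingSubgroup (Subgroup.centralizer ({z} : Set G)) = Q)
    (hX : IsExtraspecial 2 Q) (s : G) (hs : s ∈ Q1 Q) (hne : s ≠ z) (g : G)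
    (hg : g * z * g⁻¹ = s) : Pair (famOf (Q1 Q) z) z s := by
  have hfam : Fam (famOf (Q1 Q) z) := fam_fam
  have h1 := le_z hz hF hX
  have h2 : LE (famOf (Q1 Q) z) s := by rw [← hg]; exact h1.conj hfam g
  have m21 : s ∈ famOf (Q1 Q) z z := by rw [fam_self]; exact hs
  have hcard : Nat.card (famOf (Q1 Q) z s) ≤ Nat.card (famOf (Q1 Q) z z) := by
    rw [← hg, card_Q_conj hfam]
  exact ⟨hfam, h1, h2, m21, h1.symm_mem hfam h2 hcard m21, hne.symm⟩

/-- the lifts to the stabiliser of `v` of the images in `Co1` of the elements of `R` -/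
def PP (e : (Subgroup.centralizer ({z} : Set G)) ⧸ Q ≃* Spor.Co1) (v : leechLattice)
    (R : Subgroup G) : Subgroup Co0 where
  carrier := {γ | γ • v = v ∧ ∃ r : Subgroup.centralizer ({z} : Set G), (r : G) ∈ R ∧
    (QuotientGroup.mk γ : Spor.Co1) = e (QuotientGroup.mk r)}
  one_mem' := ⟨one_smul _ _, 1, R.one_mem, by simp⟩
  mul_mem' := by
    rintro a b ⟨ha, ra, hra, hea⟩ ⟨hb, rb, hrb, heb⟩
    refine ⟨by rw [mul_smul, hb, ha], ra * rb, R.mul_mem hra hrb, ?_⟩
    rw [QuotientGroup.mk_mul, QuotientGroup.mk_mul, map_mul, hea, heb]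
  inv_mem' := by
    rintro a ⟨ha, ra, hra, hea⟩
    refine ⟨by rw [inv_smul_eq_iff, ha], ra⁻¹, R.inv_mem hra, ?_⟩
    rw [QuotientGroup.mk_inv, QuotientGroup.mk_inv, map_inv, hea]

theorem mem_PP {e : (Subgroup.centralizer ({z} : Set G)) ⧸ Q ≃* Spor.Co1} {v : leechLattice}
    {R : Subgroup G} {γ : Co0} : γ ∈ PP e v R ↔ γ • v = v ∧
      ∃ r : Subgroup.centralizer ({z} : Set G), (r : G) ∈ R ∧
        (QuotientGroup.mk γ : Spor.Co1) = e (QuotientGroup.mk r) := Iff.rfl

theorem pow_smul_fix (γ : Co0) (v : leechLattice) (h : γ • v = v) (n : ℕ) : γ ^ n • v = v := by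
  induction n with
  | zero => simp
  | succ n ih => rw [pow_succ, mul_smul, h, ih]

/-- **Exclusion of type 2**: a conjugate of `z` in `Q` other than `z` does not map to a minimal
vector. -/
theorem not_type2 (hS : IsExtraspecialCentralizerSetting z Q 12)
    (e : (Subgroup.centralizer ({z} : Set G)) ⧸ Q ≃* Spor.Co1)
    (ψ : leechLattice → Q ⧸ Subgroup.center Q) (hψ : IsLeechModTwoIso Q e ψ) (x : Q) (g : G)
    (hg : g * z * g⁻¹ = ((x : Subgroup.centralizer ({z} : Set G)) : G))
    (hne : ((x : Subgroup.centralizer ({z} : Set G)) : G) ≠ z) (v : leechLattice)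
    (hv : sqNorm (v : Vec) = 32) (hxv : ψ v = QuotientGroup.mk x) : False := by
  obtain ⟨hz, hF, hX, hcard, -⟩ := hS
  obtain ⟨hadd, hsurj, hker, hequiv⟩ := hψ
  have hsQ1 : ((x : Subgroup.centralizer ({z} : Set G)) : G) ∈ Q1 Q := mem_Q1.mpr ⟨x, rfl⟩
  have P := pair_of_conj hz hF hX _ hsQ1 hne g hg
  have hfam : Fam (famOf (Q1 Q) z) := fam_fam
  have hzQ := z_mem_Q hF
  have hE := isE2_Q hz hX hzQ
  have hzz : z * z = 1 := P.le1.sq
  -- the order of `Q s`
  have hc2 : Nat.card (famOf (Q1 Q) z ((x : Subgroup.centralizer ({z} : Set G)) : G)) = 2 ^ 25 := by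
    rw [← hg, card_Q_conj hfam, fam_self]
    unfold Q1
    rw [Subgroup.card_map_of_injective (Subgroup.subtype_injective _), hcard]
  obtain ⟨r, hrR, hrQ⟩ := exists_R2_not_mem P (by rw [hc2]; norm_num)
  rw [fam_self] at hrQ
  -- the subgroup
  have hPv : ∀ a ∈ PP e v (Pair.R2 (famOf (Q1 Q) z) z
      ((x : Subgroup.centralizer ({z} : Set G)) : G)), a • v = v := fun a ha => ha.1
  have hP2 : IsPGroup 2 (PP e v (Pair.R2 (famOf (Q1 Q) z) z
      ((x : Subgroup.centralizer ({z} : Set G)) : G))) := by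
    rintro ⟨γ, hγv, rr, hrr, hγe⟩
    refine ⟨2, Subtype.ext ?_⟩
    show γ ^ 2 ^ 2 = 1
    apply central_fix _ ?_ v hv (pow_smul_fix γ v hγv _)
    rw [← QuotientGroup.eq_one_iff, QuotientGroup.mk_pow, hγe, ← map_pow, ← QuotientGroup.mk_pow]
    have h4 : rr ^ 2 ^ 2 = 1 := by
      apply Subtype.ext
      rw [Subgroup.coe_pow]
      exact Pair.pow_four_of_mem P.le2 (Pair.mem_R2.mp hrr).1
    rw [h4]; simp
  have hPn : ∀ κ : Co0, κ • v = v → ∀ a ∈ PP e v (Pair.R2 (famOf (Q1 Q) z) z
      ((x : Subgroup.centralizer ({z} : Set G)) : G)), κ * a * κ⁻¹ ∈ PP e v (Pair.R2 (famOf (Q1 Q) z) z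
      ((x : Subgroup.centralizer ({z} : Set G)) : G)) := by
    rintro κ hκ a ⟨hav, ra, hra, hea⟩
    obtain ⟨hc, hhc⟩ := e.surjective (QuotientGroup.mk κ)
    obtain ⟨h, rfl⟩ := QuotientGroup.mk_surjective hc
    have h1 := hequiv h κ hhc.symm v x hxv
    rw [hκ, hxv] at h1
    have h2 := QuotientGroup.eq.mp h1
    -- a good preimage of `κ`
    obtain ⟨h', hh's, hh'e⟩ : ∃ h' : Subgroup.centralizer ({z} : Set G),
        (h' : G) * ((x : Subgroup.centralizer ({z} : Set G)) : G) * (h' : G)⁻¹ =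
          ((x : Subgroup.centralizer ({z} : Set G)) : G) ∧
        e (QuotientGroup.mk h') = QuotientGroup.mk κ := by
      rcases hE.all _ h2 with h3 | h3
      · refine ⟨h, ?_, hhc⟩
        have h4 := congrArg (fun q : Q => ((q : Subgroup.centralizer ({z} : Set G)) : G)) h3
        simp only [Subgroup.coe_mul, Subgroup.coe_inv, Subgroup.coe_one] at h4
        calc (h : G) * ((x : Subgroup.centralizer ({z} : Set G)) : G) * (h : G)⁻¹
            = ((x : Subgroup.centralizer ({z} : Set G)) : G) *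
              (((x : Subgroup.centralizer ({z} : Set G)) : G)⁻¹ *
                ((h : G) * ((x : Subgroup.centralizer ({z} : Set G)) : G) * (h : G)⁻¹)) := by group
          _ = ((x : Subgroup.centralizer ({z} : Set G)) : G) := by rw [h4, mul_one]
      · have h4 := congrArg (fun q : Q => ((q : Subgroup.centralizer ({z} : Set G)) : G)) h3
        simp only [Subgroup.coe_mul, Subgroup.coe_inv] at h4
        obtain ⟨q1, hq1, hq1s, hq1z⟩ := P.exists_q1
        rw [fam_self] at hq1
        obtain ⟨qq, rfl⟩ := mem_Q1.mp hq1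
        refine ⟨(qq : Subgroup.centralizer ({z} : Set G)) * h, ?_, ?_⟩
        · have h5 : (h : G) * ((x : Subgroup.centralizer ({z} : Set G)) : G) * (h : G)⁻¹ =
              ((x : Subgroup.centralizer ({z} : Set G)) : G) * z := by
            calc (h : G) * ((x : Subgroup.centralizer ({z} : Set G)) : G) * (h : G)⁻¹
                = ((x : Subgroup.centralizer ({z} : Set G)) : G) *
                  (((x : Subgroup.centralizer ({z} : Set G)) : G)⁻¹ *
                    ((h : G) * ((x : Subgroup.centralizer ({z} : Set G)) : G) * (h : G)⁻¹)) := by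
                  group
              _ = ((x : Subgroup.centralizer ({z} : Set G)) : G) * z := by rw [h4]
          have hzi : z⁻¹ = z := inv_eq_of_mul_eq_one_right hzz
          have hq1z' : ((qq : Subgroup.centralizer ({z} : Set G)) : G) * z *
              ((qq : Subgroup.centralizer ({z} : Set G)) : G)⁻¹ = z := by
            rw [hq1z]; group
          calc (((qq : Subgroup.centralizer ({z} : Set G)) * h :
                Subgroup.centralizer ({z} : Set G)) : G) *
                ((x : Subgroup.centralizer ({z} : Set G)) : G) *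
                (((qq : Subgroup.centralizer ({z} : Set G)) * h :
                  Subgroup.centralizer ({z} : Set G)) : G)⁻¹
              = ((qq : Subgroup.centralizer ({z} : Set G)) : G) *
                ((h : G) * ((x : Subgroup.centralizer ({z} : Set G)) : G) * (h : G)⁻¹) *
                ((qq : Subgroup.centralizer ({z} : Set G)) : G)⁻¹ := by
                rw [Subgroup.coe_mul]; group
            _ = (((qq : Subgroup.centralizer ({z} : Set G)) : G) *
                  ((x : Subgroup.centralizer ({z} : Set G)) : G) *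
                  ((qq : Subgroup.centralizer ({z} : Set G)) : G)⁻¹) *
                (((qq : Subgroup.centralizer ({z} : Set G)) : G) * z *
                  ((qq : Subgroup.centralizer ({z} : Set G)) : G)⁻¹) := by rw [h5]; group
            _ = z * ((x : Subgroup.centralizer ({z} : Set G)) : G) * z := by rw [hq1s, hq1z']
            _ = ((x : Subgroup.centralizer ({z} : Set G)) : G) := by
                rw [P.comm12, mul_assoc, hzz, mul_one]
        · rw [QuotientGroup.mk_mul, map_mul, hhc]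
          have : (QuotientGroup.mk (qq : Subgroup.centralizer ({z} : Set G)) :
              (Subgroup.centralizer ({z} : Set G)) ⧸ Q) = 1 :=
            (QuotientGroup.eq_one_iff _).mpr qq.2
          rw [this, map_one, one_mul]
    refine ⟨?_, h' * ra * h'⁻¹, ?_, ?_⟩
    · rw [mul_smul, mul_smul, inv_smul_eq_iff.mpr hκ.symm, hav, hκ]
    · rw [Pair.mem_R2] at hra ⊢
      have hcs : (h' : G) * ((x : Subgroup.centralizer ({z} : Set G)) : G) =
          ((x : Subgroup.centralizer ({z} : Set G)) : G) * (h' : G) := by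
        calc (h' : G) * ((x : Subgroup.centralizer ({z} : Set G)) : G)
            = ((h' : G) * ((x : Subgroup.centralizer ({z} : Set G)) : G) * (h' : G)⁻¹) * (h' : G) := by
              group
          _ = _ := by rw [hh's]
      refine ⟨?_, ?_⟩
      · have := Q_normal hfam hcs hra.1
        simpa using this
      · exact comm_z_of_mem_cent _
    · rw [QuotientGroup.mk_mul, QuotientGroup.mk_mul, QuotientGroup.mk_inv, hea, ← hh'e,
        QuotientGroup.mk_mul, QuotientGroup.mk_mul, QuotientGroup.mk_inv, map_mul, map_mul,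
        map_inv]
  have hbot := no_normal_two v hv _ hP2 hPv hPn
  -- a nontrivial element
  have hrz : r * z = z * r := (Pair.mem_R2.mp hrR).2
  have hrs : r * ((x : Subgroup.centralizer ({z} : Set G)) : G) =
      ((x : Subgroup.centralizer ({z} : Set G)) : G) * r := Q_comm hfam (Pair.mem_R2.mp hrR).1
  have hrC : r ∈ Subgroup.centralizer ({z} : Set G) :=
    Subgroup.mem_centralizer_singleton_iff.mpr hrz
  have hrnQ : (⟨r, hrC⟩ : Subgroup.centralizer ({z} : Set G)) ∉ Q := fun h =>
    hrQ (mem_Q1.mpr ⟨⟨⟨r, hrC⟩, h⟩, rfl⟩)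
  obtain ⟨γ, hγ⟩ := QuotientGroup.mk_surjective (e (QuotientGroup.mk (⟨r, hrC⟩ :
    Subgroup.centralizer ({z} : Set G))))
  have hγ1 : (QuotientGroup.mk γ : Spor.Co1) ≠ 1 := by
    rw [hγ]
    intro h
    have h1 : (QuotientGroup.mk (⟨r, hrC⟩ : Subgroup.centralizer ({z} : Set G)) :
        (Subgroup.centralizer ({z} : Set G)) ⧸ Q) = 1 := by
      apply e.injective
      rw [h, map_one]
    exact hrnQ ((QuotientGroup.eq_one_iff _).mp h1)
  have h1 := hequiv ⟨r, hrC⟩ γ hγ v x hxv
  have h2 : (⟨(⟨r, hrC⟩ : Subgroup.centralizer ({z} : Set G)) * x *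
      (⟨r, hrC⟩ : Subgroup.centralizer ({z} : Set G))⁻¹,
      (inferInstance : Q.Normal).conj_mem (x : Subgroup.centralizer ({z} : Set G)) x.2 ⟨r, hrC⟩⟩ : Q) = x := by
    apply Subtype.ext
    apply Subtype.ext
    show r * ((x : Subgroup.centralizer ({z} : Set G)) : G) * r⁻¹ = _
    rw [hrs]; group
  rw [h2, ← hxv] at h1
  have h3 : ψ (γ • v + v) = 1 := by
    rw [hadd, h1]
    exact Cfsg.Agent.Lib.Helper4.MP.psi_sq ψ hadd hker v
  obtain ⟨w, hw⟩ := (hker _).mp h3
  have hγn : sqNorm ((γ • v : leechLattice) : Vec) = 32 := by rw [co0_norm]; exact hv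
  have key : ∀ γ' : Co0, γ' • v = v → (QuotientGroup.mk γ' : Spor.Co1) = QuotientGroup.mk γ →
      False := by
    intro γ' h4 h5
    have hmem : γ' ∈ PP e v (Pair.R2 (famOf (Q1 Q) z) z
        ((x : Subgroup.centralizer ({z} : Set G)) : G)) :=
      ⟨h4, ⟨r, hrC⟩, hrR, by rw [h5, hγ]⟩
    rw [hbot, Subgroup.mem_bot] at hmem
    rw [hmem] at h5
    exact hγ1 h5.symm
  rcases pm_of_cong v (γ • v) w hv hγn hw with h4 | h4
  · exact key γ h4 rfl
  · refine key (negCo0 * γ) ?_ ?_
    · rw [mul_smul, h4, negCo0_smul, neg_neg]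
    · rw [QuotientGroup.mk_mul, (QuotientGroup.eq_one_iff _).mpr negCo0_center, one_mul]

end main


/-! ### the two directions -/

section final

set_option linter.unusedSectionVars false

variable {G : Type*} [Group G] [Finite G] {z : G}
  {Q : Subgroup (Subgroup.centralizer ({z} : Set G))} [hQn : Q.Normal]

theorem hconj_of (e : (Subgroup.centralizer ({z} : Set G)) ⧸ Q ≃* Spor.Co1)
    (ψ : leechLattice → Q ⧸ Subgroup.center Q)
    (hequiv : ∀ (h : Subgroup.centralizer ({z} : Set G)) (g : Co0),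
      (QuotientGroup.mk g : Spor.Co1) = e (QuotientGroup.mk h) →
      ∀ (v : leechLattice) (q : Q), ψ v = QuotientGroup.mk q →
        ψ (g • v) = QuotientGroup.mk ⟨h * q * h⁻¹,
          (inferInstance : Q.Normal).conj_mem (q : Subgroup.centralizer ({z} : Set G)) q.2 h⟩) :
    ∀ (g : Co0) (v : leechLattice), ∃ x y : Q, ψ v = QuotientGroup.mk x ∧
      ψ (g • v) = QuotientGroup.mk y ∧ (y * y = 1 ↔ x * x = 1) := by
  intro g v
  obtain ⟨hc, hhc⟩ := e.surjective (QuotientGroup.mk g)
  obtain ⟨h, rfl⟩ := QuotientGroup.mk_surjective hc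
  refine ⟨(ψ v).out, ⟨h * ((ψ v).out : Q) * h⁻¹,
    (inferInstance : Q.Normal).conj_mem _ (ψ v).out.2 h⟩, (QuotientGroup.out_eq' _).symm,
    hequiv h g hhc.symm v (ψ v).out (QuotientGroup.out_eq' _).symm, ?_⟩
  constructor
  · intro h1
    have h2 := congrArg Subtype.val h1
    apply Subtype.ext
    simp only [Subgroup.coe_mul, Subgroup.coe_one] at h2 ⊢
    have h3 : h * (((ψ v).out : Q) : Subgroup.centralizer ({z} : Set G)) * h⁻¹ *
        (h * (((ψ v).out : Q) : Subgroup.centralizer ({z} : Set G)) * h⁻¹) =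
        h * ((((ψ v).out : Q) : Subgroup.centralizer ({z} : Set G)) *
          (((ψ v).out : Q) : Subgroup.centralizer ({z} : Set G))) * h⁻¹ := by group
    rw [h3] at h2
    have h4 : h⁻¹ * (h * ((((ψ v).out : Q) : Subgroup.centralizer ({z} : Set G)) *
          (((ψ v).out : Q) : Subgroup.centralizer ({z} : Set G))) * h⁻¹) * h = h⁻¹ * 1 * h := by
      rw [h2]
    have h5 : h⁻¹ * (h * ((((ψ v).out : Q) : Subgroup.centralizer ({z} : Set G)) *
          (((ψ v).out : Q) : Subgroup.centralizer ({z} : Set G))) * h⁻¹) * h =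
        (((ψ v).out : Q) : Subgroup.centralizer ({z} : Set G)) *
          (((ψ v).out : Q) : Subgroup.centralizer ({z} : Set G)) := by group
    rw [h5] at h4
    rw [h4]; group
  · intro h1
    have h2 := congrArg Subtype.val h1
    apply Subtype.ext
    simp only [Subgroup.coe_mul, Subgroup.coe_one] at h2 ⊢
    have h3 : h * (((ψ v).out : Q) : Subgroup.centralizer ({z} : Set G)) * h⁻¹ *
        (h * (((ψ v).out : Q) : Subgroup.centralizer ({z} : Set G)) * h⁻¹) =
        h * ((((ψ v).out : Q) : Subgroup.centralizer ({z} : Set G)) *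
          (((ψ v).out : Q) : Subgroup.centralizer ({z} : Set G))) * h⁻¹ := by group
    rw [h3, h2]; group

/-- a conjugate of `z` in `Q` other than `z` maps to a vector of type 4 -/
theorem fwd (hS : IsExtraspecialCentralizerSetting z Q 12)
    (e : (Subgroup.centralizer ({z} : Set G)) ⧸ Q ≃* Spor.Co1)
    (ψ : leechLattice → Q ⧸ Subgroup.center Q) (hψ : IsLeechModTwoIso Q e ψ) (x : Q) (g : G)
    (hg : g * z * g⁻¹ = ((x : Subgroup.centralizer ({z} : Set G)) : G))
    (hne : ((x : Subgroup.centralizer ({z} : Set G)) : G) ≠ z) :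
    ∃ v : leechLattice, sqNorm (v : Vec) = 64 ∧ ψ v = QuotientGroup.mk x := by
  have hS' := hS
  have hψ' := hψ
  obtain ⟨hz, hF, hX, hcard, -⟩ := hS
  obtain ⟨hadd, hsurj, hker, hequiv⟩ := hψ
  have hzQ := z_mem_Q hF
  have hE := isE2_Q hz hX hzQ
  have hz1 : z ≠ 1 := by
    intro h; rw [h, orderOf_one] at hz; omega
  have hzz : z * z = 1 := by
    have := pow_orderOf_eq_one z
    rwa [hz, pow_two] at this
  obtain ⟨v0, hv0⟩ := hsurj (QuotientGroup.mk x)
  obtain ⟨y, hy, hy64, w, hw, hyw⟩ := Cfsg.Agent.S1570.result (v0 : Vec) v0.2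
  have hψy : ψ ⟨y, hy⟩ = QuotientGroup.mk x := by
    have e1 : v0 = ⟨y, hy⟩ + (⟨w, hw⟩ + ⟨w, hw⟩) := by
      apply Subtype.ext
      show (v0 : Vec) = y + (w + w)
      have : (v0 : Vec) = y + 2 • w := by rw [← hyw]; abel
      rw [this, two_smul]
    rw [← hv0, e1, hadd, (hker (⟨w, hw⟩ + ⟨w, hw⟩)).mpr ⟨⟨w, hw⟩, rfl⟩, mul_one]
  obtain ⟨k, hk⟩ := Cfsg.Agent.S0392.result y hy
  have hnn : 0 ≤ sqNorm y := by
    unfold sqNorm
    exact Finset.sum_nonneg fun i _ => sq_nonneg _
  have hcard' : Nat.card Q = 2 ^ 25 := by rw [hcard]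
  have hna : ∃ a b : Q, a * b ≠ b * a := hE.not_comm_of_card (by rw [hcard']; norm_num)
  have hxx : x * x = 1 := by
    apply Subtype.ext
    apply Subtype.ext
    show ((x : Subgroup.centralizer ({z} : Set G)) : G) * ((x : Subgroup.centralizer ({z} : Set G)) : G) = 1
    rw [← hg]
    calc g * z * g⁻¹ * (g * z * g⁻¹) = g * (z * z) * g⁻¹ := by group
      _ = 1 := by rw [hzz]; group
  have hk5 : k = 0 ∨ k = 1 ∨ k = 2 ∨ k = 3 ∨ k = 4 := by omega
  rcases hk5 with rfl | rfl | rfl | rfl | rfl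
  · -- the zero vector
    exfalso
    have hy0 : y = 0 := sqNorm_eq_zero (by rw [hk]; norm_num)
    have h1 : ψ ⟨y, hy⟩ = 1 := by
      have : (⟨y, hy⟩ : leechLattice) = 0 := Subtype.ext hy0
      rw [this]
      exact Cfsg.Agent.Lib.Helper4.MP.psi_zero ψ hadd hker
    rw [hψy] at h1
    have h2 := (QuotientGroup.eq_one_iff _).mp h1
    rcases hE.all _ h2 with h3 | h3
    · have h4 : ((x : Subgroup.centralizer ({z} : Set G)) : G) = 1 :=
        congrArg (fun q : Q => ((q : Subgroup.centralizer ({z} : Set G)) : G)) h3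
      rw [h4] at hg
      apply hz1
      calc z = g⁻¹ * (g * z * g⁻¹) * g := by group
        _ = 1 := by rw [hg]; group
    · exact hne (congrArg (fun q : Q => ((q : Subgroup.centralizer ({z} : Set G)) : G)) h3)
  · exfalso
    have hy0 : y ≠ 0 := by
      intro h
      rw [h] at hk
      have : sqNorm (0 : Vec) = 0 := by
        unfold sqNorm
        exact Finset.sum_eq_zero fun i _ => by simp
      rw [this] at hk
      norm_num at hk
    have := Cfsg.Agent.Lib.Helper93.Leech.sqNorm_ge_of_mem_leechLattice hy hy0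
    omega
  · exfalso
    exact not_type2 hS' e ψ hψ' x g hg hne ⟨y, hy⟩ (by rw [hk]; norm_num) hψy
  · exfalso
    have h1 := Cfsg.Agent.Lib.Helper4.MP.qf_formula hE ψ hadd hsurj hker (hconj_of e ψ hequiv) hna
      ⟨y, hy⟩
    rw [Cfsg.Agent.Lib.Helper4.MP.qf_of_lift hE ψ hψy, Cfsg.Agent.Lib.Helper4.EQ.sq_of x hxx] at h1
    have h2 : sqNorm ((⟨y, hy⟩ : leechLattice) : Vec) = 48 := by
      show sqNorm y = 48
      rw [hk]; norm_num
    rw [h2] at h1
    revert h1
    decide
  · exact ⟨⟨y, hy⟩, by show sqNorm y = 64; rw [hk]; norm_num, hψy⟩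


/-- an element of `Q` mapping to a vector of type 4 is a conjugate of `z` other than `z` -/
theorem bwd (hS : IsExtraspecialCentralizerSetting z Q 12)
    (e : (Subgroup.centralizer ({z} : Set G)) ⧸ Q ≃* Spor.Co1)
    (ψ : leechLattice → Q ⧸ Subgroup.center Q) (hψ : IsLeechModTwoIso Q e ψ) (x : Q)
    (v : leechLattice) (hv : sqNorm (v : Vec) = 64) (hxv : ψ v = QuotientGroup.mk x) :
    IsConj z ((x : Subgroup.centralizer ({z} : Set G)) : G) ∧
      ((x : Subgroup.centralizer ({z} : Set G)) : G) ≠ z := by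
  have hS' := hS
  have hψ' := hψ
  obtain ⟨hz, hF, hX, hcard, g0, ⟨hq0, hq0Q⟩, hg0ne⟩ := hS
  obtain ⟨hadd, hsurj, hker, hequiv⟩ := hψ
  have hzQ := z_mem_Q hF
  have hE := isE2_Q hz hX hzQ
  have hzz : z * z = 1 := by
    have := pow_orderOf_eq_one z
    rwa [hz, pow_two] at this
  have hfam : Fam (famOf (Q1 Q) z) := fam_fam
  -- the given conjugate
  obtain ⟨vs, hvs, hψs⟩ := fwd hS' e ψ hψ' ⟨⟨g0 * z * g0⁻¹, hq0⟩, hq0Q⟩ g0 rfl hg0ne
  obtain ⟨γ, hγ⟩ := trans8 vs v hvs hv
  obtain ⟨hc, hhc⟩ := e.surjective (QuotientGroup.mk γ)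
  obtain ⟨h, rfl⟩ := QuotientGroup.mk_surjective hc
  have h1 := hequiv h γ hhc.symm vs ⟨⟨g0 * z * g0⁻¹, hq0⟩, hq0Q⟩ hψs
  rw [hγ, hxv] at h1
  have h2 := QuotientGroup.eq.mp h1
  -- the conjugate `s' = h s h⁻¹`
  have hs' : (h : G) * (g0 * z * g0⁻¹) * (h : G)⁻¹ = ((h : G) * g0) * z * ((h : G) * g0)⁻¹ := by
    group
  constructor
  · rcases hE.all _ h2 with h3 | h3
    · have h4 := congrArg (fun q : Q => ((q : Subgroup.centralizer ({z} : Set G)) : G)) h3
      simp only [Subgroup.coe_mul, Subgroup.coe_inv, Subgroup.coe_one] at h4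
      rw [isConj_iff]
      refine ⟨(h : G) * g0, ?_⟩
      rw [← hs']
      have := inv_mul_eq_one.mp h4
      exact this.symm
    · have h4 := congrArg (fun q : Q => ((q : Subgroup.centralizer ({z} : Set G)) : G)) h3
      simp only [Subgroup.coe_mul, Subgroup.coe_inv] at h4
      -- `h s h⁻¹ = x z`
      have h5 : (h : G) * (g0 * z * g0⁻¹) * (h : G)⁻¹ =
          ((x : Subgroup.centralizer ({z} : Set G)) : G) * z := by
        calc (h : G) * (g0 * z * g0⁻¹) * (h : G)⁻¹
            = ((x : Subgroup.centralizer ({z} : Set G)) : G) *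
              (((x : Subgroup.centralizer ({z} : Set G)) : G)⁻¹ *
                ((h : G) * (g0 * z * g0⁻¹) * (h : G)⁻¹)) := by group
          _ = _ := by rw [h4]
      -- the pair `(z, s')`
      have hs'Q : (h : G) * (g0 * z * g0⁻¹) * (h : G)⁻¹ ∈ Q1 Q :=
        mem_Q1.mpr ⟨⟨h * ⟨g0 * z * g0⁻¹, hq0⟩ * h⁻¹, hQn.conj_mem _ hq0Q h⟩, rfl⟩
      have hs'ne : (h : G) * (g0 * z * g0⁻¹) * (h : G)⁻¹ ≠ z := by
        intro h6
        apply hg0ne
        have hhz := comm_z_of_mem_cent h
        calc g0 * z * g0⁻¹ = (h : G)⁻¹ * ((h : G) * (g0 * z * g0⁻¹) * (h : G)⁻¹) * (h : G) := by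
              group
          _ = (h : G)⁻¹ * z * (h : G) := by rw [h6]
          _ = (h : G)⁻¹ * (z * (h : G)) := by group
          _ = (h : G)⁻¹ * ((h : G) * z) := by rw [hhz]
          _ = z := by group
      have P := pair_of_conj hz hF hX _ hs'Q hs'ne ((h : G) * g0) hs'.symm
      obtain ⟨q1, -, hq1s, -⟩ := P.exists_q1
      rw [isConj_iff]
      refine ⟨q1 * ((h : G) * g0), ?_⟩
      have hx : ((x : Subgroup.centralizer ({z} : Set G)) : G) =
          z * ((h : G) * (g0 * z * g0⁻¹) * (h : G)⁻¹) := by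
        rw [h5, comm_z_of_mem_cent (x : Subgroup.centralizer ({z} : Set G)), ← mul_assoc, hzz,
          one_mul]
      rw [hx, ← hq1s, hs']
      group
  · intro hxz
    have hx0 : x = ⟨⟨z, z_mem_cent z⟩, hzQ⟩ := Subtype.ext (Subtype.ext hxz)
    have h3 : ψ v = 1 := by
      rw [hxv, hx0]
      exact (QuotientGroup.eq_one_iff _).mpr hE.mem
    obtain ⟨w, hw⟩ := (hker v).mp h3
    have h4 : sqNorm ((w : Vec) + (w : Vec)) = 4 * sqNorm (w : Vec) := by
      rw [Cfsg.Agent.S0393.sqNorm_add, ← sqNorm_eq_dot]; ring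
    have h5 : (v : Vec) = (w : Vec) + (w : Vec) := by
      have := congrArg (fun u : leechLattice => (u : Vec)) hw
      simpa using this
    rw [h5, h4] at hv
    have hw0 : (w : Vec) ≠ 0 := by
      intro h
      rw [h] at hv
      have : sqNorm (0 : Vec) = 0 := by
        unfold sqNorm
        exact Finset.sum_eq_zero fun i _ => by simp
      rw [this] at hv
      norm_num at hv
    have := Cfsg.Agent.Lib.Helper93.Leech.sqNorm_ge_of_mem_leechLattice w.2 hw0
    omega

end final

end Cfsg.Agent.Lib.Helper4.MC
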