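import Mathlib
import Cfsg.Agent.Lib.Helper4.MonsterConj

set_option autoImplicit false
set_option linter.unusedSectionVars false

/-!
Groups of Monster type: short representatives, and the involutions of `Q` not conjugate to `z`.
-/

namespace Cfsg.Agent.Lib.Helper4.MC

open Cfsg Cfsg.Agent.Lib.Conway Cfsg.Agent.Lib.Helper29 Cfsg.Agent.Lib.Helper4.LXF
open Cfsg.Agent.Lib.Helper4.C2C

section more

variable {G : Type*} [Group G] [Finite G] {z : G}
  {Q : Subgroup (Subgroup.centralizer ({z} : Set G))} [hQn : Q.Normal]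

theorem sqNorm_zero : sqNorm (0 : Vec) = 0 := by
  unfold sqNorm
  exact Finset.sum_eq_zero fun i _ => by simp

/-- every element of `Q` is represented by a vector of type 0, 2, 3 or 4 -/
theorem exists_rep (ψ : leechLattice → Q ⧸ Subgroup.center Q)
    (hadd : ∀ v w : leechLattice, ψ (v + w) = ψ v * ψ w) (hsurj : Function.Surjective ψ)
    (hker : ∀ v : leechLattice, ψ v = 1 ↔ ∃ w : leechLattice, v = w + w) (x : Q) :
    ∃ v : leechLattice, ψ v = QuotientGroup.mk x ∧ ((v : Vec) = 0 ∨ sqNorm (v : Vec) = 32 ∨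
      sqNorm (v : Vec) = 48 ∨ sqNorm (v : Vec) = 64) := by
  obtain ⟨v0, hv0⟩ := hsurj (QuotientGroup.mk x)
  obtain ⟨y, hy, hy64, w, hw, hyw⟩ := Cfsg.Agent.S1570.result (v0 : Vec) v0.2
  have hψy : ψ ⟨y, hy⟩ = QuotientGroup.mk x := by
    have e1 : v0 = ⟨y, hy⟩ + (⟨w, hw⟩ + ⟨w, hw⟩) := by
      apply Subtype.ext
      show (v0 : Vec) = y + (w + w)
      have : (v0 : Vec) = y + 2 • w := by rw [← hyw]; abel
      rw [this, two_smul]
    rw [← hv0, e1, hadd, (hker (⟨w, hw⟩ + ⟨w, hw⟩)).mpr ⟨⟨w, hw⟩, rfl⟩, mul_one]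
  obtain ⟨k, hk⟩ := Cfsg.Agent.S0392.result y hy
  have hnn : 0 ≤ sqNorm y := by
    unfold sqNorm
    exact Finset.sum_nonneg fun i _ => sq_nonneg _
  refine ⟨⟨y, hy⟩, hψy, ?_⟩
  show y = 0 ∨ sqNorm y = 32 ∨ sqNorm y = 48 ∨ sqNorm y = 64
  have hk5 : k = 0 ∨ k = 1 ∨ k = 2 ∨ k = 3 ∨ k = 4 := by omega
  rcases hk5 with rfl | rfl | rfl | rfl | rfl
  · left
    exact sqNorm_eq_zero (by rw [hk]; norm_num)
  · exfalso
    have hy0 : y ≠ 0 := by
      intro h
      rw [h, sqNorm_zero] at hk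
      norm_num at hk
    have := Cfsg.Agent.Lib.Helper93.Leech.sqNorm_ge_of_mem_leechLattice hy hy0
    omega
  · right; left; rw [hk]; norm_num
  · right; right; left; rw [hk]; norm_num
  · right; right; right; rw [hk]; norm_num

/-- a noncentral involution of `Q` not conjugate to `z` maps to a minimal vector -/
theorem type2_of_not_conj (hS : IsExtraspecialCentralizerSetting z Q 12)
    (e : (Subgroup.centralizer ({z} : Set G)) ⧸ Q ≃* Spor.Co1)
    (ψ : leechLattice → Q ⧸ Subgroup.center Q) (hψ : IsLeechModTwoIso Q e ψ) (x : Q)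
    (hx2 : orderOf ((x : Subgroup.centralizer ({z} : Set G)) : G) = 2)
    (hnc : ¬ IsConj z ((x : Subgroup.centralizer ({z} : Set G)) : G)) :
    ∃ v : leechLattice, sqNorm (v : Vec) = 32 ∧ ψ v = QuotientGroup.mk x := by
  have hS' := hS
  have hψ' := hψ
  obtain ⟨hz, hF, hX, hcard, -⟩ := hS
  obtain ⟨hadd, hsurj, hker, hequiv⟩ := hψ
  have hzQ := z_mem_Q hF
  have hE := isE2_Q hz hX hzQ
  have hcard' : Nat.card Q = 2 ^ 25 := by rw [hcard]
  have hna : ∃ a b : Q, a * b ≠ b * a := hE.not_comm_of_card (by rw [hcard']; norm_num)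
  have hxx : x * x = 1 := by
    apply Subtype.ext
    apply Subtype.ext
    show ((x : Subgroup.centralizer ({z} : Set G)) : G) *
      ((x : Subgroup.centralizer ({z} : Set G)) : G) = 1
    have := pow_orderOf_eq_one ((x : Subgroup.centralizer ({z} : Set G)) : G)
    rwa [hx2, pow_two] at this
  obtain ⟨v, hψv, h0 | h32 | h48 | h64⟩ := exists_rep ψ hadd hsurj hker x
  · exfalso
    have h1 : ψ v = 1 := by
      have : v = 0 := Subtype.ext h0
      rw [this]
      exact Cfsg.Agent.Lib.Helper4.MP.psi_zero ψ hadd hker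
    rw [hψv] at h1
    have h2 := (QuotientGroup.eq_one_iff _).mp h1
    rcases hE.all _ h2 with h3 | h3
    · have h4 : ((x : Subgroup.centralizer ({z} : Set G)) : G) = 1 :=
        congrArg (fun q : Q => ((q : Subgroup.centralizer ({z} : Set G)) : G)) h3
      rw [h4, orderOf_one] at hx2
      omega
    · have h4 : ((x : Subgroup.centralizer ({z} : Set G)) : G) = z :=
        congrArg (fun q : Q => ((q : Subgroup.centralizer ({z} : Set G)) : G)) h3
      rw [h4] at hnc
      exact hnc (IsConj.refl z)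
  · exact ⟨v, h32, hψv⟩
  · exfalso
    have h1 := Cfsg.Agent.Lib.Helper4.MP.qf_formula hE ψ hadd hsurj hker (hconj_of e ψ hequiv) hna v
    rw [Cfsg.Agent.Lib.Helper4.MP.qf_of_lift hE ψ hψv, Cfsg.Agent.Lib.Helper4.EQ.sq_of x hxx,
      h48] at h1
    revert h1
    decide
  · exfalso
    exact hnc (bwd hS' e ψ hψ' x v h64 hψv).1

/-- `C` is transitive on the involutions of `Q` that are not conjugate to `z` -/
theorem trans_nonconj (hS : IsExtraspecialCentralizerSetting z Q 12)
    (e : (Subgroup.centralizer ({z} : Set G)) ⧸ Q ≃* Spor.Co1)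
    (ψ : leechLattice → Q ⧸ Subgroup.center Q) (hψ : IsLeechModTwoIso Q e ψ) (xs xt : Q)
    (hs2 : orderOf ((xs : Subgroup.centralizer ({z} : Set G)) : G) = 2)
    (ht2 : orderOf ((xt : Subgroup.centralizer ({z} : Set G)) : G) = 2)
    (hs : ¬ IsConj z ((xs : Subgroup.centralizer ({z} : Set G)) : G))
    (ht : ¬ IsConj z ((xt : Subgroup.centralizer ({z} : Set G)) : G)) :
    ∃ h ∈ Subgroup.centralizer ({z} : Set G),
      h * ((xs : Subgroup.centralizer ({z} : Set G)) : G) * h⁻¹ =
        ((xt : Subgroup.centralizer ({z} : Set G)) : G) := by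
  have hS' := hS
  have hψ' := hψ
  obtain ⟨hz, hF, hX, hcard, -⟩ := hS
  obtain ⟨hadd, hsurj, hker, hequiv⟩ := hψ
  have hzQ := z_mem_Q hF
  have hE := isE2_Q hz hX hzQ
  have hLE := le_z hz hF hX
  have hzz : z * z = 1 := hLE.sq
  obtain ⟨vs, hvs, hψs⟩ := type2_of_not_conj hS' e ψ hψ' xs hs2 hs
  obtain ⟨vt, hvt, hψt⟩ := type2_of_not_conj hS' e ψ hψ' xt ht2 ht
  obtain ⟨γ, hγ⟩ := trans4 vs vt hvs hvt
  obtain ⟨hc, hhc⟩ := e.surjective (QuotientGroup.mk γ)
  obtain ⟨h, rfl⟩ := QuotientGroup.mk_surjective hc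
  have h1 := hequiv h γ hhc.symm vs xs hψs
  rw [hγ, hψt] at h1
  have h2 := QuotientGroup.eq.mp h1
  rcases hE.all _ h2 with h3 | h3
  · have h4 := congrArg (fun q : Q => ((q : Subgroup.centralizer ({z} : Set G)) : G)) h3
    simp only [Subgroup.coe_mul, Subgroup.coe_inv, Subgroup.coe_one] at h4
    exact ⟨(h : G), h.2, (inv_mul_eq_one.mp h4).symm⟩
  · have h4 := congrArg (fun q : Q => ((q : Subgroup.centralizer ({z} : Set G)) : G)) h3
    simp only [Subgroup.coe_mul, Subgroup.coe_inv] at h4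
    have h5 : (h : G) * ((xs : Subgroup.centralizer ({z} : Set G)) : G) * (h : G)⁻¹ =
        ((xt : Subgroup.centralizer ({z} : Set G)) : G) * z := by
      calc (h : G) * ((xs : Subgroup.centralizer ({z} : Set G)) : G) * (h : G)⁻¹
          = ((xt : Subgroup.centralizer ({z} : Set G)) : G) *
            (((xt : Subgroup.centralizer ({z} : Set G)) : G)⁻¹ *
              ((h : G) * ((xs : Subgroup.centralizer ({z} : Set G)) : G) * (h : G)⁻¹)) := by group
        _ = _ := by rw [h4]
    -- move `t` by an element of `Q`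
    have ht1 : ((xt : Subgroup.centralizer ({z} : Set G)) : G) ≠ 1 := by
      intro h6; rw [h6, orderOf_one] at ht2; omega
    have htz : ((xt : Subgroup.centralizer ({z} : Set G)) : G) ≠ z := by
      intro h6; rw [h6] at ht; exact ht (IsConj.refl z)
    have htm : ((xt : Subgroup.centralizer ({z} : Set G)) : G) ∈ famOf (Q1 Q) z z := by
      rw [fam_self]; exact mem_Q1.mpr ⟨xt, rfl⟩
    obtain ⟨q0, hq0, hq0t⟩ := hLE.exists_move htm ht1 htz
    have hq0z : q0 * z = z * q0 := Q_comm fam_fam hq0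
    have hq0C : q0 ∈ Subgroup.centralizer ({z} : Set G) :=
      Subgroup.mem_centralizer_singleton_iff.mpr hq0z
    refine ⟨q0 * (h : G), Subgroup.mul_mem _ hq0C h.2, ?_⟩
    have htt : ((xt : Subgroup.centralizer ({z} : Set G)) : G) *
        ((xt : Subgroup.centralizer ({z} : Set G)) : G) = 1 := by
      have := pow_orderOf_eq_one ((xt : Subgroup.centralizer ({z} : Set G)) : G)
      rwa [ht2, pow_two] at this
    have e1 : q0 * ((xt : Subgroup.centralizer ({z} : Set G)) : G) * q0⁻¹ =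
        z * ((xt : Subgroup.centralizer ({z} : Set G)) : G) := by
      calc q0 * ((xt : Subgroup.centralizer ({z} : Set G)) : G) * q0⁻¹
          = (q0 * ((xt : Subgroup.centralizer ({z} : Set G)) : G) * q0⁻¹ *
            (((xt : Subgroup.centralizer ({z} : Set G)) : G))⁻¹) *
            ((xt : Subgroup.centralizer ({z} : Set G)) : G) := by group
        _ = _ := by rw [hq0t]
    have e2 : q0 * z * q0⁻¹ = z := by rw [hq0z]; group
    calc q0 * (h : G) * ((xs : Subgroup.centralizer ({z} : Set G)) : G) * (q0 * (h : G))⁻¹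
        = q0 * ((h : G) * ((xs : Subgroup.centralizer ({z} : Set G)) : G) * (h : G)⁻¹) * q0⁻¹ := by
          group
      _ = (q0 * ((xt : Subgroup.centralizer ({z} : Set G)) : G) * q0⁻¹) * (q0 * z * q0⁻¹) := by
          rw [h5]; group
      _ = z * ((xt : Subgroup.centralizer ({z} : Set G)) : G) * z := by rw [e1, e2]
      _ = ((xt : Subgroup.centralizer ({z} : Set G)) : G) := by
          rw [← comm_z_of_mem_cent (xt : Subgroup.centralizer ({z} : Set G)), mul_assoc, hzz,
            mul_one]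

end more

end Cfsg.Agent.Lib.Helper4.MC
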