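import Mathlib
import Cfsg.Agent.Lib.Helper4.MonsterConj2
import Cfsg.Agent.Lib.Helper4.CrossStab

set_option autoImplicit false
set_option linter.unusedSectionVars false

/-!
Groups of Monster type: the intersection of `Q` with a conjugate.
-/

namespace Cfsg.Agent.Lib.Helper4.MC

open Cfsg Cfsg.Agent.Lib.Conway Cfsg.Agent.Lib.Helper29 Cfsg.Agent.Lib.Helper4.LXF
open Cfsg.Agent.Lib.Helper4.C2C

section count

variable {G : Type*} [Group G] [Finite G]

/-- `R2 = C_{Q z2}(z1)` has index 2 in `Q z2` -/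
theorem card_Q2_eq {Q : G → Subgroup G} {z1 z2 : G} (P : Pair Q z1 z2) :
    Nat.card (Q z2) = 2 * Nat.card (Pair.R2 Q z1 z2) := by
  obtain ⟨q1, hq1, hq1z, -⟩ := P.symm.exists_q1
  have hR : ∀ r, r ∈ Pair.R1 Q z2 z1 ↔ r ∈ Pair.R2 Q z1 z2 := fun r =>
    ⟨fun h => Pair.mem_R2.mpr (Pair.mem_R1.mp h), fun h => Pair.mem_R1.mpr (Pair.mem_R2.mp h)⟩
  have hset : ((Q z2 : Subgroup G) : Set G) =
      ((Pair.R2 Q z1 z2 : Subgroup G) : Set G) ∪
        (fun v => q1 * v) '' ((Pair.R2 Q z1 z2 : Subgroup G) : Set G) := by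
    ext q
    constructor
    · intro hq
      rcases P.symm.Q1_cases hq1 hq1z hq with h | h
      · left; exact (hR q).mp h
      · right; exact ⟨q1⁻¹ * q, (hR _).mp h, by group⟩
    · rintro (h | ⟨r, hr, rfl⟩)
      · exact (Pair.mem_R2.mp h).1
      · exact (Q z2).mul_mem hq1 (Pair.mem_R2.mp hr).1
  have hdisj : Disjoint ((Pair.R2 Q z1 z2 : Subgroup G) : Set G)
      ((fun v => q1 * v) '' ((Pair.R2 Q z1 z2 : Subgroup G) : Set G)) := by
    rw [Set.disjoint_left]
    rintro a ha ⟨r, hr, hra⟩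
    have hq1R : q1 ∈ Pair.R2 Q z1 z2 := by
      have : q1 = a * r⁻¹ := by rw [← hra]; group
      rw [this]
      exact Subgroup.mul_mem _ ha (Subgroup.inv_mem _ hr)
    have h1 := (Pair.mem_R2.mp hq1R).2
    have h2 : q1 * z1 * q1⁻¹ = z1 := by rw [h1]; group
    rw [hq1z] at h2
    apply P.le2.ne
    calc z2 = (z2 * z1) * z1⁻¹ := by group
      _ = 1 := by rw [h2]; group
  have h1 : Nat.card (Q z2) = ((Q z2 : Subgroup G) : Set G).ncard := Nat.card_coe_set_eq _
  have h2 : Nat.card (Pair.R2 Q z1 z2) = ((Pair.R2 Q z1 z2 : Subgroup G) : Set G).ncard :=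
    Nat.card_coe_set_eq _
  rw [h1, h2, hset, Set.ncard_union_eq hdisj (Set.toFinite _) (Set.toFinite _),
    Set.ncard_image_of_injective _ (mul_right_injective q1)]
  ring

/-- kernel–image counting for a homomorphism from a finite group -/
theorem card_eq_ker_mul_range {A B : Type*} [Group A] [Group B] [Finite A] (φ : A →* B) :
    Nat.card A = Nat.card φ.ker * Nat.card φ.range := by
  rw [Subgroup.card_eq_card_quotient_mul_card_subgroup φ.ker,
    Nat.card_congr (QuotientGroup.quotientKerEquivRange φ).toEquiv, mul_comm]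

end count

section inter

variable {G : Type*} [Group G] [Finite G] {z : G}
  {Q : Subgroup (Subgroup.centralizer ({z} : Set G))} [hQn : Q.Normal]

/-- an element of `Co1` fixing the class of `v` lifts to an element of `C` centralising `s` -/
theorem exists_lift_cent {x : Q} (P : Pair (famOf (Q1 Q) z) z ((x : Subgroup.centralizer ({z} : Set G)) : G))
    (hzQ : (⟨z, z_mem_cent z⟩ : Subgroup.centralizer ({z} : Set G)) ∈ Q)
    (hE : IsE2 Q ⟨⟨z, z_mem_cent z⟩, hzQ⟩)
    (e : (Subgroup.centralizer ({z} : Set G)) ⧸ Q ≃* Spor.Co1)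
    (ψ : leechLattice → Q ⧸ Subgroup.center Q)
    (hequiv : ∀ (h : Subgroup.centralizer ({z} : Set G)) (g : Co0),
      (QuotientGroup.mk g : Spor.Co1) = e (QuotientGroup.mk h) →
      ∀ (v : leechLattice) (q : Q), ψ v = QuotientGroup.mk q →
        ψ (g • v) = QuotientGroup.mk ⟨h * q * h⁻¹,
          (inferInstance : Q.Normal).conj_mem (q : Subgroup.centralizer ({z} : Set G)) q.2 h⟩)
    (v : leechLattice) (hxv : ψ v = QuotientGroup.mk x) (κ : Co0) (hκ : ψ (κ • v) = ψ v) :
    ∃ h' : Subgroup.centralizer ({z} : Set G),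
      (h' : G) * ((x : Subgroup.centralizer ({z} : Set G)) : G) * (h' : G)⁻¹ =
        ((x : Subgroup.centralizer ({z} : Set G)) : G) ∧
      e (QuotientGroup.mk h') = QuotientGroup.mk κ := by
  have hzz : z * z = 1 := P.le1.sq
  obtain ⟨hc, hhc⟩ := e.surjective (QuotientGroup.mk κ)
  obtain ⟨h, rfl⟩ := QuotientGroup.mk_surjective hc
  have h1 := hequiv h κ hhc.symm v x hxv
  rw [hκ, hxv] at h1
  have h2 := QuotientGroup.eq.mp h1
  rcases hE.all _ h2 with h3 | h3
  · refine ⟨h, ?_, hhc⟩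
    have h4 := congrArg (fun q : Q => ((q : Subgroup.centralizer ({z} : Set G)) : G)) h3
    simp only [Subgroup.coe_mul, Subgroup.coe_inv, Subgroup.coe_one] at h4
    calc (h : G) * ((x : Subgroup.centralizer ({z} : Set G)) : G) * (h : G)⁻¹
        = ((x : Subgroup.centralizer ({z} : Set G)) : G) *
          (((x : Subgroup.centralizer ({z} : Set G)) : G)⁻¹ *
            ((h : G) * ((x : Subgroup.centralizer ({z} : Set G)) : G) * (h : G)⁻¹)) := by group
      _ = ((x : Subgroup.centralizer ({z} : Set G)) : G) := by rw [h4, mul_one]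
  · have h4 := congrArg (fun q : Q => ((q : Subgroup.centralizer ({z} : Set G)) : G)) h3
    simp only [Subgroup.coe_mul, Subgroup.coe_inv] at h4
    obtain ⟨q1, hq1, hq1s, hq1z⟩ := P.exists_q1
    rw [fam_self] at hq1
    obtain ⟨qq, rfl⟩ := mem_Q1.mp hq1
    refine ⟨(qq : Subgroup.centralizer ({z} : Set G)) * h, ?_, ?_⟩
    · have h5 : (h : G) * ((x : Subgroup.centralizer ({z} : Set G)) : G) * (h : G)⁻¹ =
          ((x : Subgroup.centralizer ({z} : Set G)) : G) * z := by
        calc (h : G) * ((x : Subgroup.centralizer ({z} : Set G)) : G) * (h : G)⁻¹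
            = ((x : Subgroup.centralizer ({z} : Set G)) : G) *
              (((x : Subgroup.centralizer ({z} : Set G)) : G)⁻¹ *
                ((h : G) * ((x : Subgroup.centralizer ({z} : Set G)) : G) * (h : G)⁻¹)) := by
              group
          _ = ((x : Subgroup.centralizer ({z} : Set G)) : G) * z := by rw [h4]
      have hzi : z⁻¹ = z := inv_eq_of_mul_eq_one_right hzz
      have hq1z' : ((qq : Subgroup.centralizer ({z} : Set G)) : G) * z *
          ((qq : Subgroup.centralizer ({z} : Set G)) : G)⁻¹ = z := by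
        rw [hq1z]; group
      calc (((qq : Subgroup.centralizer ({z} : Set G)) * h :
            Subgroup.centralizer ({z} : Set G)) : G) *
            ((x : Subgroup.centralizer ({z} : Set G)) : G) *
            (((qq : Subgroup.centralizer ({z} : Set G)) * h :
              Subgroup.centralizer ({z} : Set G)) : G)⁻¹
          = ((qq : Subgroup.centralizer ({z} : Set G)) : G) *
            ((h : G) * ((x : Subgroup.centralizer ({z} : Set G)) : G) * (h : G)⁻¹) *
            ((qq : Subgroup.centralizer ({z} : Set G)) : G)⁻¹ := by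
            rw [Subgroup.coe_mul]; group
        _ = (((qq : Subgroup.centralizer ({z} : Set G)) : G) *
              ((x : Subgroup.centralizer ({z} : Set G)) : G) *
              ((qq : Subgroup.centralizer ({z} : Set G)) : G)⁻¹) *
            (((qq : Subgroup.centralizer ({z} : Set G)) : G) * z *
              ((qq : Subgroup.centralizer ({z} : Set G)) : G)⁻¹) := by rw [h5]; group
        _ = z * ((x : Subgroup.centralizer ({z} : Set G)) : G) * z := by rw [hq1s, hq1z']
        _ = ((x : Subgroup.centralizer ({z} : Set G)) : G) := by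
            rw [P.comm12, mul_assoc, hzz, mul_one]
    · rw [QuotientGroup.mk_mul, map_mul, hhc]
      have : (QuotientGroup.mk (qq : Subgroup.centralizer ({z} : Set G)) :
          (Subgroup.centralizer ({z} : Set G)) ⧸ Q) = 1 :=
        (QuotientGroup.eq_one_iff _).mpr qq.2
      rw [this, map_one, one_mul]

/-- the image in `Co1` of `R2 = Q^g ∩ C` -/
noncomputable def TT (e : (Subgroup.centralizer ({z} : Set G)) ⧸ Q ≃* Spor.Co1) (s : G) : Subgroup Spor.Co1 :=
  (((Pair.R2 (famOf (Q1 Q) z) z s).subgroupOf (Subgroup.centralizer ({z} : Set G))).map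
    (QuotientGroup.mk' Q)).map e.toMonoidHom

theorem mem_TT {e : (Subgroup.centralizer ({z} : Set G)) ⧸ Q ≃* Spor.Co1} {s : G}
    {t : Spor.Co1} : t ∈ TT e s ↔ ∃ r : Subgroup.centralizer ({z} : Set G),
      (r : G) ∈ Pair.R2 (famOf (Q1 Q) z) z s ∧ e (QuotientGroup.mk r) = t := by
  unfold TT
  constructor
  · rintro ⟨_, ⟨r, hr, rfl⟩, rfl⟩
    exact ⟨r, Subgroup.mem_subgroupOf.mp hr, rfl⟩
  · rintro ⟨r, hr, rfl⟩
    exact ⟨_, ⟨r, Subgroup.mem_subgroupOf.mpr hr, rfl⟩, rfl⟩

theorem card_TT_le (hS : IsExtraspecialCentralizerSetting z Q 12)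
    (e : (Subgroup.centralizer ({z} : Set G)) ⧸ Q ≃* Spor.Co1)
    (ψ : leechLattice → Q ⧸ Subgroup.center Q) (hψ : IsLeechModTwoIso Q e ψ) (x : Q) (g : G)
    (hg : g * z * g⁻¹ = ((x : Subgroup.centralizer ({z} : Set G)) : G))
    (hne : ((x : Subgroup.centralizer ({z} : Set G)) : G) ≠ z) :
    Nat.card (TT e ((x : Subgroup.centralizer ({z} : Set G)) : G)) ≤ 2 ^ 11 := by
  obtain ⟨v, hv, hxv⟩ := fwd hS e ψ hψ x g hg hne
  obtain ⟨hz, hF, hX, hcard, -⟩ := hS
  obtain ⟨hadd, hsurj, hker, hequiv⟩ := hψ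
  have hsQ1 : ((x : Subgroup.centralizer ({z} : Set G)) : G) ∈ Q1 Q := mem_Q1.mpr ⟨x, rfl⟩
  have P := pair_of_conj hz hF hX _ hsQ1 hne g hg
  have hfam : Fam (famOf (Q1 Q) z) := fam_fam
  have hzQ := z_mem_Q hF
  have hE := isE2_Q hz hX hzQ
  have hψ2 : ∀ w : leechLattice, ψ (w + w) = 1 := fun w => (hker _).mpr ⟨w, rfl⟩
  apply Cfsg.Agent.Lib.Helper4.XS.card_le' v hv
  · -- elements of `T` fix the class of `v`
    intro γ hγ
    obtain ⟨r, hr, hrγ⟩ := mem_TT.mp hγ
    have h1 := hequiv r γ hrγ.symm v x hxv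
    have hrs : (r : G) * ((x : Subgroup.centralizer ({z} : Set G)) : G) =
        ((x : Subgroup.centralizer ({z} : Set G)) : G) * (r : G) :=
      Q_comm hfam (Pair.mem_R2.mp hr).1
    have h2 : (⟨r * x * r⁻¹, (inferInstance : Q.Normal).conj_mem
        (x : Subgroup.centralizer ({z} : Set G)) x.2 r⟩ : Q) = x := by
      apply Subtype.ext
      apply Subtype.ext
      show (r : G) * ((x : Subgroup.centralizer ({z} : Set G)) : G) * (r : G)⁻¹ = _
      rw [hrs]; group
    rw [h2, ← hxv] at h1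
    have h3 : ψ (γ • v + v) = 1 := by
      rw [hadd, h1]
      exact Cfsg.Agent.Lib.Helper4.MP.psi_sq ψ hadd hker v
    obtain ⟨w, hw⟩ := (hker _).mp h3
    refine ⟨w - v, ?_⟩
    have : γ • v = (γ • v + v) - v := by abel
    rw [this, hw]; abel
  · -- `T` is a 2-group
    unfold TT
    apply IsPGroup.map
    apply IsPGroup.map
    apply IsPGroup.comap_of_injective _ _ (Subgroup.subtype_injective _)
    exact P.le2.isPGroup.to_le (fun r hr => (Pair.mem_R2.mp hr).1)
  · -- `T` is normalised by the stabiliser of the class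
    rintro κ ⟨w, hw⟩ t ht
    obtain ⟨r, hr, rfl⟩ := mem_TT.mp ht
    have hκ : ψ (κ • v) = ψ v := by rw [hw, hadd, hψ2, mul_one]
    obtain ⟨h', hh's, hh'e⟩ := exists_lift_cent P hzQ hE e ψ hequiv v hxv κ hκ
    rw [mem_TT]
    refine ⟨h' * r * h'⁻¹, ?_, ?_⟩
    · rw [Pair.mem_R2] at hr ⊢
      have hcs : (h' : G) * ((x : Subgroup.centralizer ({z} : Set G)) : G) =
          ((x : Subgroup.centralizer ({z} : Set G)) : G) * (h' : G) := by
        calc (h' : G) * ((x : Subgroup.centralizer ({z} : Set G)) : G)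
            = ((h' : G) * ((x : Subgroup.centralizer ({z} : Set G)) : G) * (h' : G)⁻¹) * (h' : G) := by
              group
          _ = _ := by rw [hh's]
      refine ⟨?_, comm_z_of_mem_cent _⟩
      have := Q_normal hfam hcs hr.1
      simpa using this
    · rw [QuotientGroup.mk_mul, QuotientGroup.mk_mul, QuotientGroup.mk_inv, map_mul, map_mul,
        map_inv, hh'e]

theorem R2_le_cent (s : G) :
    Pair.R2 (famOf (Q1 Q) z) z s ≤ Subgroup.centralizer ({z} : Set G) := fun _ hr =>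
  Subgroup.mem_centralizer_singleton_iff.mpr (Pair.mem_R2.mp hr).2

/-- the map from `R2` to `Co1` -/
noncomputable def rho (e : (Subgroup.centralizer ({z} : Set G)) ⧸ Q ≃* Spor.Co1) (s : G) :
    ↥(Pair.R2 (famOf (Q1 Q) z) z s) →* Spor.Co1 :=
  e.toMonoidHom.comp ((QuotientGroup.mk' Q).comp (Subgroup.inclusion (R2_le_cent s)))

theorem rho_apply (e : (Subgroup.centralizer ({z} : Set G)) ⧸ Q ≃* Spor.Co1) (s : G)
    (r : ↥(Pair.R2 (famOf (Q1 Q) z) z s)) :
    rho e s r = e (QuotientGroup.mk ⟨(r : G), R2_le_cent s r.2⟩) := rfl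

theorem rho_range (e : (Subgroup.centralizer ({z} : Set G)) ⧸ Q ≃* Spor.Co1) (s : G) :
    (rho e s).range = TT e s := by
  ext t
  rw [mem_TT, MonoidHom.mem_range]
  constructor
  · rintro ⟨r, rfl⟩
    exact ⟨⟨(r : G), R2_le_cent s r.2⟩, r.2, rfl⟩
  · rintro ⟨r, hr, rfl⟩
    exact ⟨⟨(r : G), hr⟩, rfl⟩

theorem rho_ker (e : (Subgroup.centralizer ({z} : Set G)) ⧸ Q ≃* Spor.Co1) (s : G) :
    (rho e s).ker.map (Pair.R2 (famOf (Q1 Q) z) z s).subtype = Pair.EE (famOf (Q1 Q) z) z s := by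
  ext a
  rw [Pair.mem_EE, fam_self, Subgroup.mem_map]
  constructor
  · rintro ⟨r, hr, rfl⟩
    rw [MonoidHom.mem_ker, rho_apply, EmbeddingLike.map_eq_one_iff, QuotientGroup.eq_one_iff] at hr
    exact ⟨mem_Q1.mpr ⟨⟨_, hr⟩, rfl⟩, (Pair.mem_R2.mp r.2).1⟩
  · rintro ⟨h1, h2⟩
    obtain ⟨q, rfl⟩ := mem_Q1.mp h1
    have hr : ((q : Subgroup.centralizer ({z} : Set G)) : G) ∈ Pair.R2 (famOf (Q1 Q) z) z s :=
      Pair.mem_R2.mpr ⟨h2, comm_z_of_mem_cent _⟩
    refine ⟨⟨_, hr⟩, ?_, rfl⟩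
    rw [MonoidHom.mem_ker, rho_apply, EmbeddingLike.map_eq_one_iff, QuotientGroup.eq_one_iff]
    exact q.2

theorem card_R2_eq (e : (Subgroup.centralizer ({z} : Set G)) ⧸ Q ≃* Spor.Co1) (s : G) :
    Nat.card (Pair.R2 (famOf (Q1 Q) z) z s) =
      Nat.card (Pair.EE (famOf (Q1 Q) z) z s) * Nat.card (TT e s) := by
  rw [card_eq_ker_mul_range (rho e s), rho_range, ← rho_ker e s,
    Subgroup.card_map_of_injective (Subgroup.subtype_injective _)]

/-- **The intersection of `Q` with a conjugate has order `2^13`.** -/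
theorem card_EE (hS : IsExtraspecialCentralizerSetting z Q 12)
    (e : (Subgroup.centralizer ({z} : Set G)) ⧸ Q ≃* Spor.Co1)
    (ψ : leechLattice → Q ⧸ Subgroup.center Q) (hψ : IsLeechModTwoIso Q e ψ) (x : Q) (g : G)
    (hg : g * z * g⁻¹ = ((x : Subgroup.centralizer ({z} : Set G)) : G))
    (hne : ((x : Subgroup.centralizer ({z} : Set G)) : G) ≠ z) :
    Nat.card (Pair.EE (famOf (Q1 Q) z) z ((x : Subgroup.centralizer ({z} : Set G)) : G)) =
      2 ^ 13 := by
  have hT := card_TT_le hS e ψ hψ x g hg hne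
  obtain ⟨hz, hF, hX, hcard, -⟩ := hS
  have hsQ1 : ((x : Subgroup.centralizer ({z} : Set G)) : G) ∈ Q1 Q := mem_Q1.mpr ⟨x, rfl⟩
  have P := pair_of_conj hz hF hX _ hsQ1 hne g hg
  have hfam : Fam (famOf (Q1 Q) z) := fam_fam
  have hzQ := z_mem_Q hF
  have hE := isE2_Q hz hX hzQ
  have hc2 : Nat.card (famOf (Q1 Q) z ((x : Subgroup.centralizer ({z} : Set G)) : G)) = 2 ^ 25 := by
    rw [← hg, card_Q_conj hfam, fam_self]
    unfold Q1
    rw [Subgroup.card_map_of_injective (Subgroup.subtype_injective _), hcard]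
  have h1 := card_Q2_eq P
  have h2 := card_R2_eq e ((x : Subgroup.centralizer ({z} : Set G)) : G)
  rw [hc2, h2] at h1
  -- lower bound
  have hlow : 2 ^ 13 ≤ Nat.card (Pair.EE (famOf (Q1 Q) z) z
      ((x : Subgroup.centralizer ({z} : Set G)) : G)) := by
    by_contra hlt
    push Not at hlt
    have : Nat.card (Pair.EE (famOf (Q1 Q) z) z ((x : Subgroup.centralizer ({z} : Set G)) : G)) *
        Nat.card (TT e ((x : Subgroup.centralizer ({z} : Set G)) : G)) < 2 ^ 13 * 2 ^ 11 := by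
      calc _ ≤ Nat.card (Pair.EE (famOf (Q1 Q) z) z
            ((x : Subgroup.centralizer ({z} : Set G)) : G)) * 2 ^ 11 := Nat.mul_le_mul_left _ hT
        _ < 2 ^ 13 * 2 ^ 11 := Nat.mul_lt_mul_of_pos_right hlt (by norm_num)
    norm_num at this h1
    omega
  -- upper bound
  let A : Subgroup Q := ((Pair.EE (famOf (Q1 Q) z) z
    ((x : Subgroup.centralizer ({z} : Set G)) : G)).comap
      (Subgroup.centralizer ({z} : Set G)).subtype).comap Q.subtype
  have hA : ∀ a : Q, a ∈ A ↔ ((a : Subgroup.centralizer ({z} : Set G)) : G) ∈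
      Pair.EE (famOf (Q1 Q) z) z ((x : Subgroup.centralizer ({z} : Set G)) : G) := fun a => Iff.rfl
  have hEA : IsEA2 A := by
    constructor
    · intro a ha b hb
      apply Subtype.ext
      apply Subtype.ext
      exact P.EE_comm ((hA a).mp ha) ((hA b).mp hb)
    · intro a ha
      apply Subtype.ext
      apply Subtype.ext
      exact P.EE_sq ((hA a).mp ha)
  have hup := (IsE2.rank_upper (2 ^ 25) Q _ hE hcard A hEA).1
  have hAcard : Nat.card A = Nat.card (Pair.EE (famOf (Q1 Q) z) z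
      ((x : Subgroup.centralizer ({z} : Set G)) : G)) := by
    apply Nat.card_congr
    refine Equiv.ofBijective (fun a => ⟨((a.1 : Subgroup.centralizer ({z} : Set G)) : G),
      (hA a.1).mp a.2⟩) ⟨?_, ?_⟩
    · intro a b hab
      apply Subtype.ext
      apply Subtype.ext
      apply Subtype.ext
      exact congrArg (fun t : ↥(Pair.EE (famOf (Q1 Q) z) z
        ((x : Subgroup.centralizer ({z} : Set G)) : G)) => (t : G)) hab
    · rintro ⟨a, ha⟩
      have ha1 := (Pair.mem_EE.mp ha).1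
      rw [fam_self] at ha1
      obtain ⟨q, rfl⟩ := mem_Q1.mp ha1
      exact ⟨⟨q, (hA q).mpr ha⟩, rfl⟩
  rw [hAcard, hcard] at hup
  have hup2 : Nat.card (Pair.EE (famOf (Q1 Q) z) z
      ((x : Subgroup.centralizer ({z} : Set G)) : G)) ≤ 2 ^ 13 := by
    have : Nat.card (Pair.EE (famOf (Q1 Q) z) z
        ((x : Subgroup.centralizer ({z} : Set G)) : G)) ^ 2 ≤ (2 ^ 13) ^ 2 := by
      calc _ ≤ 2 * 2 ^ (2 * 12 + 1) := hup
        _ = (2 ^ 13) ^ 2 := by norm_num
    exact (Nat.pow_le_pow_iff_left (by norm_num : 2 ≠ 0)).mp this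
  exact le_antisymm hup2 hlow

end inter

end Cfsg.Agent.Lib.Helper4.MC
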