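import Mathlib
import Cfsg.Agent.Lib.Helper4.ExtraQuad
import Cfsg.Agent.Lib.Helper4.MonsterConj3

set_option autoImplicit false
set_option linter.unusedSectionVars false

/-!
In a group with centre `{1, z}` containing the commutator subgroup: the centraliser of a
non-central involution `t` has index 2 and centre `<z, t>`.
-/

namespace Cfsg.Agent.Lib.Helper4.BM

open Cfsg Cfsg.Agent.Lib.Helper29 Cfsg.Agent.Lib.Helper4.EQ

section e2

variable {P : Type*} [Group P] {z : P} (h : IsE2 P z)
include h

/-- the centre of the centraliser of a non-central involution -/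
theorem cent_cent {t q0 q : P} (htt : t * t = 1) (hq0 : q0 * t ≠ t * q0) (hqt : q * t = t * q)
    (hall : ∀ q' : P, q' * t = t * q' → q * q' = q' * q) :
    q = 1 ∨ q = z ∨ q = t ∨ q = z * t := by
  have hc0 : cmb q0 t = 1 := cmb_of_ne q0 t hq0
  have key : ∀ r : P, (∀ q' : P, q' * t = t * q' → r * q' = q' * r) → cmb r q0 = 0 →
      r = 1 ∨ r = z := by
    intro r hr hr0
    apply h.all
    rw [Subgroup.mem_center_iff]
    intro p
    have hrq0 : r * q0 = q0 * r := (cmb_eq_zero_iff r q0).mp hr0
    by_cases hp : p * t = t * p
    · exact (hr p hp).symm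
    · have h1 : cmb (p * q0) t = 0 := by
        rw [cmb_mul_left h, cmb_of_ne p t hp, hc0]; decide
      have h2 := hr (p * q0) ((cmb_eq_zero_iff _ _).mp h1)
      have h3 : (r * p) * q0 = (p * r) * q0 := by
        calc (r * p) * q0 = r * (p * q0) := by group
          _ = (p * q0) * r := h2
          _ = p * (q0 * r) := by group
          _ = p * (r * q0) := by rw [hrq0]
          _ = (p * r) * q0 := by group
      exact (mul_right_cancel h3).symm
  have hd : cmb q q0 = 0 ∨ cmb q q0 = 1 := by
    generalize cmb q q0 = a
    revert a; decide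
  rcases hd with hd | hd
  · rcases key q hall hd with h1 | h1
    · exact Or.inl h1
    · exact Or.inr (Or.inl h1)
  · have h1 : cmb (q * t) q0 = 0 := by
      rw [cmb_mul_left h, hd, cmb_symm h t q0, hc0]; decide
    have h2 : ∀ q' : P, q' * t = t * q' → (q * t) * q' = q' * (q * t) := by
      intro q' hq'
      calc (q * t) * q' = q * (t * q') := by group
        _ = q * (q' * t) := by rw [hq']
        _ = (q * q') * t := by group
        _ = (q' * q) * t := by rw [hall q' hq']
        _ = q' * (q * t) := by group
    have ht_inv : t⁻¹ = t := inv_eq_of_mul_eq_one_right htt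
    rcases key (q * t) h2 h1 with h3 | h3
    · right; right; left
      calc q = (q * t) * t⁻¹ := by group
        _ = t := by rw [h3, one_mul, ht_inv]
    · right; right; right
      calc q = (q * t) * t⁻¹ := by group
        _ = z * t := by rw [h3, ht_inv]

/-- the centraliser of a non-central element has index 2 -/
theorem card_centralizer_two [Finite P] {t q0 : P} (hq0 : q0 * t ≠ t * q0) :
    Nat.card P = 2 * Nat.card (Subgroup.centralizer ({t} : Set P)) := by
  have h1 := Cfsg.Agent.Lib.Helper4.MC.card_eq_ker_mul_range (pairHom h.comm t)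
  have h2 : (pairHom h.comm t).ker = Subgroup.centralizer ({t} : Set P) := by
    ext q
    rw [MonoidHom.mem_ker, Subgroup.mem_centralizer_singleton_iff]
    constructor
    · intro hq
      have := congrArg Subtype.val hq
      rw [pairHom_apply] at this
      exact (cm_eq_one_iff q t).mp this
    · intro hq
      apply Subtype.ext
      rw [pairHom_apply]
      exact (cm_eq_one_iff q t).mpr hq
  have h3 : (pairHom h.comm t).range = ⊤ := by
    rw [eq_top_iff]
    intro w _
    rcases h.all w.1 w.2 with hw | hw
    · have : w = 1 := Subtype.ext hw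
      rw [this]; exact Subgroup.one_mem _
    · refine ⟨q0, ?_⟩
      apply Subtype.ext
      rw [pairHom_apply, hw]
      exact h.cm_eq_z hq0
  rw [h1, h2, h3, Subgroup.card_top, h.card_center, mul_comm]

/-- the centraliser of a non-central involution is not commutative if the group is large -/
theorem exists_not_comm_cent [Finite P] {t q0 : P} (htt : t * t = 1) (hq0 : q0 * t ≠ t * q0)
    (hcard : 8 < Nat.card P) :
    ∃ q q' : P, q * t = t * q ∧ q' * t = t * q' ∧ q * q' ≠ q' * q := by
  by_contra hcon
  push Not at hcon
  have hsub : ((Subgroup.centralizer ({t} : Set P) : Subgroup P) : Set P) ⊆ ({1, z, t, z * t} : Set P) := by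
    intro q hq
    have hqt : q * t = t * q := Subgroup.mem_centralizer_singleton_iff.mp hq
    rcases cent_cent h htt hq0 hqt (fun q' hq' => hcon q q' hqt hq') with h1 | h1 | h1 | h1 <;>
      simp [h1]
  have h4 : ((Subgroup.centralizer ({t} : Set P) : Subgroup P) : Set P).ncard ≤ 4 :=
    le_trans (Set.ncard_le_ncard hsub (Set.toFinite _)) (Cfsg.Agent.Lib.Helper4.MC.ncard_four _ _ _ _)
  have h5 := card_centralizer_two h hq0
  rw [← Nat.card_coe_set_eq] at h4
  have h6 : Nat.card ((Subgroup.centralizer ({t} : Set P) : Subgroup P) : Set P) =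
      Nat.card (Subgroup.centralizer ({t} : Set P)) := rfl
  omega

end e2

end Cfsg.Agent.Lib.Helper4.BM
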