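import Mathlib
import Cfsg.Agent.Lib.Helper4.CrossStab

set_option autoImplicit false

/-!
The stabiliser of a vector of type 4 modulo `2Λ` in `Co1`: the sign changes and the complement
isomorphic to `M24`.
-/

namespace Cfsg.Agent.Lib.Helper4.XS

open Cfsg Cfsg.Agent.Lib.Conway Cfsg.Agent.Lib.Helper93.Leech Cfsg.Agent.Lib.Helper93.Golay
open Cfsg.Agent.S1571 (Stab mono_stab param param_injective param_surjective)
open scoped Pointwise

theorem mono_empty_mul (σ τ : Equiv.Perm GolayPt) (hσ : σ ∈ M24) (hτ : τ ∈ M24) :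
    mono σ ∅ hσ empty_mem_supports * mono τ ∅ hτ empty_mem_supports =
      mono (σ * τ) ∅ (M24.mul_mem hσ hτ) empty_mem_supports := by
  apply co0_ext
  intro v
  apply Subtype.ext
  rw [co0_mul_smul, mono_smul, mono_smul, mono_smul, signedPerm_signedPerm]
  have : symmDiff (∅ : Finset GolayPt) (σ • (∅ : Finset GolayPt)) = ∅ := by simp
  rw [this]

theorem mono_sign_mul (σ : Equiv.Perm GolayPt) (c : Finset GolayPt) (hσ : σ ∈ M24) (hc : c ∈ CS) :
    mono 1 c M24.one_mem hc * mono σ ∅ hσ empty_mem_supports = mono σ c hσ hc := by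
  apply co0_ext
  intro v
  apply Subtype.ext
  rw [co0_mul_smul, mono_smul, mono_smul, mono_smul, signedPerm_signedPerm]
  have : symmDiff c ((1 : Equiv.Perm GolayPt) • (∅ : Finset GolayPt)) = c := by simp
  rw [this, one_mul]

theorem negCo0_eq : negCo0 = mono 1 Finset.univ M24.one_mem univ_mem_supports := by
  have h := mono_one_compl ∅ empty_mem_supports
  rw [mono_one, mul_one] at h
  rw [← h]
  have : (∅ : Finset GolayPt)ᶜ = Finset.univ := by simp
  simp only [this]

theorem center_conj_iff (g0 γ : Co0) :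
    g0 * γ * g0⁻¹ ∈ Subgroup.center Co0 ↔ γ ∈ Subgroup.center Co0 := by
  constructor
  · intro h
    have h1 := Subgroup.mem_center_iff.mp h g0
    have : γ = g0 * γ * g0⁻¹ := by
      calc γ = g0⁻¹ * ((g0 * γ * g0⁻¹) * g0) := by group
        _ = g0⁻¹ * (g0 * (g0 * γ * g0⁻¹)) := by rw [h1]
        _ = g0 * γ * g0⁻¹ := by group
    rw [this]; exact h
  · intro h
    have h1 := Subgroup.mem_center_iff.mp h g0
    have : g0 * γ * g0⁻¹ = γ := by rw [h1]; group
    rw [this]; exact h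


theorem mk_conj_eq_one_iff (g0 γ : Co0) :
    (QuotientGroup.mk (g0 * γ * g0⁻¹) : Spor.Co1) = 1 ↔ γ = 1 ∨ γ = negCo0 := by
  rw [QuotientGroup.eq_one_iff, center_conj_iff]
  constructor
  · exact Cfsg.Agent.S0398.central_cases γ
  · rintro (rfl | rfl)
    · exact Subgroup.one_mem _
    · exact Cfsg.Agent.S0398.negCo0_mem_center

/-- the complement: permutations, conjugated by `g0`, modulo `±1` -/
noncomputable def muHom (g0 : Co0) : M24 →* Spor.Co1 where
  toFun σ := QuotientGroup.mk (g0 * mono σ.1 ∅ σ.2 empty_mem_supports * g0⁻¹)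
  map_one' := by
    show (QuotientGroup.mk (g0 * mono 1 ∅ M24.one_mem empty_mem_supports * g0⁻¹) : Spor.Co1) = 1
    rw [mono_one]; simp
  map_mul' := by
    rintro ⟨σ, hσ⟩ ⟨τ, hτ⟩
    show (QuotientGroup.mk (g0 * mono (σ * τ) ∅ (M24.mul_mem hσ hτ) empty_mem_supports * g0⁻¹) :
      Spor.Co1) = QuotientGroup.mk (g0 * mono σ ∅ hσ empty_mem_supports * g0⁻¹) *
        QuotientGroup.mk (g0 * mono τ ∅ hτ empty_mem_supports * g0⁻¹)
    rw [← mono_empty_mul σ τ hσ hτ, ← QuotientGroup.mk_mul]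
    congr 1
    group

theorem muHom_apply (g0 : Co0) (σ : M24) :
    muHom g0 σ = QuotientGroup.mk (g0 * mono σ.1 ∅ σ.2 empty_mem_supports * g0⁻¹) := rfl

theorem univ_ne_empty : (Finset.univ : Finset GolayPt) ≠ ∅ := by
  intro h
  have : pa ∈ (Finset.univ : Finset GolayPt) := Finset.mem_univ _
  rw [h] at this
  exact absurd this (Finset.notMem_empty _)

theorem muHom_injective (g0 : Co0) : Function.Injective (muHom g0) := by
  rw [injective_iff_map_eq_one]
  rintro ⟨σ, hσ⟩ h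
  rw [muHom_apply, mk_conj_eq_one_iff] at h
  apply Subtype.ext
  show σ = 1
  rcases h with h | h
  · rw [← mono_one] at h
    exact (mono_inj h).1
  · rw [negCo0_eq] at h
    exact (mono_inj h).1

/-- an element equal modulo `±1` to both a sign change and a permutation is trivial -/
theorem sign_perm_trivial (g0 : Co0) (c : Finset GolayPt) (hc : c ∈ CS) (σ : M24)
    (h : (QuotientGroup.mk (g0 * mono 1 c M24.one_mem hc * g0⁻¹) : Spor.Co1) = muHom g0 σ) :
    σ = 1 := by
  obtain ⟨σ, hσ⟩ := σ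
  rw [muHom_apply, QuotientGroup.eq] at h
  have e : (g0 * mono 1 c M24.one_mem hc * g0⁻¹)⁻¹ * (g0 * mono σ ∅ hσ empty_mem_supports * g0⁻¹) =
      g0 * ((mono 1 c M24.one_mem hc)⁻¹ * mono σ ∅ hσ empty_mem_supports) * g0⁻¹ := by group
  rw [e, center_conj_iff] at h
  apply Subtype.ext
  show σ = 1
  rcases Cfsg.Agent.S0398.central_cases _ h with h1 | h1
  · have h2 : mono σ ∅ hσ empty_mem_supports = mono 1 c M24.one_mem hc := by
      rw [inv_mul_eq_one] at h1; exact h1.symm
    exact (mono_inj h2).1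
  · have h2 : mono σ ∅ hσ empty_mem_supports =
        mono 1 cᶜ M24.one_mem (compl_mem_supports hc) := by
      rw [mono_one_compl c hc]
      have hcomm := Subgroup.mem_center_iff.mp Cfsg.Agent.S0398.negCo0_mem_center
        (mono 1 c M24.one_mem hc)
      rw [← hcomm, ← h1]; group
    exact (mono_inj h2).1

section main

variable (v : leechLattice) (g0 : Co0) (hg0 : g0 • F0 = v) (T : Subgroup Spor.Co1)
  (hTv : ∀ γ : Co0, (QuotientGroup.mk γ : Spor.Co1) ∈ T → ∃ w : leechLattice, γ • v = v + (w + w))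
  (hT2 : IsPGroup 2 T)
  (hTn : ∀ κ : Co0, (∃ w : leechLattice, κ • v = v + (w + w)) → ∀ t ∈ T,
    (QuotientGroup.mk κ : Spor.Co1) * t * (QuotientGroup.mk κ : Spor.Co1)⁻¹ ∈ T)
  (hTc : 2 ^ 11 ≤ Nat.card T)

include hg0 hTv hT2 hTn in
/-- the normal `2`-subgroup meets the complement trivially -/
theorem inter_trivial {t : Spor.Co1} (ht : t ∈ T) (σ : M24) (hσ : t = muHom g0 σ) : t = 1 := by
  obtain ⟨c, rfl⟩ := mem_range_signMap v g0 hg0 T hTv hT2 hTn ht
  have := sign_perm_trivial g0 _ _ σ hσ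
  rw [hσ, this, map_one]

include hg0 hTv hT2 hTn hTc in
theorem T_eq_range : (T : Set Spor.Co1) = Set.range (signMap g0) := by
  have hfin : Finite {c : CS // pa ∉ c.1} := Subtype.finite
  have hsub : (T : Set Spor.Co1) ⊆ Set.range (signMap g0) := fun t ht =>
    mem_range_signMap v g0 hg0 T hTv hT2 hTn ht
  apply Set.eq_of_subset_of_ncard_le hsub _ (Set.finite_range _)
  have h2 : Nat.card (Set.range (signMap g0)) ≤ Nat.card {c : CS // pa ∉ c.1} :=
    Nat.card_le_card_of_surjective _ (Set.rangeFactorization_surjective)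
  have h3 := card_avoid_le
  rw [← Nat.card_coe_set_eq, ← Nat.card_coe_set_eq]
  have : Nat.card (T : Set Spor.Co1) = Nat.card T := rfl
  omega

include hg0 hTv hT2 hTn hTc in
/-- every sign change lies in `T` -/
theorem sign_mem (c : Finset GolayPt) (hc : c ∈ CS) :
    (QuotientGroup.mk (g0 * mono 1 c M24.one_mem hc * g0⁻¹) : Spor.Co1) ∈ T := by
  have hT := T_eq_range v g0 hg0 T hTv hT2 hTn hTc
  show _ ∈ (T : Set Spor.Co1)
  rw [hT]
  by_cases hpa : pa ∈ c
  · refine ⟨⟨⟨cᶜ, compl_mem_supports hc⟩, by simpa using hpa⟩, ?_⟩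
    unfold signMap
    show (QuotientGroup.mk (g0 * mono 1 cᶜ M24.one_mem (compl_mem_supports hc) * g0⁻¹) :
      Spor.Co1) = _
    rw [mono_one_compl c hc]
    simp only [QuotientGroup.mk_mul, mk_negCo0, one_mul]
  · exact ⟨⟨⟨c, hc⟩, hpa⟩, rfl⟩

include hg0 hTv hT2 hTn hTc in
/-- the stabiliser of the class of `v` is the product of `T` and the complement -/
theorem decomp (κ : Co0) (hκ : ∃ w : leechLattice, κ • v = v + (w + w)) :
    ∃ t ∈ T, ∃ σ : M24, (QuotientGroup.mk κ : Spor.Co1) = t * muHom g0 σ := by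
  obtain ⟨w, hw⟩ := hκ
  have hst : Stab (g0⁻¹ * κ * g0) := by
    apply stab_of_cong
    refine ⟨g0⁻¹ • w, ?_⟩
    rw [mul_smul, mul_smul, hg0, hw, co0_add, co0_add, ← hg0, inv_smul_smul]
  obtain ⟨σ, c, hσ, hc, h⟩ := exists_mono _ hst
  refine ⟨_, sign_mem v g0 hg0 T hTv hT2 hTn hTc c hc, ⟨σ, hσ⟩, ?_⟩
  rw [muHom_apply, ← QuotientGroup.mk_mul]
  congr 1
  have e : g0 * mono 1 c M24.one_mem hc * g0⁻¹ * (g0 * mono σ ∅ hσ empty_mem_supports * g0⁻¹) =
      g0 * (mono 1 c M24.one_mem hc * mono σ ∅ hσ empty_mem_supports) * g0⁻¹ := by group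
  rw [e, mono_sign_mul, ← h]
  group

include hg0 in
/-- the complement fixes the class of `v` -/
theorem muHom_cong (σ : M24) :
    ∃ w : leechLattice, (g0 * mono σ.1 ∅ σ.2 empty_mem_supports * g0⁻¹) • v = v + (w + w) :=
  conj_cong_of_stab v g0 hg0 (mono_stab _ _ _ _)

end main

end Cfsg.Agent.Lib.Helper4.XS
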