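import Mathlib
import Cfsg.Agent.Lib.Helper4.MonsterConj3
import Cfsg.Agent.Lib.Helper4.CrossStab2

set_option autoImplicit false
set_option linter.unusedSectionVars false

/-!
Groups of Monster type: the image in `C/Q` of the centraliser of a conjugate `s ≠ z` of `z` in `Q`
is a split extension of an elementary abelian group of order `2^11` by `M24`.
-/

namespace Cfsg.Agent.Lib.Helper4.MC

open Cfsg Cfsg.Agent.Lib.Conway Cfsg.Agent.Lib.Helper29 Cfsg.Agent.Lib.Helper4.LXF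
open Cfsg.Agent.Lib.Helper4.C2C

section split

variable {G : Type*} [Group G] [Finite G] {z : G}
  {Q : Subgroup (Subgroup.centralizer ({z} : Set G))} [hQn : Q.Normal]

/-- the three properties of `T` needed on the Conway side -/
theorem TT_props (hS : IsExtraspecialCentralizerSetting z Q 12)
    (e : (Subgroup.centralizer ({z} : Set G)) ⧸ Q ≃* Spor.Co1)
    (ψ : leechLattice → Q ⧸ Subgroup.center Q) (hψ : IsLeechModTwoIso Q e ψ) (x : Q) (g : G)
    (hg : g * z * g⁻¹ = ((x : Subgroup.centralizer ({z} : Set G)) : G))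
    (hne : ((x : Subgroup.centralizer ({z} : Set G)) : G) ≠ z)
    (v : leechLattice) (hxv : ψ v = QuotientGroup.mk x) :
    (∀ γ : Co0, (QuotientGroup.mk γ : Spor.Co1) ∈
        TT e ((x : Subgroup.centralizer ({z} : Set G)) : G) →
      ∃ w : leechLattice, γ • v = v + (w + w)) ∧
    IsPGroup 2 (TT e ((x : Subgroup.centralizer ({z} : Set G)) : G)) ∧
    (∀ κ : Co0, (∃ w : leechLattice, κ • v = v + (w + w)) →
      ∀ t ∈ TT e ((x : Subgroup.centralizer ({z} : Set G)) : G),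
      (QuotientGroup.mk κ : Spor.Co1) * t * (QuotientGroup.mk κ : Spor.Co1)⁻¹ ∈
        TT e ((x : Subgroup.centralizer ({z} : Set G)) : G)) := by
  obtain ⟨hz, hF, hX, hcard, -⟩ := hS
  obtain ⟨hadd, hsurj, hker, hequiv⟩ := hψ
  have hsQ1 : ((x : Subgroup.centralizer ({z} : Set G)) : G) ∈ Q1 Q := mem_Q1.mpr ⟨x, rfl⟩
  have P := pair_of_conj hz hF hX _ hsQ1 hne g hg
  have hfam : Fam (famOf (Q1 Q) z) := fam_fam
  have hzQ := z_mem_Q hF
  have hE := isE2_Q hz hX hzQ
  have hψ2 : ∀ w : leechLattice, ψ (w + w) = 1 := fun w => (hker _).mpr ⟨w, rfl⟩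
  refine ⟨?_, ?_, ?_⟩
  · -- elements of `T` fix the class of `v`
    intro γ hγ
    obtain ⟨r, hr, hrγ⟩ := mem_TT.mp hγ
    have h1 := hequiv r γ hrγ.symm v x hxv
    have hrs : (r : G) * ((x : Subgroup.centralizer ({z} : Set G)) : G) =
        ((x : Subgroup.centralizer ({z} : Set G)) : G) * (r : G) :=
      Q_comm hfam (Pair.mem_R2.mp hr).1
    have h2 : (⟨r * x * r⁻¹, (inferInstance : Q.Normal).conj_mem
        (x : Subgroup.centralizer ({z} : Set G)) x.2 r⟩ : Q) = x := by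
      apply Subtype.ext
      apply Subtype.ext
      show (r : G) * ((x : Subgroup.centralizer ({z} : Set G)) : G) * (r : G)⁻¹ = _
      rw [hrs]; group
    rw [h2, ← hxv] at h1
    have h3 : ψ (γ • v + v) = 1 := by
      rw [hadd, h1]
      exact Cfsg.Agent.Lib.Helper4.MP.psi_sq ψ hadd hker v
    obtain ⟨w, hw⟩ := (hker _).mp h3
    refine ⟨w - v, ?_⟩
    have : γ • v = (γ • v + v) - v := by abel
    rw [this, hw]; abel
  · -- `T` is a 2-group
    unfold TT
    apply IsPGroup.map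
    apply IsPGroup.map
    apply IsPGroup.comap_of_injective _ _ (Subgroup.subtype_injective _)
    exact P.le2.isPGroup.to_le (fun r hr => (Pair.mem_R2.mp hr).1)
  · -- `T` is normalised by the stabiliser of the class
    rintro κ ⟨w, hw⟩ t ht
    obtain ⟨r, hr, rfl⟩ := mem_TT.mp ht
    have hκ : ψ (κ • v) = ψ v := by rw [hw, hadd, hψ2, mul_one]
    obtain ⟨h', hh's, hh'e⟩ := exists_lift_cent P hzQ hE e ψ hequiv v hxv κ hκ
    rw [mem_TT]
    refine ⟨h' * r * h'⁻¹, ?_, ?_⟩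
    · rw [Pair.mem_R2] at hr ⊢
      have hcs : (h' : G) * ((x : Subgroup.centralizer ({z} : Set G)) : G) =
          ((x : Subgroup.centralizer ({z} : Set G)) : G) * (h' : G) := by
        calc (h' : G) * ((x : Subgroup.centralizer ({z} : Set G)) : G)
            = ((h' : G) * ((x : Subgroup.centralizer ({z} : Set G)) : G) * (h' : G)⁻¹) * (h' : G) := by
              group
          _ = _ := by rw [hh's]
      refine ⟨?_, comm_z_of_mem_cent _⟩
      have := Q_normal hfam hcs hr.1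
      simpa using this
    · rw [QuotientGroup.mk_mul, QuotientGroup.mk_mul, QuotientGroup.mk_inv, map_mul, map_mul,
        map_inv, hh'e]

/-- `T` has order `2^11` -/
theorem card_TT (hS : IsExtraspecialCentralizerSetting z Q 12)
    (e : (Subgroup.centralizer ({z} : Set G)) ⧸ Q ≃* Spor.Co1)
    (ψ : leechLattice → Q ⧸ Subgroup.center Q) (hψ : IsLeechModTwoIso Q e ψ) (x : Q) (g : G)
    (hg : g * z * g⁻¹ = ((x : Subgroup.centralizer ({z} : Set G)) : G))
    (hne : ((x : Subgroup.centralizer ({z} : Set G)) : G) ≠ z) :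
    Nat.card (TT e ((x : Subgroup.centralizer ({z} : Set G)) : G)) = 2 ^ 11 := by
  have hEE := card_EE hS e ψ hψ x g hg hne
  obtain ⟨hz, hF, hX, hcard, -⟩ := hS
  have hsQ1 : ((x : Subgroup.centralizer ({z} : Set G)) : G) ∈ Q1 Q := mem_Q1.mpr ⟨x, rfl⟩
  have P := pair_of_conj hz hF hX _ hsQ1 hne g hg
  have hfam : Fam (famOf (Q1 Q) z) := fam_fam
  have hc2 : Nat.card (famOf (Q1 Q) z ((x : Subgroup.centralizer ({z} : Set G)) : G)) = 2 ^ 25 := by
    rw [← hg, card_Q_conj hfam, fam_self]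
    unfold Q1
    rw [Subgroup.card_map_of_injective (Subgroup.subtype_injective _), hcard]
  have h1 := card_Q2_eq P
  have h2 := card_R2_eq e ((x : Subgroup.centralizer ({z} : Set G)) : G)
  rw [hc2, h2, hEE] at h1
  norm_num at h1
  omega

/-- the image of `R2 = Q^g ∩ C` in `C/Q` -/
noncomputable def EQ (Q : Subgroup (Subgroup.centralizer ({z} : Set G))) [Q.Normal] (s : G) :
    Subgroup ((Subgroup.centralizer ({z} : Set G)) ⧸ Q) :=
  ((Pair.R2 (famOf (Q1 Q) z) z s).subgroupOf (Subgroup.centralizer ({z} : Set G))).map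
    (QuotientGroup.mk' Q)

/-- the image of `C_C(s)` in `C/Q` -/
def XQ (Q : Subgroup (Subgroup.centralizer ({z} : Set G))) [Q.Normal] (s : G) :
    Subgroup ((Subgroup.centralizer ({z} : Set G)) ⧸ Q) :=
  ((Subgroup.centralizer ({z} : Set G) ⊓ Subgroup.centralizer ({s} : Set G)).subgroupOf
    (Subgroup.centralizer ({z} : Set G))).map (QuotientGroup.mk' Q)

theorem mem_EQ {s : G} {y : (Subgroup.centralizer ({z} : Set G)) ⧸ Q} :
    y ∈ EQ Q s ↔ ∃ r : Subgroup.centralizer ({z} : Set G),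
      (r : G) ∈ Pair.R2 (famOf (Q1 Q) z) z s ∧ QuotientGroup.mk r = y := by
  unfold EQ
  constructor
  · rintro ⟨r, hr, rfl⟩
    exact ⟨r, Subgroup.mem_subgroupOf.mp hr, rfl⟩
  · rintro ⟨r, hr, rfl⟩
    exact ⟨r, Subgroup.mem_subgroupOf.mpr hr, rfl⟩

theorem mem_XQ {s : G} {y : (Subgroup.centralizer ({z} : Set G)) ⧸ Q} :
    y ∈ XQ Q s ↔ ∃ c : Subgroup.centralizer ({z} : Set G),
      (c : G) * s = s * (c : G) ∧ QuotientGroup.mk c = y := by
  unfold XQ
  constructor
  · rintro ⟨c, hc, rfl⟩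
    have := (Subgroup.mem_inf.mp (Subgroup.mem_subgroupOf.mp hc)).2
    exact ⟨c, (Subgroup.mem_centralizer_singleton_iff.mp this), rfl⟩
  · rintro ⟨c, hc, rfl⟩
    refine ⟨c, Subgroup.mem_subgroupOf.mpr (Subgroup.mem_inf.mpr ⟨c.2, ?_⟩), rfl⟩
    exact Subgroup.mem_centralizer_singleton_iff.mpr hc

theorem TT_eq_map (e : (Subgroup.centralizer ({z} : Set G)) ⧸ Q ≃* Spor.Co1) (s : G) :
    TT e s = (EQ Q s).map e.toMonoidHom := rfl

theorem mem_EQ_iff_TT (e : (Subgroup.centralizer ({z} : Set G)) ⧸ Q ≃* Spor.Co1) (s : G)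
    (y : (Subgroup.centralizer ({z} : Set G)) ⧸ Q) : y ∈ EQ Q s ↔ e y ∈ TT e s := by
  rw [TT_eq_map]
  constructor
  · intro h; exact Subgroup.mem_map_of_mem _ h
  · rintro ⟨y', hy', h⟩
    have : y' = y := e.injective h
    rw [← this]; exact hy'

/-- **The image of the centraliser of `s` in `C/Q` splits over the image of `Q^g ∩ C`.** -/
theorem split_main (hS : IsExtraspecialCentralizerSetting z Q 12)
    (e : (Subgroup.centralizer ({z} : Set G)) ⧸ Q ≃* Spor.Co1)
    (ψ : leechLattice → Q ⧸ Subgroup.center Q) (hψ : IsLeechModTwoIso Q e ψ) (x : Q) (g : G)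
    (hg : g * z * g⁻¹ = ((x : Subgroup.centralizer ({z} : Set G)) : G))
    (hne : ((x : Subgroup.centralizer ({z} : Set G)) : G) ≠ z) :
    EQ Q ((x : Subgroup.centralizer ({z} : Set G)) : G) ≤
      XQ Q ((x : Subgroup.centralizer ({z} : Set G)) : G) ∧
    (∀ a ∈ XQ Q ((x : Subgroup.centralizer ({z} : Set G)) : G),
      ∀ y ∈ EQ Q ((x : Subgroup.centralizer ({z} : Set G)) : G),
        a * y * a⁻¹ ∈ EQ Q ((x : Subgroup.centralizer ({z} : Set G)) : G)) ∧
    Cfsg.IsElementaryAbelian 2 (EQ Q ((x : Subgroup.centralizer ({z} : Set G)) : G)) ∧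
    Nat.card (EQ Q ((x : Subgroup.centralizer ({z} : Set G)) : G)) = 2 ^ 11 ∧
    ∃ K : Subgroup ((Subgroup.centralizer ({z} : Set G)) ⧸ Q),
      K ≤ XQ Q ((x : Subgroup.centralizer ({z} : Set G)) : G) ∧
      EQ Q ((x : Subgroup.centralizer ({z} : Set G)) : G) ⊓ K = ⊥ ∧
      EQ Q ((x : Subgroup.centralizer ({z} : Set G)) : G) ⊔ K =
        XQ Q ((x : Subgroup.centralizer ({z} : Set G)) : G) ∧
      Nonempty (K ≃* Cfsg.M24) := by
  obtain ⟨v, hv, hxv⟩ := fwd hS e ψ hψ x g hg hne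
  obtain ⟨hTv, hT2, hTn⟩ := TT_props hS e ψ hψ x g hg hne v hxv
  have hTcard := card_TT hS e ψ hψ x g hg hne
  obtain ⟨g0, hg0⟩ := trans8 F0 v sqNorm_F0 hv
  obtain ⟨hz, hF, hX, hcard, -⟩ := hS
  obtain ⟨hadd, hsurj, hker, hequiv⟩ := hψ
  have hsQ1 : ((x : Subgroup.centralizer ({z} : Set G)) : G) ∈ Q1 Q := mem_Q1.mpr ⟨x, rfl⟩
  have P := pair_of_conj hz hF hX _ hsQ1 hne g hg
  have hfam : Fam (famOf (Q1 Q) z) := fam_fam
  have hzQ := z_mem_Q hF
  have hE := isE2_Q hz hX hzQ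
  have hψ2 : ∀ w : leechLattice, ψ (w + w) = 1 := fun w => (hker _).mpr ⟨w, rfl⟩
  -- elements of `EE` lie in `Q`
  have hEEQ : ∀ c : Subgroup.centralizer ({z} : Set G), (c : G) ∈ Pair.EE (famOf (Q1 Q) z) z
      ((x : Subgroup.centralizer ({z} : Set G)) : G) → c ∈ Q := by
    intro c hc
    have h1 := (Pair.mem_EE.mp hc).1
    rw [fam_self] at h1
    obtain ⟨q, hq⟩ := mem_Q1.mp h1
    have : c = (q : Subgroup.centralizer ({z} : Set G)) := Subtype.ext hq.symm
    rw [this]; exact q.2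
  have hEX : EQ Q ((x : Subgroup.centralizer ({z} : Set G)) : G) ≤
      XQ Q ((x : Subgroup.centralizer ({z} : Set G)) : G) := by
    intro y hy
    obtain ⟨r, hr, rfl⟩ := mem_EQ.mp hy
    exact mem_XQ.mpr ⟨r, Q_comm hfam (Pair.mem_R2.mp hr).1, rfl⟩
  refine ⟨hEX, ?_, ?_, ?_, ?_⟩
  · -- normality
    intro a ha y hy
    obtain ⟨c, hc, rfl⟩ := mem_XQ.mp ha
    obtain ⟨r, hr, rfl⟩ := mem_EQ.mp hy
    rw [mem_EQ]
    refine ⟨c * r * c⁻¹, ?_, by simp⟩
    rw [Pair.mem_R2] at hr ⊢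
    refine ⟨?_, comm_z_of_mem_cent _⟩
    have := Q_normal hfam hc hr.1
    simpa using this
  · -- elementary abelian
    refine ⟨⟨⟨?_⟩⟩, ?_⟩
    · rintro ⟨a, ha⟩ ⟨b, hb⟩
      apply Subtype.ext
      show a * b = b * a
      obtain ⟨r1, hr1, rfl⟩ := mem_EQ.mp ha
      obtain ⟨r2, hr2, rfl⟩ := mem_EQ.mp hb
      have h1 := P.comm_RR (Pair.R2_le_RR hr1) (Pair.R2_le_RR hr2)
      have h2 : r1 * r2 * r1⁻¹ * r2⁻¹ ∈ Q := hEEQ _ (by simpa using h1)
      have h3 : (QuotientGroup.mk (r1 * r2 * r1⁻¹ * r2⁻¹) :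
          (Subgroup.centralizer ({z} : Set G)) ⧸ Q) = 1 := (QuotientGroup.eq_one_iff _).mpr h2
      rw [← QuotientGroup.mk_mul, ← QuotientGroup.mk_mul]
      have : r1 * r2 = (r1 * r2 * r1⁻¹ * r2⁻¹) * (r2 * r1) := by group
      rw [this, QuotientGroup.mk_mul, h3, one_mul]
    · intro a ha
      obtain ⟨r, hr, rfl⟩ := mem_EQ.mp ha
      have h1 := P.sq_RR (Pair.R2_le_RR hr)
      have h2 : r * r ∈ Q := hEEQ _ (by simpa using h1)
      rw [pow_two, ← QuotientGroup.mk_mul]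
      exact (QuotientGroup.eq_one_iff _).mpr h2
  · -- the order
    rw [← hTcard, TT_eq_map]
    exact (Subgroup.card_map_of_injective e.injective).symm
  · -- the complement
    have hKX : (Cfsg.Agent.Lib.Helper4.XS.muHom g0).range.map e.symm.toMonoidHom ≤
        XQ Q ((x : Subgroup.centralizer ({z} : Set G)) : G) := by
      rintro k ⟨t, ⟨σ, rfl⟩, rfl⟩
      obtain ⟨w, hw⟩ := Cfsg.Agent.Lib.Helper4.XS.muHom_cong v g0 hg0 σ
      have hκ : ψ ((g0 * mono σ.1 ∅ σ.2 Cfsg.Agent.Lib.Helper93.Golay.empty_mem_supports * g0⁻¹) • v) =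
          ψ v := by rw [hw, hadd, hψ2, mul_one]
      obtain ⟨h', hh's, hh'e⟩ := exists_lift_cent P hzQ hE e ψ hequiv v hxv _ hκ
      have hk : e.symm.toMonoidHom (Cfsg.Agent.Lib.Helper4.XS.muHom g0 σ) =
          QuotientGroup.mk h' := by
        show e.symm _ = _
        rw [MulEquiv.symm_apply_eq, hh'e]
        rfl
      rw [hk, mem_XQ]
      refine ⟨h', ?_, rfl⟩
      calc (h' : G) * ((x : Subgroup.centralizer ({z} : Set G)) : G)
          = ((h' : G) * ((x : Subgroup.centralizer ({z} : Set G)) : G) * (h' : G)⁻¹) * (h' : G) := by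
            group
        _ = _ := by rw [hh's]
    refine ⟨(Cfsg.Agent.Lib.Helper4.XS.muHom g0).range.map e.symm.toMonoidHom, ?_, ?_, ?_, ?_⟩
    · exact hKX
    · rw [eq_bot_iff]
      rintro y ⟨hyE, ⟨t, ⟨σ, rfl⟩, hty⟩⟩
      have hey : e y = Cfsg.Agent.Lib.Helper4.XS.muHom g0 σ := by
        rw [← hty]; exact e.apply_symm_apply _
      have h1 := Cfsg.Agent.Lib.Helper4.XS.inter_trivial v g0 hg0 _ hTv hT2 hTn
        ((mem_EQ_iff_TT e _ y).mp hyE) σ hey
      rw [Subgroup.mem_bot]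
      exact (EmbeddingLike.map_eq_one_iff (f := e)).mp h1
    · apply le_antisymm (sup_le hEX hKX)
      intro a ha
      obtain ⟨c, hc, rfl⟩ := mem_XQ.mp ha
      obtain ⟨κ, hκe⟩ := QuotientGroup.mk_surjective (e (QuotientGroup.mk c))
      have h1 := hequiv c κ hκe v x hxv
      have h2 : (⟨c * x * c⁻¹, (inferInstance : Q.Normal).conj_mem
          (x : Subgroup.centralizer ({z} : Set G)) x.2 c⟩ : Q) = x := by
        apply Subtype.ext
        apply Subtype.ext
        show (c : G) * ((x : Subgroup.centralizer ({z} : Set G)) : G) * (c : G)⁻¹ = _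
        rw [hc]; group
      rw [h2, ← hxv] at h1
      have h3 : ψ (κ • v + v) = 1 := by
        rw [hadd, h1]
        exact Cfsg.Agent.Lib.Helper4.MP.psi_sq ψ hadd hker v
      obtain ⟨w, hw⟩ := (hker _).mp h3
      have hκv : ∃ w' : leechLattice, κ • v = v + (w' + w') := by
        refine ⟨w - v, ?_⟩
        have : κ • v = (κ • v + v) - v := by abel
        rw [this, hw]; abel
      obtain ⟨t, ht, σ, hκt⟩ := Cfsg.Agent.Lib.Helper4.XS.decomp v g0 hg0 _ hTv hT2 hTn
        (le_of_eq hTcard.symm) κ hκv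
      have hc' : (QuotientGroup.mk c : (Subgroup.centralizer ({z} : Set G)) ⧸ Q) =
          e.symm t * e.symm (Cfsg.Agent.Lib.Helper4.XS.muHom g0 σ) := by
        rw [← map_mul, ← hκt, hκe, e.symm_apply_apply]
      rw [hc']
      apply Subgroup.mul_mem_sup
      · rw [mem_EQ_iff_TT e, e.apply_symm_apply]; exact ht
      · exact ⟨_, ⟨σ, rfl⟩, rfl⟩
    · exact ⟨((MonoidHom.ofInjective (Cfsg.Agent.Lib.Helper4.XS.muHom_injective g0)).trans
        (Subgroup.equivMapOfInjective _ e.symm.toMonoidHom e.symm.injective)).symm⟩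

end split

end Cfsg.Agent.Lib.Helper4.MC
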