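import Mathlib
import Cfsg.Agent.Lib.Helper4.MonsterConj4
import Cfsg.Agent.S0392

set_option autoImplicit false
set_option linter.unusedSectionVars false

/-!
Groups of Monster type: the commutator pairing on `Q` is the inner product of the Leech lattice
(divided by 8, modulo 2).
-/

namespace Cfsg.Agent.Lib.Helper4.BM

open Cfsg Cfsg.Agent.Lib.Conway Cfsg.Agent.Lib.Helper29 Cfsg.Agent.Lib.Helper4.EQ
open Cfsg.Agent.Lib.Helper4.MP

section form

variable {P : Type*} [Group P] [Finite P] {z0 : P} (hE : IsE2 P z0)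
  (ψ : leechLattice → P ⧸ Subgroup.center P)
  (hadd : ∀ v w : leechLattice, ψ (v + w) = ψ v * ψ w)
  (hsurj : Function.Surjective ψ)
  (hker : ∀ v : leechLattice, ψ v = 1 ↔ ∃ w : leechLattice, v = w + w)
  (hconj : ∀ (g : Co0) (v : leechLattice), ∃ x y : P, ψ v = QuotientGroup.mk x ∧
    ψ (g • v) = QuotientGroup.mk y ∧ (y * y = 1 ↔ x * x = 1))

include hE hadd hsurj hker hconj in
theorem bb_formula (hna : ∃ x y : P, x * y ≠ y * x) (v w : leechLattice) :
    bb ψ v w = ((dotInt (v : GolayPt → ℤ) (w : GolayPt → ℤ) / 8 : ℤ) : ZMod 2) := by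
  have h1 := qf_add hE ψ hadd v w
  rw [qf_formula hE ψ hadd hsurj hker hconj hna, qf_formula hE ψ hadd hsurj hker hconj hna,
    qf_formula hE ψ hadd hsurj hker hconj hna] at h1
  obtain ⟨a, ha⟩ := Cfsg.Agent.S0392.result (v : GolayPt → ℤ) v.2
  obtain ⟨b, hb⟩ := Cfsg.Agent.S0392.result (w : GolayPt → ℤ) w.2
  obtain ⟨c, hc⟩ := Cfsg.Agent.S0393.eight_dvd_dot v.2 w.2
  have h2 : sqNorm ((v + w : leechLattice) : GolayPt → ℤ) = 16 * (a + b + c) := by
    rw [AddSubgroup.coe_add, Cfsg.Agent.S0393.sqNorm_add, ha, hb, hc]; ring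
  rw [h2, ha, hb] at h1
  rw [hc]
  have e1 : (16 * (a + b + c) / 16 : ℤ) = a + b + c := by omega
  have e2 : (16 * a / 16 : ℤ) = a := by omega
  have e3 : (16 * b / 16 : ℤ) = b := by omega
  have e4 : (8 * c / 8 : ℤ) = c := by omega
  rw [e1, e2, e3] at h1
  rw [e4]
  push_cast at h1
  have h3 : ∀ x y u : ZMod 2, x + y + u = x + y + bb ψ v w → bb ψ v w = u := by
    intro x y u h; exact (add_left_cancel h).symm
  exact h3 _ _ _ h1

include hE hadd hsurj hker hconj in
/-- two elements of the group commute iff the corresponding lattice vectors have inner product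
divisible by 16 -/
theorem comm_iff (hna : ∃ x y : P, x * y ≠ y * x) {v w : leechLattice} {x y : P}
    (hx : ψ v = QuotientGroup.mk x) (hy : ψ w = QuotientGroup.mk y) :
    x * y = y * x ↔ (16 : ℤ) ∣ dotInt (v : GolayPt → ℤ) (w : GolayPt → ℤ) := by
  have h1 := bb_formula hE ψ hadd hsurj hker hconj hna v w
  have h2 : bb ψ v w = cmb x y := by
    unfold bb
    apply cmb_congr hE
    · rw [QuotientGroup.out_eq', hx]
    · rw [QuotientGroup.out_eq', hy]
  rw [h2] at h1
  obtain ⟨c, hc⟩ := Cfsg.Agent.S0393.eight_dvd_dot v.2 w.2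
  rw [hc] at h1 ⊢
  have e4 : (8 * c / 8 : ℤ) = c := by omega
  rw [e4] at h1
  rw [← cmb_eq_zero_iff, h1, ZMod.intCast_zmod_eq_zero_iff_dvd]
  constructor
  · rintro ⟨d, rfl⟩; exact ⟨d, by ring⟩
  · rintro ⟨d, hd⟩; exact ⟨d, by omega⟩

end form

end Cfsg.Agent.Lib.Helper4.BM
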