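import Mathlib
import Cfsg.Agent.Lib.Helper4.MonsterConj4
import Cfsg.Agent.S0392

set_option autoImplicit false
set_option linter.unusedSectionVars false

/-!
The stabiliser of a minimal vector `u` of the Leech lattice acts faithfully on the section
`u^⊥ / <u>` of the lattice modulo 2.
-/

namespace Cfsg.Agent.Lib.Helper4.BM

open Cfsg Cfsg.Agent.Lib.Conway Cfsg.Agent.Lib.Helper29 Cfsg.Agent.Lib.Helper4.C2C
open Cfsg.Agent.Lib.Helper4.MC

/-- the elements fixing `u` and acting trivially on `A` modulo `M` -/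
def DD (u : leechLattice) (A M : AddSubgroup leechLattice)
    (hA : ∀ κ : Co0, κ • u = u → ∀ x ∈ A, κ • x ∈ A)
    (hM : ∀ κ : Co0, κ • u = u → ∀ x ∈ M, κ • x ∈ M) : Subgroup Co0 where
  carrier := {g | g • u = u ∧ ∀ x ∈ A, g • x - x ∈ M}
  one_mem' := ⟨co0_one_smul u, fun x _ => by rw [co0_one_smul, sub_self]; exact M.zero_mem⟩
  mul_mem' := by
    rintro g h ⟨hg, hg'⟩ ⟨hh, hh'⟩
    refine ⟨by rw [co0_mul_smul, hh, hg], fun x hx => ?_⟩
    have e : (g * h) • x - x = g • (h • x - x) + (g • x - x) := by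
      rw [co0_mul_smul, co0_sub]; abel
    rw [e]
    exact M.add_mem (hM g hg _ (hh' x hx)) (hg' x hx)
  inv_mem' := by
    rintro g ⟨hg, hg'⟩
    have hgi : g⁻¹ • u = u := by rw [inv_smul_eq_iff, hg]
    refine ⟨hgi, fun x hx => ?_⟩
    have h1 := hg' (g⁻¹ • x) (hA g⁻¹ hgi x hx)
    rw [smul_inv_smul] at h1
    have e : g⁻¹ • x - x = -(x - g⁻¹ • x) := by abel
    rw [e]
    exact M.neg_mem h1

theorem mem_DD {u : leechLattice} {A M : AddSubgroup leechLattice}
    {hA : ∀ κ : Co0, κ • u = u → ∀ x ∈ A, κ • x ∈ A}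
    {hM : ∀ κ : Co0, κ • u = u → ∀ x ∈ M, κ • x ∈ M} {g : Co0} :
    g ∈ DD u A M hA hM ↔ g • u = u ∧ ∀ x ∈ A, g • x - x ∈ M := Iff.rfl

theorem DD_normal {u : leechLattice} {A M : AddSubgroup leechLattice}
    (hA : ∀ κ : Co0, κ • u = u → ∀ x ∈ A, κ • x ∈ A)
    (hM : ∀ κ : Co0, κ • u = u → ∀ x ∈ M, κ • x ∈ M) (κ : Co0) (hκ : κ • u = u) (g : Co0)
    (hg : g ∈ DD u A M hA hM) : κ * g * κ⁻¹ ∈ DD u A M hA hM := by
  obtain ⟨hg, hg'⟩ := hg
  have hκi : κ⁻¹ • u = u := by rw [inv_smul_eq_iff, hκ]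
  refine ⟨by rw [co0_mul_smul, co0_mul_smul, hκi, hg, hκ], fun x hx => ?_⟩
  have e : (κ * g * κ⁻¹) • x - x = κ • (g • (κ⁻¹ • x) - κ⁻¹ • x) := by
    rw [co0_mul_smul, co0_mul_smul, co0_sub, smul_inv_smul]
  rw [e]
  exact hM κ hκ _ (hg' _ (hA κ⁻¹ hκi x hx))

/-- twice the lattice -/
def twoL : AddSubgroup leechLattice where
  carrier := {x | ∃ w : leechLattice, x = w + w}
  zero_mem' := ⟨0, by simp⟩
  add_mem' := by
    rintro a b ⟨w, rfl⟩ ⟨w', rfl⟩
    exact ⟨w + w', by abel⟩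
  neg_mem' := by
    rintro a ⟨w, rfl⟩
    exact ⟨-w, by abel⟩

theorem mem_twoL {x : leechLattice} : x ∈ twoL ↔ ∃ w : leechLattice, x = w + w := Iff.rfl

theorem twoL_inv (κ : Co0) (x : leechLattice) (hx : x ∈ twoL) : κ • x ∈ twoL := by
  obtain ⟨w, rfl⟩ := hx
  exact ⟨κ • w, by rw [co0_add]⟩

/-- an automorphism fixing a minimal vector and acting trivially on the lattice modulo 2 is
trivial -/
theorem eq_one_of_cong (u : leechLattice) (hu : sqNorm (u : Vec) = 32) (g : Co0) (hgu : g • u = u)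
    (hg : ∀ x : leechLattice, ∃ w : leechLattice, g • x = x + (w + w)) : g = 1 := by
  have hA : ∀ κ : Co0, κ • u = u → ∀ x ∈ (⊤ : AddSubgroup leechLattice), κ • x ∈
      (⊤ : AddSubgroup leechLattice) := fun _ _ _ _ => AddSubgroup.mem_top _
  have hM : ∀ κ : Co0, κ • u = u → ∀ x ∈ twoL, κ • x ∈ twoL := fun κ _ x hx => twoL_inv κ x hx
  have hbot : DD u ⊤ twoL hA hM = ⊥ := by
    apply no_normal_two u hu
    · -- 2-group
      rintro ⟨a, ha⟩
      refine ⟨1, ?_⟩
      apply Subtype.ext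
      show a ^ 2 ^ 1 = 1
      have hpm : ∀ x : leechLattice, sqNorm (x : Vec) = 32 → a • x = x ∨ a • x = -x := by
        intro x hx
        obtain ⟨w, hw⟩ := ha.2 x (AddSubgroup.mem_top _)
        have hn : sqNorm ((a • x : leechLattice) : Vec) = 32 := by rw [co0_norm, hx]
        refine pm_of_cong x (a • x) (x + w) hx hn ?_
        have : a • x = x + (w + w) := by
          have := congrArg (fun y => y + x) hw
          simp only [sub_add_cancel] at this
          rw [this]; abel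
        rw [this]; abel
      have hsq : ∀ x : leechLattice, sqNorm (x : Vec) = 32 → (a * a) • x = x := by
        intro x hx
        rw [co0_mul_smul]
        rcases hpm x hx with h | h
        · rw [h, h]
        · rw [h, co0_neg, h, neg_neg]
      rw [pow_one, pow_two]
      exact eq_one_of_fix (a * a) (hsq V0 sqNorm_v0) fun w hw => hsq w hw.1
    · intro a ha; exact ha.1
    · intro κ hκ a ha; exact DD_normal hA hM κ hκ a ha
  have hmem : g ∈ DD u ⊤ twoL hA hM := by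
    refine ⟨hgu, fun x _ => ?_⟩
    obtain ⟨w, hw⟩ := hg x
    exact ⟨w, by rw [hw]; abel⟩
  rw [hbot] at hmem
  exact Subgroup.mem_bot.mp hmem

end Cfsg.Agent.Lib.Helper4.BM
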