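import Mathlib
import Cfsg.Agent.Lib.Helper4.BabyLat

set_option autoImplicit false
set_option linter.unusedSectionVars false

namespace Cfsg.Agent.Lib.Helper4.BM

open Cfsg Cfsg.Agent.Lib.Conway Cfsg.Agent.Lib.Helper29 Cfsg.Agent.Lib.Helper4.C2C
open Cfsg.Agent.Lib.Helper4.MC

theorem sqNorm_leechU : sqNorm ((Spor.leechU : leechLattice) : Vec) = 32 := by
  show sqNorm Spor.vecU = 32
  unfold sqNorm
  decide +kernel

/-- twice the lattice together with its translate by `u` -/
def twoLU : AddSubgroup leechLattice where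
  carrier := {x | (∃ w : leechLattice, x = w + w) ∨ ∃ w : leechLattice, x = Spor.leechU + (w + w)}
  zero_mem' := Or.inl ⟨0, by simp⟩
  add_mem' := by
    rintro a b (⟨w, rfl⟩ | ⟨w, rfl⟩) (⟨w', rfl⟩ | ⟨w', rfl⟩)
    · exact Or.inl ⟨w + w', by abel⟩
    · exact Or.inr ⟨w + w', by abel⟩
    · exact Or.inr ⟨w + w', by abel⟩
    · exact Or.inl ⟨Spor.leechU + w + w', by abel⟩
  neg_mem' := by
    rintro a (⟨w, rfl⟩ | ⟨w, rfl⟩)
    · exact Or.inl ⟨-w, by abel⟩
    · exact Or.inr ⟨-Spor.leechU - w, by abel⟩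

theorem mem_twoLU {x : leechLattice} : x ∈ twoLU ↔
    (∃ w : leechLattice, x = w + w) ∨ ∃ w : leechLattice, x = Spor.leechU + (w + w) := Iff.rfl

theorem twoL_le_twoLU : twoL ≤ twoLU := fun _ hx => Or.inl hx

theorem twoLU_inv (κ : Co0) (hκ : κ • Spor.leechU = Spor.leechU) (x : leechLattice)
    (hx : x ∈ twoLU) : κ • x ∈ twoLU := by
  rcases hx with ⟨w, rfl⟩ | ⟨w, rfl⟩
  · exact Or.inl ⟨κ • w, by rw [co0_add]⟩
  · exact Or.inr ⟨κ • w, by rw [co0_add, co0_add, hκ]⟩

theorem mem_perp {x : leechLattice} :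
    x ∈ leechPerpU ↔ (16 : ℤ) ∣ dotInt (x : Vec) Spor.vecU := Iff.rfl

theorem perp_inv (κ : Co0) (hκ : κ • Spor.leechU = Spor.leechU) (x : leechLattice)
    (hx : x ∈ leechPerpU) : κ • x ∈ leechPerpU := by
  rw [mem_perp] at hx ⊢
  have h1 := co0_dot κ x Spor.leechU
  rw [hκ] at h1
  have h2 : dotInt ((κ • x : leechLattice) : Vec) Spor.vecU = dotInt (x : Vec) Spor.vecU := h1
  rw [h2]; exact hx

/-- the difference `κ x - x` is orthogonal to `u` when `κ` fixes `u` -/
theorem sub_mem_perp (κ : Co0) (hκ : κ • Spor.leechU = Spor.leechU) (x : leechLattice) :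
    κ • x - x ∈ leechPerpU := by
  rw [mem_perp]
  have h1 := co0_dot κ x Spor.leechU
  rw [hκ] at h1
  have h2 : dotInt ((κ • x : leechLattice) : Vec) Spor.vecU = dotInt (x : Vec) Spor.vecU := h1
  have h3 : ((κ • x - x : leechLattice) : Vec) = ((κ • x : leechLattice) : Vec) - (x : Vec) := rfl
  rw [h3]
  have h4 : dotInt (((κ • x : leechLattice) : Vec) - (x : Vec)) Spor.vecU =
      dotInt ((κ • x : leechLattice) : Vec) Spor.vecU - dotInt (x : Vec) Spor.vecU := by
    unfold dotInt
    rw [← Finset.sum_sub_distrib]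
    exact Finset.sum_congr rfl fun i _ => by simp only [Pi.sub_apply]; ring
  rw [h4, h2, sub_self]
  exact dvd_zero _

/-- **Faithfulness**: an automorphism fixing `u` and acting trivially on `u^⊥` modulo `<u>` and
twice the lattice is trivial. -/
theorem co2_faithful (g : Co0) (hgu : g • Spor.leechU = Spor.leechU)
    (hg : ∀ x ∈ leechPerpU, g • x - x ∈ twoLU) : g = 1 := by
  have hA : ∀ κ : Co0, κ • Spor.leechU = Spor.leechU → ∀ x ∈ leechPerpU, κ • x ∈ leechPerpU :=
    fun κ hκ x hx => perp_inv κ hκ x hx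
  have hM : ∀ κ : Co0, κ • Spor.leechU = Spor.leechU → ∀ x ∈ twoLU, κ • x ∈ twoLU :=
    fun κ hκ x hx => twoLU_inv κ hκ x hx
  have hbot : DD Spor.leechU leechPerpU twoLU hA hM = ⊥ := by
    apply no_normal_two Spor.leechU sqNorm_leechU
    · rintro ⟨a, ha⟩
      refine ⟨2, ?_⟩
      apply Subtype.ext
      show a ^ 2 ^ 2 = 1
      obtain ⟨hau, ha'⟩ := ha
      -- step 1
      have h1 : ∀ x : leechLattice, (a * a) • x - x ∈ twoLU := by
        intro x
        have hy := sub_mem_perp a hau x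
        have e : (a * a) • x - x = (a • (a • x - x) - (a • x - x)) + ((a • x - x) + (a • x - x)) := by
          rw [co0_mul_smul, co0_sub]; abel
        rw [e]
        exact twoLU.add_mem (ha' _ hy) (Or.inl ⟨_, rfl⟩)
      have hau2 : (a * a) • Spor.leechU = Spor.leechU := by rw [co0_mul_smul, hau, hau]
      -- step 2
      have h2 : ∀ x : leechLattice, ∃ w : leechLattice, ((a * a) * (a * a)) • x = x + (w + w) := by
        intro x
        have e : ((a * a) * (a * a)) • x =
            x + (((a * a) • ((a * a) • x - x) - ((a * a) • x - x)) +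
              (((a * a) • x - x) + ((a * a) • x - x))) := by
          rw [co0_mul_smul (a * a) (a * a), co0_sub]; abel
        have h3 : ∃ w : leechLattice, (a * a) • ((a * a) • x - x) - ((a * a) • x - x) = w + w := by
          rcases h1 x with ⟨w, hw⟩ | ⟨w, hw⟩
          · refine ⟨(a * a) • w - w, ?_⟩
            rw [hw, co0_add]; abel
          · refine ⟨(a * a) • w - w, ?_⟩
            rw [hw, co0_add, co0_add, hau2]; abel
        obtain ⟨w, hw⟩ := h3
        refine ⟨w + ((a * a) • x - x), ?_⟩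
        rw [e, hw]; abel
      have h4 := eq_one_of_cong Spor.leechU sqNorm_leechU ((a * a) * (a * a))
        (by rw [co0_mul_smul, hau2, hau2]) h2
      rw [show (2 : ℕ) ^ 2 = 4 from rfl, pow_succ, pow_succ, pow_succ, pow_one, ← h4]
      simp only [mul_assoc]
    · intro a ha; exact ha.1
    · intro κ hκ a ha; exact DD_normal hA hM κ hκ a ha
  have hmem : g ∈ DD Spor.leechU leechPerpU twoLU hA hM := ⟨hgu, hg⟩
  rw [hbot] at hmem
  exact Subgroup.mem_bot.mp hmem

end Cfsg.Agent.Lib.Helper4.BM
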