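import Mathlib
import Cfsg.Agent.Lib.Helper4.BabyLat2
import Cfsg.Agent.Lib.Conway.Norm4

set_option autoImplicit false
set_option linter.unusedSectionVars false

namespace Cfsg.Agent.Lib.Helper4.BM

open Cfsg Cfsg.Agent.Lib.Conway Cfsg.Agent.Lib.Helper29 Cfsg.Agent.Lib.Helper4.C2C
open Cfsg.Agent.Lib.Helper4.MC
open Cfsg.Agent.Lib.Helper93.Leech Cfsg.Agent.Lib.Helper93.Golay

/-- a sign change moving the octad vector `LB` by a minimal vector -/
theorem exists_sign_type2 : ∃ (c : Finset GolayPt) (hc : c ∈ CS),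
    sqNorm (((mono 1 c M24.one_mem hc • LB - LB : leechLattice)) : Vec) = 32 := by
  have hpa : pa ∈ fset o0 := by decide
  have hpb : pb ∈ fset o0 := by decide
  obtain ⟨c, hc, hcO⟩ := restrict_pairs o0 pairCheck_o0 pa hpa pb hpb pa_ne_pb
  refine ⟨c, hc, ?_⟩
  have hval : ∀ i, ((mono 1 c M24.one_mem hc • LB - LB : leechLattice) : Vec) i =
      if i = pa ∨ i = pb then -4 else 0 := by
    intro i
    show ((mono 1 c M24.one_mem hc • LB : leechLattice) : Vec) i - (LB : Vec) i = _
    rw [mono_smul, signedPerm_apply]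
    have hLB : ∀ j, (LB : Vec) j = if j ∈ fset o0 then (2 : ℤ) else 0 := fun j => rfl
    have hone : (Equiv.symm (1 : Equiv.Perm GolayPt)) i = i := rfl
    rw [hone, hLB]
    have hmem : i ∈ c ∩ fset o0 ↔ i = pa ∨ i = pb := by
      rw [hcO]; simp
    rw [Finset.mem_inter] at hmem
    by_cases hic : i ∈ c
    · by_cases hiO : i ∈ fset o0
      · rw [if_pos hic, if_pos hiO, if_pos (hmem.mp ⟨hic, hiO⟩)]; norm_num
      · rw [if_pos hic, if_neg hiO, if_neg (fun h => hiO (hmem.mpr h).2)]; norm_num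
    · rw [if_neg hic, if_neg (fun h => hic (hmem.mpr h).1)]; ring
  unfold sqNorm
  simp_rw [hval]
  decide +kernel

theorem dot_LB_F0 : (16 : ℤ) ∣ dotInt (LB : Vec) (F0 : Vec) := by
  have h1 : dotInt (LB : Vec) (F0 : Vec) = 8 * (LB : Vec) pa := by
    unfold dotInt
    rw [Finset.sum_eq_single pa]
    · show (LB : Vec) pa * (Pi.single pa 8 : Vec) pa = _
      rw [Pi.single_eq_same]; ring
    · intro j _ hj
      show (LB : Vec) j * (Pi.single pa 8 : Vec) j = 0
      rw [Pi.single_eq_of_ne hj, mul_zero]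
    · intro h; exact absurd (Finset.mem_univ _) h
  rw [h1]
  have h2 : (LB : Vec) pa = 2 := by decide
  rw [h2]; norm_num

end Cfsg.Agent.Lib.Helper4.BM
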