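import Mathlib
import Cfsg.Agent.Lib.Helper4.BabyLat3
import Cfsg.Agent.Lib.Helper4.BabyForm
import Cfsg.Agent.Lib.Helper22.CharP
import Cfsg.Agent.Lib.Helper22.Fitting

set_option autoImplicit false
set_option linter.unusedSectionVars false

namespace Cfsg.Agent.Lib.Helper4.BM

open Cfsg Cfsg.Agent.Lib.Conway Cfsg.Agent.Lib.Helper29 Cfsg.Agent.Lib.Helper4.C2C
open Cfsg.Agent.Lib.Helper4.MC

/-- the inclusion of `Co2` in `Co0` -/
def co2Incl : Spor.Co2 →* Co0 := Subgroup.inclusion inf_le_left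

theorem co2Incl_smul (g : Spor.Co2) (v : leechLattice) : co2Incl g • v = g • v := rfl

theorem co2Incl_injective : Function.Injective co2Incl := Subgroup.inclusion_injective _

theorem co2_fix (g : Spor.Co2) : co2Incl g • Spor.leechU = Spor.leechU := by
  rw [co2Incl_smul]
  exact MulAction.mem_stabilizer_iff.mp g.2.2

/-- an element of `Co0` fixing `u`, as an element of `Co2` -/
def toCo2 (κ : Co0) (hκ : κ • Spor.leechU = Spor.leechU) : Spor.Co2 :=
  ⟨κ.1, ⟨κ.2, MulAction.mem_stabilizer_iff.mpr hκ⟩⟩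

theorem co2Incl_toCo2 (κ : Co0) (hκ : κ • Spor.leechU = Spor.leechU) :
    co2Incl (toCo2 κ hκ) = κ := rfl

/-- if `X / N` is `Co2`, `N` is a `2`-group and `C_X(N) ≤ N`, then `F*(X) = N` -/
theorem fstar_eq_of_co2 {X : Type*} [Group X] [Finite X] (N : Subgroup X) [hNn : N.Normal]
    (hN2 : IsPGroup 2 N) (Φ : X →* Spor.Co2) (hΦ : Function.Surjective Φ) (hker : Φ.ker = N)
    (hcent : Subgroup.centralizer (N : Set X) ≤ N) : generalizedFittingSubgroup X = N := by
  have : Fact (Nat.Prime 2) := ⟨Nat.prime_two⟩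
  have hcore : pCore 2 X = N := by
    apply le_antisymm _ (le_sSup (show N ∈ {N : Subgroup X | N.Normal ∧ IsPGroup 2 N} from
      ⟨hNn, hN2⟩))
    have hPn : (pCore 2 X).Normal := Cfsg.Agent.Lib.Helper22.pCore_normal' 2 X
    have hP2 : IsPGroup 2 (pCore 2 X) := Cfsg.Agent.Lib.Helper22.pCore_isPGroup' 2 X
    have hbot : ((pCore 2 X).map Φ).map co2Incl = ⊥ := by
      apply no_normal_two Spor.leechU sqNorm_leechU
      · exact (hP2.map Φ).map co2Incl
      · rintro _ ⟨g, -, rfl⟩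
        exact co2_fix g
      · rintro κ hκ _ ⟨_, ⟨p, hp, rfl⟩, rfl⟩
        obtain ⟨y, hy⟩ := hΦ (toCo2 κ hκ)
        refine ⟨Φ (y * p * y⁻¹), ⟨_, hPn.conj_mem p hp y, rfl⟩, ?_⟩
        simp only [map_mul, map_inv, hy, co2Incl_toCo2]
    rw [Subgroup.map_eq_bot_iff_of_injective _ co2Incl_injective, Subgroup.map_eq_bot_iff] at hbot
    rw [← hker]; exact hbot
  rw [← hcore] at hcent ⊢
  exact (Cfsg.Agent.Lib.Helper22.generalizedFitting_eq_pCore_iff 2).mpr hcent

end Cfsg.Agent.Lib.Helper4.BM
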