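import Mathlib
import Cfsg.Agent.Lib.Helper4.BabyGrp1

set_option autoImplicit false
set_option linter.unusedSectionVars false

namespace Cfsg.Agent.Lib.Helper4.BM

open Cfsg Cfsg.Agent.Lib.Conway Cfsg.Agent.Lib.Helper29

section image

variable {D X : Type*} [Group D] [Group X] (π : D →* X) (QD : Subgroup D) (zD tD : D)

/-- the image of a group `QD` with commutators in `{1, zD}` and centre `<zD, tD>` under a map with
kernel `{1, tD}` has centre `{1, π zD}` containing the commutators -/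
theorem isE2_map (hker : ∀ d : D, π d = 1 ↔ d = 1 ∨ d = tD)
    (hzQ : zD ∈ QD) (hzc : ∀ q ∈ QD, zD * q = q * zD) (hz1 : zD ≠ 1) (hzt : zD ≠ tD)
    (hcomm : ∀ q ∈ QD, ∀ q' ∈ QD, q * q' = q' * q ∨ q * q' = zD * (q' * q))
    (hcen : ∀ q ∈ QD, (∀ q' ∈ QD, q * q' = q' * q) → q = 1 ∨ q = zD ∨ q = tD ∨ q = zD * tD) :
    IsE2 ↥(QD.map π) ⟨π zD, Subgroup.mem_map_of_mem π hzQ⟩ := by
  have hπz : π zD ≠ 1 := by
    intro h
    rcases (hker zD).mp h with h1 | h1
    · exact hz1 h1
    · exact hzt h1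
  have hπt : π tD = 1 := (hker tD).mpr (Or.inr rfl)
  have hzcen : (⟨π zD, Subgroup.mem_map_of_mem π hzQ⟩ : ↥(QD.map π)) ∈
      Subgroup.center ↥(QD.map π) := by
    rw [Subgroup.mem_center_iff]
    rintro ⟨_, q, hq, rfl⟩
    apply Subtype.ext
    show π q * π zD = π zD * π q
    rw [← map_mul, ← map_mul, hzc q hq]
  refine ⟨hzcen, fun h => hπz (congrArg Subtype.val h), ?_, ?_⟩
  · rintro ⟨_, q, hq, rfl⟩ hw
    rw [Subgroup.mem_center_iff] at hw
    have hall : ∀ q' ∈ QD, q * q' = q' * q := by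
      intro q' hq'
      have h1 := congrArg Subtype.val (hw ⟨π q', Subgroup.mem_map_of_mem π hq'⟩)
      have h2 : π q' * π q = π q * π q' := h1
      rcases hcomm q hq q' hq' with h3 | h3
      · exact h3
      · exfalso
        have h4 : π (q' * q) = π zD * π (q' * q) := by
          calc π (q' * q) = π q' * π q := map_mul _ _ _
            _ = π q * π q' := h2
            _ = π (q * q') := (map_mul _ _ _).symm
            _ = π (zD * (q' * q)) := by rw [h3]
            _ = π zD * π (q' * q) := map_mul _ _ _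
        have h5 : 1 * π (q' * q) = π zD * π (q' * q) := by rw [one_mul]; exact h4
        exact hπz (mul_right_cancel h5).symm
    rcases hcen q hq hall with h | h | h | h
    · left; apply Subtype.ext; show π q = 1; rw [h, map_one]
    · right; apply Subtype.ext; show π q = π zD; rw [h]
    · left; apply Subtype.ext; show π q = 1; rw [h, hπt]
    · right; apply Subtype.ext; show π q = π zD; rw [h, map_mul, hπt, mul_one]
  · unfold commutator
    rw [Subgroup.commutator_le]
    rintro ⟨_, q, hq, rfl⟩ - ⟨_, q', hq', rfl⟩ -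
    rw [commutatorElement_def]
    rcases hcomm q hq q' hq' with h3 | h3
    · have : (⟨π q, Subgroup.mem_map_of_mem π hq⟩ : ↥(QD.map π)) *
          (⟨π q', Subgroup.mem_map_of_mem π hq'⟩ : ↥(QD.map π)) *
          (⟨π q, Subgroup.mem_map_of_mem π hq⟩ : ↥(QD.map π))⁻¹ *
          (⟨π q', Subgroup.mem_map_of_mem π hq'⟩ : ↥(QD.map π))⁻¹ = 1 := by
        apply Subtype.ext
        show π q * π q' * (π q)⁻¹ * (π q')⁻¹ = 1
        rw [← map_mul, h3, map_mul]; group
      rw [this]; exact Subgroup.one_mem _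
    · have : (⟨π q, Subgroup.mem_map_of_mem π hq⟩ : ↥(QD.map π)) *
          (⟨π q', Subgroup.mem_map_of_mem π hq'⟩ : ↥(QD.map π)) *
          (⟨π q, Subgroup.mem_map_of_mem π hq⟩ : ↥(QD.map π))⁻¹ *
          (⟨π q', Subgroup.mem_map_of_mem π hq'⟩ : ↥(QD.map π))⁻¹ =
          ⟨π zD, Subgroup.mem_map_of_mem π hzQ⟩ := by
        apply Subtype.ext
        show π q * π q' * (π q)⁻¹ * (π q')⁻¹ = π zD
        rw [← map_mul, h3, map_mul, map_mul]; group
      rw [this]; exact hzcen

theorem not_comm_map (hker : ∀ d : D, π d = 1 ↔ d = 1 ∨ d = tD)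
    (hz1 : zD ≠ 1) (hzt : zD ≠ tD)
    (hcomm : ∀ q ∈ QD, ∀ q' ∈ QD, q * q' = q' * q ∨ q * q' = zD * (q' * q))
    (hna : ∃ q ∈ QD, ∃ q' ∈ QD, q * q' ≠ q' * q) :
    ∃ x y : ↥(QD.map π), x * y ≠ y * x := by
  obtain ⟨q, hq, q', hq', hne⟩ := hna
  have hπz : π zD ≠ 1 := by
    intro h
    rcases (hker zD).mp h with h1 | h1
    · exact hz1 h1
    · exact hzt h1
  refine ⟨⟨π q, Subgroup.mem_map_of_mem π hq⟩, ⟨π q', Subgroup.mem_map_of_mem π hq'⟩, ?_⟩
  intro h
  have h2 : π q * π q' = π q' * π q := congrArg Subtype.val h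
  rcases hcomm q hq q' hq' with h3 | h3
  · exact hne h3
  · have h4 : π (q' * q) = π zD * π (q' * q) := by
      calc π (q' * q) = π q' * π q := map_mul _ _ _
        _ = π q * π q' := h2.symm
        _ = π (q * q') := (map_mul _ _ _).symm
        _ = π (zD * (q' * q)) := by rw [h3]
        _ = π zD * π (q' * q) := map_mul _ _ _
    have h5 : 1 * π (q' * q) = π zD * π (q' * q) := by rw [one_mul]; exact h4
    exact hπz (mul_right_cancel h5).symm

theorem card_map_two [Finite D] (hker : ∀ d : D, π d = 1 ↔ d = 1 ∨ d = tD) (htQ : tD ∈ QD)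
    (ht1 : tD ≠ 1) : Nat.card QD = 2 * Nat.card ↥(QD.map π) := by
  have h1 := Cfsg.Agent.Lib.Helper4.MC.card_eq_ker_mul_range (π.comp QD.subtype)
  have h2 : (π.comp QD.subtype).range = QD.map π := by
    rw [MonoidHom.range_comp, Subgroup.range_subtype]
  have h3 : Nat.card (π.comp QD.subtype).ker = 2 := by
    rw [Nat.card_eq_two_iff]
    refine ⟨1, ⟨⟨tD, htQ⟩, ?_⟩, ?_, ?_⟩
    · rw [MonoidHom.mem_ker]
      exact (hker tD).mpr (Or.inr rfl)
    · intro h
      have := congrArg (fun x : (π.comp QD.subtype).ker => ((x : QD) : D)) h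
      exact ht1 this.symm
    · ext ⟨⟨d, hd⟩, hdk⟩
      simp only [Set.mem_insert_iff, Set.mem_singleton_iff, Set.mem_univ, iff_true]
      rw [MonoidHom.mem_ker] at hdk
      rcases (hker d).mp hdk with h | h
      · left; apply Subtype.ext; apply Subtype.ext; exact h
      · right; apply Subtype.ext; apply Subtype.ext; exact h
  rw [h1, h2, h3]

end image

end Cfsg.Agent.Lib.Helper4.BM
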