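import Mathlib
import Cfsg.Agent.Lib.Helper4.BabyGrp2
import Cfsg.Agent.Lib.Helper4.BabyE2

set_option autoImplicit false
set_option linter.unusedSectionVars false

/-!
Groups of Monster type: the centraliser of a non-`2B` involution `t` of `Q` modulo `<t>`.
The basic objects.
-/

namespace Cfsg.Agent.Lib.Helper4.BM

open Cfsg Cfsg.Agent.Lib.Conway Cfsg.Agent.Lib.Helper29 Cfsg.Agent.Lib.Helper4.MC

section defs

variable {G : Type*} [Group G] {z : G} (Q : Subgroup (Subgroup.centralizer ({z} : Set G)))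
  (t : G) (htc : t ∈ Subgroup.centralizer ({z} : Set G))

/-- `C_C(t)` as a subgroup of `C = C_G(z)` -/
def Dt : Subgroup (Subgroup.centralizer ({z} : Set G)) :=
  Subgroup.centralizer ({(⟨t, htc⟩ : Subgroup.centralizer ({z} : Set G))} : Set _)

theorem mem_Dt {c : Subgroup.centralizer ({z} : Set G)} :
    c ∈ Dt t htc ↔ (c : G) * t = t * (c : G) := by
  unfold Dt
  rw [Subgroup.mem_centralizer_singleton_iff]
  constructor
  · intro h; exact congrArg Subtype.val h
  · intro h; exact Subtype.ext h

theorem Dt_comm_t (d : Dt t htc) : ((d : Subgroup.centralizer ({z} : Set G)) : G) * t =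
    t * ((d : Subgroup.centralizer ({z} : Set G)) : G) := (mem_Dt t htc).mp d.2

theorem Dt_comm_z (d : Dt t htc) : ((d : Subgroup.centralizer ({z} : Set G)) : G) * z =
    z * ((d : Subgroup.centralizer ({z} : Set G)) : G) := comm_z_of_mem_cent d.1

/-- the inclusion of `C_C(t)` in `C_G(t)` -/
def inclH : Dt t htc →* Subgroup.centralizer ({t} : Set G) where
  toFun d := ⟨((d : Subgroup.centralizer ({z} : Set G)) : G),
    Subgroup.mem_centralizer_singleton_iff.mpr (Dt_comm_t t htc d)⟩
  map_one' := rfl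
  map_mul' _ _ := rfl

theorem inclH_coe (d : Dt t htc) :
    ((inclH t htc d : Subgroup.centralizer ({t} : Set G)) : G) =
      ((d : Subgroup.centralizer ({z} : Set G)) : G) := rfl

variable [hn : ((Subgroup.zpowers t).subgroupOf (Subgroup.centralizer ({t} : Set G))).Normal]

/-- the map from `C_C(t)` to `C_G(t)/<t>` -/
def pi0 : Dt t htc →* (Subgroup.centralizer ({t} : Set G)) ⧸
    (Subgroup.zpowers t).subgroupOf (Subgroup.centralizer ({t} : Set G)) :=
  (QuotientGroup.mk' _).comp (inclH t htc)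

/-- `z` as an element of `C_G(t)` -/
def zH : Subgroup.centralizer ({t} : Set G) :=
  ⟨z, Subgroup.mem_centralizer_singleton_iff.mpr
    ((Subgroup.mem_centralizer_singleton_iff.mp htc).symm)⟩

/-- the image of `z` in `C_G(t)/<t>` -/
def zbar : (Subgroup.centralizer ({t} : Set G)) ⧸
    (Subgroup.zpowers t).subgroupOf (Subgroup.centralizer ({t} : Set G)) :=
  QuotientGroup.mk (zH t htc)

theorem pi0_mem (d : Dt t htc) : pi0 t htc d ∈ Subgroup.centralizer ({zbar t htc} : Set _) := by
  rw [Subgroup.mem_centralizer_singleton_iff]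
  unfold pi0 zbar
  simp only [MonoidHom.coe_comp, Function.comp_apply, QuotientGroup.mk'_apply]
  rw [← QuotientGroup.mk_mul, ← QuotientGroup.mk_mul]
  congr 1
  apply Subtype.ext
  exact Dt_comm_z t htc d

/-- the map from `C_C(t)` to the centraliser of the image of `z` -/
def piX : Dt t htc →* Subgroup.centralizer ({zbar t htc} : Set _) :=
  (pi0 t htc).codRestrict _ (pi0_mem t htc)

theorem piX_coe (d : Dt t htc) : ((piX t htc d : Subgroup.centralizer ({zbar t htc} : Set _)) :
    (Subgroup.centralizer ({t} : Set G)) ⧸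
      (Subgroup.zpowers t).subgroupOf (Subgroup.centralizer ({t} : Set G))) =
    QuotientGroup.mk (inclH t htc d) := rfl

/-- `t` as an element of `C_C(t)` -/
def tD : Dt t htc := ⟨⟨t, htc⟩, (mem_Dt t htc).mpr rfl⟩

/-- `z` as an element of `C_C(t)` -/
def zD : Dt t htc := ⟨⟨z, z_mem_cent z⟩, (mem_Dt t htc).mpr
  (Subgroup.mem_centralizer_singleton_iff.mp htc).symm⟩

theorem mem_zpowers_of_sq {x : G} (htt : t * t = 1) (hx : x ∈ Subgroup.zpowers t) :
    x = 1 ∨ x = t := by
  obtain ⟨k, rfl⟩ := hx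
  show t ^ k = 1 ∨ t ^ k = t
  rcases Int.even_or_odd k with ⟨m, hm⟩ | ⟨m, hm⟩
  · left
    rw [hm, ← two_mul, zpow_mul, zpow_two, htt, one_zpow]
  · right
    rw [hm, zpow_add, zpow_mul, zpow_two, htt, one_zpow, one_mul, zpow_one]

theorem piX_eq_one_iff (htt : t * t = 1) (d : Dt t htc) :
    piX t htc d = 1 ↔ d = 1 ∨ d = tD t htc := by
  constructor
  · intro h
    have h1 := congrArg Subtype.val h
    rw [piX_coe] at h1
    have h2 : inclH t htc d ∈ (Subgroup.zpowers t).subgroupOf (Subgroup.centralizer ({t} : Set G)) :=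
      (QuotientGroup.eq_one_iff _).mp h1
    rw [Subgroup.mem_subgroupOf, inclH_coe] at h2
    rcases mem_zpowers_of_sq t htt h2 with h3 | h3
    · left; apply Subtype.ext; apply Subtype.ext; exact h3
    · right; apply Subtype.ext; apply Subtype.ext; exact h3
  · rintro (rfl | rfl)
    · exact map_one _
    · apply Subtype.ext
      rw [piX_coe]
      apply (QuotientGroup.eq_one_iff _).mpr
      rw [Subgroup.mem_subgroupOf, inclH_coe]
      exact Subgroup.mem_zpowers t

/-- `Q ∩ C_C(t)` as a subgroup of `C_C(t)` -/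
def QD : Subgroup (Dt t htc) := Q.subgroupOf (Dt t htc)

theorem mem_QD {d : Dt t htc} : d ∈ QD Q t htc ↔ (d : Subgroup.centralizer ({z} : Set G)) ∈ Q :=
  Subgroup.mem_subgroupOf

/-- the image of `Q ∩ C_C(t)` -/
def Qbar : Subgroup (Subgroup.centralizer ({zbar t htc} : Set _)) := (QD Q t htc).map (piX t htc)

end defs

end Cfsg.Agent.Lib.Helper4.BM
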