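import Mathlib
import Cfsg.Agent.Lib.Helper4.BabyCore

set_option autoImplicit false
set_option linter.unusedSectionVars false

namespace Cfsg.Agent.Lib.Helper4.BM

open Cfsg Cfsg.Agent.Lib.Conway Cfsg.Agent.Lib.Helper29 Cfsg.Agent.Lib.Helper4.MC

section core

variable {G : Type*} [Group G] [Finite G] {z : G}
  {Q : Subgroup (Subgroup.centralizer ({z} : Set G))} [hQn : Q.Normal]
  (hS : IsExtraspecialCentralizerSetting z Q 12)
  (e : (Subgroup.centralizer ({z} : Set G)) ⧸ Q ≃* Spor.Co1)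
  (ψ : leechLattice → Q ⧸ Subgroup.center Q) (hψ : IsLeechModTwoIso Q e ψ)
  (t : G) (htc : t ∈ Subgroup.centralizer ({z} : Set G))
  (htQ : (⟨t, htc⟩ : Subgroup.centralizer ({z} : Set G)) ∈ Q)
  (ht2 : orderOf t = 2) (hnc : ¬ IsConj z t)
  (hu : ψ Spor.leechU = QuotientGroup.mk (⟨⟨t, htc⟩, htQ⟩ : Q))

include ht2 in
theorem t_sq : t * t = 1 := by
  have := pow_orderOf_eq_one t
  rwa [ht2, pow_two] at this

include ht2 in
theorem t_ne_one : t ≠ 1 := by
  intro h; rw [h, orderOf_one] at ht2; omega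

include hnc in
theorem t_ne_z : t ≠ z := by
  intro h; rw [h] at hnc; exact hnc (IsConj.refl z)

/-- `z` as an element of `Q` -/
def zQ (hS : IsExtraspecialCentralizerSetting z Q 12) : Q :=
  ⟨⟨z, z_mem_cent z⟩, z_mem_Q hS.2.1⟩

theorem isE2_zQ : IsE2 Q (zQ hS) := isE2_Q hS.1 hS.2.2.1 (z_mem_Q hS.2.1)

include hS ht2 hnc in
/-- `t` is not central in `Q` -/
theorem exists_q0 : ∃ q0 : Q, q0 * (⟨⟨t, htc⟩, htQ⟩ : Q) ≠ (⟨⟨t, htc⟩, htQ⟩ : Q) * q0 := by
  by_contra hcon
  push Not at hcon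
  have hE := isE2_zQ hS
  have hc : (⟨⟨t, htc⟩, htQ⟩ : Q) ∈ Subgroup.center Q := by
    rw [Subgroup.mem_center_iff]
    exact hcon
  rcases hE.all _ hc with h | h
  · exact t_ne_one t ht2 (congrArg (fun q : Q => ((q : Subgroup.centralizer ({z} : Set G)) : G)) h)
  · exact t_ne_z t hnc (congrArg (fun q : Q => ((q : Subgroup.centralizer ({z} : Set G)) : G)) h)

variable [hn : ((Subgroup.zpowers t).subgroupOf (Subgroup.centralizer ({t} : Set G))).Normal]

include hS hψ ht2 hu in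
/-- every element centralising the image of `z` comes from `C_C(t)` -/
theorem piX_surjective : Function.Surjective (piX t htc) := by
  rintro ⟨x, hx⟩
  obtain ⟨h, rfl⟩ := QuotientGroup.mk_surjective x
  rw [Subgroup.mem_centralizer_singleton_iff] at hx
  unfold zbar at hx
  rw [← QuotientGroup.mk_mul, ← QuotientGroup.mk_mul, QuotientGroup.eq, Subgroup.mem_subgroupOf] at hx
  have htt := t_sq t ht2
  have hx' : ((h : G) * z)⁻¹ * (z * (h : G)) ∈ Subgroup.zpowers t := hx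
  rcases mem_zpowers_of_sq t htt hx' with h1 | h1
  · have hhz : (h : G) * z = z * (h : G) := by
      calc (h : G) * z = ((h : G) * z) * (((h : G) * z)⁻¹ * (z * (h : G))) := by rw [h1, mul_one]
        _ = z * (h : G) := by group
    have hhC : (h : G) ∈ Subgroup.centralizer ({z} : Set G) :=
      Subgroup.mem_centralizer_singleton_iff.mpr hhz
    have hht : (h : G) * t = t * (h : G) := Subgroup.mem_centralizer_singleton_iff.mp h.2
    refine ⟨⟨⟨(h : G), hhC⟩, (mem_Dt t htc).mpr hht⟩, ?_⟩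
    apply Subtype.ext
    rw [piX_coe]
    rfl
  · exfalso
    have hzt : (h : G)⁻¹ * z * ((h : G)⁻¹)⁻¹ = z * t := by
      calc (h : G)⁻¹ * z * ((h : G)⁻¹)⁻¹ = (h : G)⁻¹ * (z * (h : G)) := by group
        _ = (h : G)⁻¹ * (((h : G) * z) * (((h : G) * z)⁻¹ * (z * (h : G)))) := by group
        _ = z * t := by rw [h1]; group
    have hne : z * t ≠ z := by
      intro h2
      have : t = 1 := by
        calc t = z⁻¹ * (z * t) := by group
          _ = 1 := by rw [h2]; group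
      exact t_ne_one t ht2 this
    have hmk : ψ Spor.leechU = QuotientGroup.mk (zQ hS * (⟨⟨t, htc⟩, htQ⟩ : Q)) := by
      rw [hu, QuotientGroup.mk_mul]
      have : (QuotientGroup.mk (zQ hS) : Q ⧸ Subgroup.center Q) = 1 :=
        (QuotientGroup.eq_one_iff _).mpr (isE2_zQ hS).mem
      rw [this, one_mul]
    exact not_type2 hS e ψ hψ (zQ hS * (⟨⟨t, htc⟩, htQ⟩ : Q)) (h : G)⁻¹ hzt hne Spor.leechU
      sqNorm_leechU hmk

end core

end Cfsg.Agent.Lib.Helper4.BM

namespace Cfsg.Agent.Lib.Helper4.BM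

open Cfsg Cfsg.Agent.Lib.Conway Cfsg.Agent.Lib.Helper29 Cfsg.Agent.Lib.Helper4.MC

section qd

variable {G : Type*} [Group G] [Finite G] {z : G}
  {Q : Subgroup (Subgroup.centralizer ({z} : Set G))} [hQn : Q.Normal]
  (hS : IsExtraspecialCentralizerSetting z Q 12)
  (t : G) (htc : t ∈ Subgroup.centralizer ({z} : Set G))
  (htQ : (⟨t, htc⟩ : Subgroup.centralizer ({z} : Set G)) ∈ Q)
  (ht2 : orderOf t = 2) (hnc : ¬ IsConj z t)
  [hn : ((Subgroup.zpowers t).subgroupOf (Subgroup.centralizer ({t} : Set G))).Normal]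

/-- an element of `Q ∩ C_C(t)` as an element of `Q` -/
def toQ (d : Dt t htc) (hd : d ∈ QD Q t htc) : Q := ⟨d.1, (mem_QD Q t htc).mp hd⟩

theorem toQ_comm (d : Dt t htc) (hd : d ∈ QD Q t htc) :
    toQ t htc d hd * (⟨⟨t, htc⟩, htQ⟩ : Q) = (⟨⟨t, htc⟩, htQ⟩ : Q) * toQ t htc d hd := by
  apply Subtype.ext
  apply Subtype.ext
  exact Dt_comm_t t htc d

/-- an element of `Q` commuting with `t` as an element of `C_C(t)` -/
def ofQ (x : Q) (hx : x * (⟨⟨t, htc⟩, htQ⟩ : Q) = (⟨⟨t, htc⟩, htQ⟩ : Q) * x) : Dt t htc :=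
  ⟨x.1, (mem_Dt t htc).mpr (congrArg (fun q : Q => ((q : Subgroup.centralizer ({z} : Set G)) : G)) hx)⟩

theorem ofQ_mem (x : Q) (hx : x * (⟨⟨t, htc⟩, htQ⟩ : Q) = (⟨⟨t, htc⟩, htQ⟩ : Q) * x) :
    ofQ t htc htQ x hx ∈ QD Q t htc := (mem_QD Q t htc).mpr x.2

theorem toQ_ofQ (x : Q) (hx : x * (⟨⟨t, htc⟩, htQ⟩ : Q) = (⟨⟨t, htc⟩, htQ⟩ : Q) * x) :
    toQ t htc (ofQ t htc htQ x hx) (ofQ_mem t htc htQ x hx) = x := rfl

theorem ofQ_toQ (d : Dt t htc) (hd : d ∈ QD Q t htc) :
    ofQ t htc htQ (toQ t htc d hd) (toQ_comm t htc htQ d hd) = d := rfl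

theorem toQ_mul (d d' : Dt t htc) (hd : d ∈ QD Q t htc) (hd' : d' ∈ QD Q t htc) :
    toQ t htc (d * d') ((QD Q t htc).mul_mem hd hd') = toQ t htc d hd * toQ t htc d' hd' := rfl

theorem toQ_injective {d d' : Dt t htc} {hd : d ∈ QD Q t htc} {hd' : d' ∈ QD Q t htc}
    (h : toQ t htc d hd = toQ t htc d' hd') : d = d' := by
  apply Subtype.ext
  exact congrArg (fun q : Q => (q : Subgroup.centralizer ({z} : Set G))) h

include hS in
theorem zD_mem : zD t htc ∈ QD Q t htc := (mem_QD Q t htc).mpr (z_mem_Q hS.2.1)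

include htQ in
theorem tD_mem : tD t htc ∈ QD Q t htc := (mem_QD Q t htc).mpr htQ

theorem zD_comm (q : Dt t htc) : zD t htc * q = q * zD t htc := by
  apply Subtype.ext
  apply Subtype.ext
  exact (Dt_comm_z t htc q).symm

include hS in
theorem zD_ne_one : zD t htc ≠ 1 := by
  intro h
  have h1 : z = 1 := congrArg (fun d : Dt t htc => ((d : Subgroup.centralizer ({z} : Set G)) : G)) h
  have := hS.1
  rw [h1, orderOf_one] at this
  omega

include hnc in
theorem zD_ne_tD : zD t htc ≠ tD t htc := by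
  intro h
  have h1 : z = t := congrArg (fun d : Dt t htc => ((d : Subgroup.centralizer ({z} : Set G)) : G)) h
  exact t_ne_z t hnc h1.symm

include ht2 in
theorem tD_ne_one : tD t htc ≠ 1 := by
  intro h
  have h1 : t = 1 := congrArg (fun d : Dt t htc => ((d : Subgroup.centralizer ({z} : Set G)) : G)) h
  exact t_ne_one t ht2 h1

include hS in
theorem QD_comm (q : Dt t htc) (hq : q ∈ QD Q t htc) (q' : Dt t htc) (hq' : q' ∈ QD Q t htc) :
    q * q' = q' * q ∨ q * q' = zD t htc * (q' * q) := by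
  have hE := isE2_zQ hS
  by_cases hc : toQ t htc q hq * toQ t htc q' hq' = toQ t htc q' hq' * toQ t htc q hq
  · left
    apply Subtype.ext
    exact congrArg (fun q : Q => (q : Subgroup.centralizer ({z} : Set G))) hc
  · right
    have h1 := hE.mul_eq_z_mul hc
    apply Subtype.ext
    exact congrArg (fun q : Q => (q : Subgroup.centralizer ({z} : Set G))) h1

include hS htQ ht2 hnc in
theorem QD_cen (q : Dt t htc) (hq : q ∈ QD Q t htc)
    (hall : ∀ q' ∈ QD Q t htc, q * q' = q' * q) :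
    q = 1 ∨ q = zD t htc ∨ q = tD t htc ∨ q = zD t htc * tD t htc := by
  have hE := isE2_zQ hS
  obtain ⟨q0, hq0⟩ := exists_q0 hS t htc htQ ht2 hnc
  have htt : (⟨⟨t, htc⟩, htQ⟩ : Q) * (⟨⟨t, htc⟩, htQ⟩ : Q) = 1 := by
    apply Subtype.ext; apply Subtype.ext; exact t_sq t ht2
  have h1 := cent_cent hE htt hq0 (toQ_comm t htc htQ q hq) (by
    intro x hx
    have h2 := hall (ofQ t htc htQ x hx) (ofQ_mem t htc htQ x hx)
    apply Subtype.ext
    exact congrArg (fun d : Dt t htc => (d : Subgroup.centralizer ({z} : Set G))) h2)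
  rcases h1 with h | h | h | h
  · left; apply Subtype.ext
    exact congrArg (fun q : Q => (q : Subgroup.centralizer ({z} : Set G))) h
  · right; left; apply Subtype.ext
    exact congrArg (fun q : Q => (q : Subgroup.centralizer ({z} : Set G))) h
  · right; right; left; apply Subtype.ext
    exact congrArg (fun q : Q => (q : Subgroup.centralizer ({z} : Set G))) h
  · right; right; right; apply Subtype.ext
    exact congrArg (fun q : Q => (q : Subgroup.centralizer ({z} : Set G))) h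

include hS htQ ht2 hnc in
theorem QD_na : ∃ q ∈ QD Q t htc, ∃ q' ∈ QD Q t htc, q * q' ≠ q' * q := by
  have hE := isE2_zQ hS
  obtain ⟨q0, hq0⟩ := exists_q0 hS t htc htQ ht2 hnc
  have htt : (⟨⟨t, htc⟩, htQ⟩ : Q) * (⟨⟨t, htc⟩, htQ⟩ : Q) = 1 := by
    apply Subtype.ext; apply Subtype.ext; exact t_sq t ht2
  have hcard : 8 < Nat.card Q := by rw [hS.2.2.2.1]; norm_num
  obtain ⟨x, y, hx, hy, hxy⟩ := exists_not_comm_cent hE htt hq0 hcard
  refine ⟨ofQ t htc htQ x hx, ofQ_mem t htc htQ x hx, ofQ t htc htQ y hy, ofQ_mem t htc htQ y hy, ?_⟩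
  intro h
  apply hxy
  apply Subtype.ext
  exact congrArg (fun d : Dt t htc => (d : Subgroup.centralizer ({z} : Set G))) h

include hS htQ ht2 hnc in
theorem card_QD : Nat.card (QD Q t htc) = 2 ^ 24 := by
  have hE := isE2_zQ hS
  obtain ⟨q0, hq0⟩ := exists_q0 hS t htc htQ ht2 hnc
  have h1 := card_centralizer_two hE hq0
  rw [hS.2.2.2.1] at h1
  have h2 : Nat.card (QD Q t htc) =
      Nat.card (Subgroup.centralizer ({(⟨⟨t, htc⟩, htQ⟩ : Q)} : Set Q)) := by
    apply Nat.card_congr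
    refine ⟨fun d => ⟨toQ t htc d.1 d.2, Subgroup.mem_centralizer_singleton_iff.mpr
        (toQ_comm t htc htQ d.1 d.2)⟩,
      fun x => ⟨ofQ t htc htQ x.1 (Subgroup.mem_centralizer_singleton_iff.mp x.2),
        ofQ_mem t htc htQ x.1 _⟩, fun d => rfl, fun x => rfl⟩
  rw [h2]
  omega

end qd

end Cfsg.Agent.Lib.Helper4.BM
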