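import Mathlib
import Cfsg.Agent.Lib.Helper4.BabyCore2

set_option autoImplicit false
set_option linter.unusedSectionVars false

namespace Cfsg.Agent.Lib.Helper4.BM

open Cfsg Cfsg.Agent.Lib.Conway Cfsg.Agent.Lib.Helper29 Cfsg.Agent.Lib.Helper4.MC

/-- the map from `Co2` to `Co1` -/
def co2ToCo1 : Spor.Co2 →* Spor.Co1 := (QuotientGroup.mk' (Subgroup.center Co0)).comp co2Incl

theorem co2ToCo1_apply (g : Spor.Co2) : co2ToCo1 g = QuotientGroup.mk (co2Incl g) := rfl

theorem neg_leechU_ne : -Spor.leechU ≠ Spor.leechU := by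
  intro h
  have h1 := congrArg (fun v : leechLattice => (v : Vec) none) h
  have h2 : ((-Spor.leechU : leechLattice) : Vec) none = -4 := by
    show -(Spor.vecU none) = -4
    simp [Spor.vecU]
  have h3 : ((Spor.leechU : leechLattice) : Vec) none = 4 := by
    show Spor.vecU none = 4
    simp [Spor.vecU]
  simp only [h2, h3] at h1
  omega

theorem co2ToCo1_injective : Function.Injective co2ToCo1 := by
  rw [injective_iff_map_eq_one]
  intro g hg
  have h1 : co2Incl g ∈ Subgroup.center Co0 := (QuotientGroup.eq_one_iff _).mp hg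
  rcases Cfsg.Agent.S0398.central_cases _ h1 with h | h
  · exact co2Incl_injective (by rw [h, map_one])
  · exfalso
    have h2 := co2_fix g
    rw [h, negCo0_smul] at h2
    exact neg_leechU_ne h2

section phi

variable {G : Type*} [Group G] [Finite G] {z : G}
  {Q : Subgroup (Subgroup.centralizer ({z} : Set G))} [hQn : Q.Normal]
  (hS : IsExtraspecialCentralizerSetting z Q 12)
  (e : (Subgroup.centralizer ({z} : Set G)) ⧸ Q ≃* Spor.Co1)
  (ψ : leechLattice → Q ⧸ Subgroup.center Q) (hψ : IsLeechModTwoIso Q e ψ)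
  (t : G) (htc : t ∈ Subgroup.centralizer ({z} : Set G))
  (htQ : (⟨t, htc⟩ : Subgroup.centralizer ({z} : Set G)) ∈ Q)
  (ht2 : orderOf t = 2) (hnc : ¬ IsConj z t)
  (hu : ψ Spor.leechU = QuotientGroup.mk (⟨⟨t, htc⟩, htQ⟩ : Q))

/-- the map from `C_C(t)` to `Co1` -/
def rho : Dt t htc →* Spor.Co1 :=
  e.toMonoidHom.comp ((QuotientGroup.mk' Q).comp (Dt t htc).subtype)

theorem rho_apply (d : Dt t htc) :
    rho e t htc d = e (QuotientGroup.mk (d : Subgroup.centralizer ({z} : Set G))) := rfl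

/-- conjugating `t` by an element of `C_C(t)` gives `t` (as elements of `Q`) -/
theorem conj_t_eq (d : Dt t htc) :
    (⟨(d : Subgroup.centralizer ({z} : Set G)) * (⟨⟨t, htc⟩, htQ⟩ : Q) *
      (d : Subgroup.centralizer ({z} : Set G))⁻¹,
      hQn.conj_mem _ htQ _⟩ : Q) = ⟨⟨t, htc⟩, htQ⟩ := by
  apply Subtype.ext
  apply Subtype.ext
  show ((d : Subgroup.centralizer ({z} : Set G)) : G) * t *
    ((d : Subgroup.centralizer ({z} : Set G)) : G)⁻¹ = t
  rw [Dt_comm_t t htc d]; group

include hψ hu in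
theorem rho_mem_range (d : Dt t htc) : rho e t htc d ∈ (co2ToCo1).range := by
  obtain ⟨hadd, hsurj, hker, hequiv⟩ := hψ
  obtain ⟨γ, hγ⟩ := QuotientGroup.mk_surjective (rho e t htc d)
  have h1 := hequiv (d : Subgroup.centralizer ({z} : Set G)) γ hγ Spor.leechU ⟨⟨t, htc⟩, htQ⟩ hu
  rw [conj_t_eq t htc htQ d, ← hu] at h1
  have h2 : ψ (γ • Spor.leechU + Spor.leechU) = 1 := by
    rw [hadd, h1]
    exact Cfsg.Agent.Lib.Helper4.MP.psi_sq ψ hadd hker _
  obtain ⟨w, hw⟩ := (hker _).mp h2
  have hn : sqNorm ((γ • Spor.leechU : leechLattice) : Vec) = 32 := by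
    rw [co0_norm, sqNorm_leechU]
  rcases pm_of_cong Spor.leechU (γ • Spor.leechU) w sqNorm_leechU hn hw with h3 | h3
  · exact ⟨toCo2 γ h3, by rw [co2ToCo1_apply, co2Incl_toCo2, hγ]⟩
  · have h4 : (negCo0 * γ) • Spor.leechU = Spor.leechU := by
      rw [co0_mul_smul, h3, negCo0_smul, neg_neg]
    refine ⟨toCo2 (negCo0 * γ) h4, ?_⟩
    rw [co2ToCo1_apply, co2Incl_toCo2, ← hγ, QuotientGroup.mk_mul]
    have : (QuotientGroup.mk negCo0 : Spor.Co1) = 1 :=
      (QuotientGroup.eq_one_iff _).mpr negCo0_center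
    rw [this, one_mul]

/-- the map from `C_C(t)` to `Co2` -/
noncomputable def Phi0 (hψ : IsLeechModTwoIso Q e ψ)
    (hu : ψ Spor.leechU = QuotientGroup.mk (⟨⟨t, htc⟩, htQ⟩ : Q)) : Dt t htc →* Spor.Co2 :=
  (MonoidHom.ofInjective co2ToCo1_injective).symm.toMonoidHom.comp
    ((rho e t htc).codRestrict _ (rho_mem_range e ψ hψ t htc htQ hu))

theorem Phi0_spec (d : Dt t htc) :
    co2ToCo1 (Phi0 e ψ t htc htQ hψ hu d) = rho e t htc d := by
  unfold Phi0
  simp only [MonoidHom.coe_comp, MulEquiv.coe_toMonoidHom, Function.comp_apply]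
  have h1 := (MonoidHom.ofInjective co2ToCo1_injective).apply_symm_apply
    ((rho e t htc).codRestrict _ (rho_mem_range e ψ hψ t htc htQ hu) d)
  have h2 := congrArg Subtype.val h1
  rw [MonoidHom.ofInjective_apply] at h2
  exact h2

theorem Phi0_mk (d : Dt t htc) :
    (QuotientGroup.mk (co2Incl (Phi0 e ψ t htc htQ hψ hu d)) : Spor.Co1) =
      e (QuotientGroup.mk (d : Subgroup.centralizer ({z} : Set G))) :=
  Phi0_spec e ψ hψ t htc htQ hu d

variable [hn : ((Subgroup.zpowers t).subgroupOf (Subgroup.centralizer ({t} : Set G))).Normal]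

theorem Phi0_ker : (Phi0 e ψ t htc htQ hψ hu).ker = QD Q t htc := by
  ext d
  rw [MonoidHom.mem_ker, mem_QD]
  constructor
  · intro h
    have h1 := Phi0_spec e ψ hψ t htc htQ hu d
    rw [h, map_one, rho_apply] at h1
    have h2 := (EmbeddingLike.map_eq_one_iff (f := e)).mp h1.symm
    exact (QuotientGroup.eq_one_iff _).mp h2
  · intro h
    apply co2ToCo1_injective
    rw [Phi0_spec, map_one, rho_apply, (QuotientGroup.eq_one_iff _).mpr h, map_one]

end phi

end Cfsg.Agent.Lib.Helper4.BM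

namespace Cfsg.Agent.Lib.Helper4.BM

open Cfsg Cfsg.Agent.Lib.Conway Cfsg.Agent.Lib.Helper29 Cfsg.Agent.Lib.Helper4.MC

section phi2

variable {G : Type*} [Group G] [Finite G] {z : G}
  {Q : Subgroup (Subgroup.centralizer ({z} : Set G))} [hQn : Q.Normal]
  (hS : IsExtraspecialCentralizerSetting z Q 12)
  (e : (Subgroup.centralizer ({z} : Set G)) ⧸ Q ≃* Spor.Co1)
  (ψ : leechLattice → Q ⧸ Subgroup.center Q) (hψ : IsLeechModTwoIso Q e ψ)
  (t : G) (htc : t ∈ Subgroup.centralizer ({z} : Set G))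
  (htQ : (⟨t, htc⟩ : Subgroup.centralizer ({z} : Set G)) ∈ Q)
  (ht2 : orderOf t = 2) (hnc : ¬ IsConj z t)
  (hu : ψ Spor.leechU = QuotientGroup.mk (⟨⟨t, htc⟩, htQ⟩ : Q))

include hS ht2 hnc in
theorem Phi0_surjective : Function.Surjective (Phi0 e ψ t htc htQ hψ hu) := by
  intro g
  have hE := isE2_zQ hS
  have hψ' := hψ
  obtain ⟨hadd, hsurj, hker, hequiv⟩ := hψ'
  obtain ⟨cq, hcq⟩ := e.surjective (co2ToCo1 g)
  obtain ⟨c, rfl⟩ := QuotientGroup.mk_surjective cq
  have h1 := hequiv c (co2Incl g) hcq.symm Spor.leechU ⟨⟨t, htc⟩, htQ⟩ hu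
  rw [co2_fix, hu] at h1
  have h2 := QuotientGroup.eq.mp h1
  -- it suffices to find an element of `C_C(t)` with the same image
  have key : ∀ c' : Subgroup.centralizer ({z} : Set G), (c' : G) * t = t * (c' : G) →
      e (QuotientGroup.mk c') = co2ToCo1 g → ∃ d, Phi0 e ψ t htc htQ hψ hu d = g := by
    intro c' hc't hc'e
    refine ⟨⟨c', (mem_Dt t htc).mpr hc't⟩, ?_⟩
    apply co2ToCo1_injective
    rw [Phi0_spec, rho_apply]
    exact hc'e
  rcases hE.all _ h2 with h3 | h3
  · have h4 := congrArg (fun q : Q => ((q : Subgroup.centralizer ({z} : Set G)) : G)) h3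
    simp only [Subgroup.coe_mul, Subgroup.coe_inv, Subgroup.coe_one] at h4
    apply key c _ hcq
    have h5 : (c : G) * t * (c : G)⁻¹ = t := by
      calc (c : G) * t * (c : G)⁻¹ = t * (t⁻¹ * ((c : G) * t * (c : G)⁻¹)) := by group
        _ = t := by rw [h4, mul_one]
    calc (c : G) * t = ((c : G) * t * (c : G)⁻¹) * (c : G) := by group
      _ = t * (c : G) := by rw [h5]
  · have h4 := congrArg (fun q : Q => ((q : Subgroup.centralizer ({z} : Set G)) : G)) h3
    simp only [Subgroup.coe_mul, Subgroup.coe_inv] at h4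
    have h4' : t⁻¹ * ((c : G) * t * (c : G)⁻¹) = z := h4
    have h5 : (c : G) * t * (c : G)⁻¹ = t * z := by
      calc (c : G) * t * (c : G)⁻¹ = t * (t⁻¹ * ((c : G) * t * (c : G)⁻¹)) := by group
        _ = t * z := by rw [h4']
    obtain ⟨q0, hq0⟩ := exists_q0 hS t htc htQ ht2 hnc
    have h6 := hE.mul_eq_z_mul hq0
    have h7 := congrArg (fun q : Q => ((q : Subgroup.centralizer ({z} : Set G)) : G)) h6
    have h7' : ((q0 : Subgroup.centralizer ({z} : Set G)) : G) * t =
        z * (t * ((q0 : Subgroup.centralizer ({z} : Set G)) : G)) := h7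
    have hzz : z * z = 1 := by
      have := pow_orderOf_eq_one z
      rwa [hS.1, pow_two] at this
    have hzt : z * t = t * z := (Subgroup.mem_centralizer_singleton_iff.mp htc).symm
    have hq0z := comm_z_of_mem_cent (q0 : Subgroup.centralizer ({z} : Set G))
    apply key ((q0 : Subgroup.centralizer ({z} : Set G)) * c)
    · show ((q0 : Subgroup.centralizer ({z} : Set G)) : G) * (c : G) * t =
        t * (((q0 : Subgroup.centralizer ({z} : Set G)) : G) * (c : G))
      have h8 : ((q0 : Subgroup.centralizer ({z} : Set G)) : G) * (t * z) = t *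
          ((q0 : Subgroup.centralizer ({z} : Set G)) : G) := by
        calc ((q0 : Subgroup.centralizer ({z} : Set G)) : G) * (t * z)
            = (((q0 : Subgroup.centralizer ({z} : Set G)) : G) * t) * z := by group
          _ = z * (t * ((q0 : Subgroup.centralizer ({z} : Set G)) : G)) * z := by rw [h7']
          _ = (z * t) * (((q0 : Subgroup.centralizer ({z} : Set G)) : G) * z) := by group
          _ = (t * z) * (z * ((q0 : Subgroup.centralizer ({z} : Set G)) : G)) := by rw [hzt, hq0z]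
          _ = t * (z * z) * ((q0 : Subgroup.centralizer ({z} : Set G)) : G) := by group
          _ = t * ((q0 : Subgroup.centralizer ({z} : Set G)) : G) := by rw [hzz, mul_one]
      calc ((q0 : Subgroup.centralizer ({z} : Set G)) : G) * (c : G) * t
          = ((q0 : Subgroup.centralizer ({z} : Set G)) : G) * ((c : G) * t * (c : G)⁻¹) * (c : G) := by
            group
        _ = (((q0 : Subgroup.centralizer ({z} : Set G)) : G) * (t * z)) * (c : G) := by rw [h5]
        _ = t * (((q0 : Subgroup.centralizer ({z} : Set G)) : G) * (c : G)) := by rw [h8]; group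
    · rw [QuotientGroup.mk_mul, (QuotientGroup.eq_one_iff _).mpr q0.2, one_mul]
      exact hcq

end phi2

end Cfsg.Agent.Lib.Helper4.BM
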