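import Mathlib
import Cfsg.Agent.Lib.Helper4.BabyCore3

set_option autoImplicit false
set_option linter.unusedSectionVars false

namespace Cfsg.Agent.Lib.Helper4.BM

open Cfsg Cfsg.Agent.Lib.Conway Cfsg.Agent.Lib.Helper29 Cfsg.Agent.Lib.Helper4.MC

/-- factoring a homomorphism through a surjection -/
theorem exists_factor {D X Y : Type*} [Group D] [Group X] [Group Y] (π : D →* X)
    (hπ : Function.Surjective π) (f : D →* Y) (hle : π.ker ≤ f.ker) :
    ∃ F : X →* Y, ∀ d, F (π d) = f d := by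
  refine ⟨(QuotientGroup.lift π.ker f hle).comp
    (QuotientGroup.quotientKerEquivOfSurjective π hπ).symm.toMonoidHom, fun d => ?_⟩
  have h1 : (QuotientGroup.quotientKerEquivOfSurjective π hπ).symm (π d) = QuotientGroup.mk d := by
    rw [MulEquiv.symm_apply_eq]
    rfl
  simp only [MonoidHom.coe_comp, MulEquiv.coe_toMonoidHom, Function.comp_apply, h1,
    QuotientGroup.lift_mk]

section phi3

variable {G : Type*} [Group G] [Finite G] {z : G}
  {Q : Subgroup (Subgroup.centralizer ({z} : Set G))} [hQn : Q.Normal]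
  (hS : IsExtraspecialCentralizerSetting z Q 12)
  (e : (Subgroup.centralizer ({z} : Set G)) ⧸ Q ≃* Spor.Co1)
  (ψ : leechLattice → Q ⧸ Subgroup.center Q) (hψ : IsLeechModTwoIso Q e ψ)
  (t : G) (htc : t ∈ Subgroup.centralizer ({z} : Set G))
  (htQ : (⟨t, htc⟩ : Subgroup.centralizer ({z} : Set G)) ∈ Q)
  (ht2 : orderOf t = 2) (hnc : ¬ IsConj z t)
  (hu : ψ Spor.leechU = QuotientGroup.mk (⟨⟨t, htc⟩, htQ⟩ : Q))
  [hn : ((Subgroup.zpowers t).subgroupOf (Subgroup.centralizer ({t} : Set G))).Normal]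

include hS hnc ht2 in
/-- the map from the centraliser of the image of `z` onto `Co2` with kernel the image of `Q` -/
theorem exists_Phi : ∃ Φ : Subgroup.centralizer ({zbar t htc} : Set _) →* Spor.Co2,
    (∀ d, Φ (piX t htc d) = Phi0 e ψ t htc htQ hψ hu d) ∧ Function.Surjective Φ ∧
    Φ.ker = Qbar Q t htc := by
  have htt := t_sq t ht2
  have hsurj := piX_surjective hS e ψ hψ t htc htQ ht2 hu
  have hle : (piX t htc).ker ≤ (Phi0 e ψ t htc htQ hψ hu).ker := by
    intro d hd
    rw [Phi0_ker, mem_QD]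
    rcases (piX_eq_one_iff t htc htt d).mp hd with rfl | rfl
    · exact Subgroup.one_mem _
    · exact htQ
  obtain ⟨Φ, hΦ⟩ := exists_factor (piX t htc) hsurj (Phi0 e ψ t htc htQ hψ hu) hle
  refine ⟨Φ, hΦ, ?_, ?_⟩
  · intro g
    obtain ⟨d, hd⟩ := Phi0_surjective hS e ψ hψ t htc htQ ht2 hnc hu g
    exact ⟨piX t htc d, by rw [hΦ, hd]⟩
  · ext x
    obtain ⟨d, rfl⟩ := hsurj x
    rw [MonoidHom.mem_ker, hΦ, ← MonoidHom.mem_ker, Phi0_ker]
    constructor
    · intro h; exact ⟨d, h, rfl⟩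
    · rintro ⟨d', hd', h⟩
      have h1 : piX t htc (d'⁻¹ * d) = 1 := by rw [map_mul, map_inv, h, inv_mul_cancel]
      have h2 : d'⁻¹ * d ∈ QD Q t htc := by
        rcases (piX_eq_one_iff t htc htt _).mp h1 with h3 | h3
        · rw [h3]; exact Subgroup.one_mem _
        · rw [h3]; exact tD_mem t htc htQ
      have : d = d' * (d'⁻¹ * d) := by group
      rw [this]
      exact Subgroup.mul_mem _ hd' h2

end phi3

end Cfsg.Agent.Lib.Helper4.BM
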