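import Mathlib
import Cfsg.Agent.Lib.Helper4.BabyCore4

set_option autoImplicit false
set_option linter.unusedSectionVars false

namespace Cfsg.Agent.Lib.Helper4.BM

open Cfsg Cfsg.Agent.Lib.Conway Cfsg.Agent.Lib.Helper29 Cfsg.Agent.Lib.Helper4.MC

section psi

variable {G : Type*} [Group G] [Finite G] {z : G}
  {Q : Subgroup (Subgroup.centralizer ({z} : Set G))} [hQn : Q.Normal]
  (hS : IsExtraspecialCentralizerSetting z Q 12)
  (e : (Subgroup.centralizer ({z} : Set G)) ⧸ Q ≃* Spor.Co1)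
  (ψ : leechLattice → Q ⧸ Subgroup.center Q) (hψ : IsLeechModTwoIso Q e ψ)
  (t : G) (htc : t ∈ Subgroup.centralizer ({z} : Set G))
  (htQ : (⟨t, htc⟩ : Subgroup.centralizer ({z} : Set G)) ∈ Q)
  (ht2 : orderOf t = 2) (hnc : ¬ IsConj z t)
  (hu : ψ Spor.leechU = QuotientGroup.mk (⟨⟨t, htc⟩, htQ⟩ : Q))
  [hn : ((Subgroup.zpowers t).subgroupOf (Subgroup.centralizer ({t} : Set G))).Normal]

include hS htQ ht2 hnc in
theorem isE2_Qbar : IsE2 ↥(Qbar Q t htc)
    ⟨piX t htc (zD t htc), Subgroup.mem_map_of_mem _ (zD_mem hS t htc)⟩ :=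
  isE2_map (piX t htc) (QD Q t htc) (zD t htc) (tD t htc) (piX_eq_one_iff t htc (t_sq t ht2))
    (zD_mem hS t htc) (fun q _ => zD_comm t htc q) (zD_ne_one hS t htc) (zD_ne_tD t htc hnc)
    (QD_comm hS t htc) (QD_cen hS t htc htQ ht2 hnc)

/-- the map from `Q ∩ C_C(t)` to the image of `Q` modulo its centre -/
def lamQ : ↥(QD Q t htc) →* ↥(Qbar Q t htc) ⧸ Subgroup.center ↥(Qbar Q t htc) :=
  (QuotientGroup.mk' _).comp ((piX t htc).subgroupMap (QD Q t htc))

theorem lamQ_apply (d : ↥(QD Q t htc)) :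
    lamQ (Q := Q) t htc d = QuotientGroup.mk ⟨piX t htc d.1, Subgroup.mem_map_of_mem _ d.2⟩ := rfl

include hS htQ ht2 hnc in
theorem lamQ_eq_one_iff (d : ↥(QD Q t htc)) : lamQ (Q := Q) t htc d = 1 ↔
    d.1 = 1 ∨ d.1 = tD t htc ∨ d.1 = zD t htc ∨ d.1 = zD t htc * tD t htc := by
  have hE := isE2_Qbar hS t htc htQ ht2 hnc
  have htt := t_sq t ht2
  have hπt : piX t htc (tD t htc) = 1 := (piX_eq_one_iff t htc htt _).mpr (Or.inr rfl)
  rw [lamQ_apply, QuotientGroup.eq_one_iff]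
  constructor
  · intro h
    rcases hE.all _ h with h1 | h1
    · have h2 : piX t htc d.1 = 1 := congrArg Subtype.val h1
      rcases (piX_eq_one_iff t htc htt _).mp h2 with h3 | h3
      · exact Or.inl h3
      · exact Or.inr (Or.inl h3)
    · have h2 : piX t htc d.1 = piX t htc (zD t htc) := congrArg Subtype.val h1
      have h3 : piX t htc ((zD t htc)⁻¹ * d.1) = 1 := by
        rw [map_mul, map_inv, h2, inv_mul_cancel]
      rcases (piX_eq_one_iff t htc htt _).mp h3 with h4 | h4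
      · right; right; left
        calc d.1 = zD t htc * ((zD t htc)⁻¹ * d.1) := by group
          _ = zD t htc := by rw [h4, mul_one]
      · right; right; right
        calc d.1 = zD t htc * ((zD t htc)⁻¹ * d.1) := by group
          _ = zD t htc * tD t htc := by rw [h4]
  · rintro (h | h | h | h)
    · have : (⟨piX t htc d.1, Subgroup.mem_map_of_mem _ d.2⟩ : ↥(Qbar Q t htc)) = 1 := by
        apply Subtype.ext; show piX t htc d.1 = 1; rw [h, map_one]
      rw [this]; exact Subgroup.one_mem _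
    · have : (⟨piX t htc d.1, Subgroup.mem_map_of_mem _ d.2⟩ : ↥(Qbar Q t htc)) = 1 := by
        apply Subtype.ext; show piX t htc d.1 = 1; rw [h, hπt]
      rw [this]; exact Subgroup.one_mem _
    · have : (⟨piX t htc d.1, Subgroup.mem_map_of_mem _ d.2⟩ : ↥(Qbar Q t htc)) =
          ⟨piX t htc (zD t htc), Subgroup.mem_map_of_mem _ (zD_mem hS t htc)⟩ := by
        apply Subtype.ext; show piX t htc d.1 = _; rw [h]
      rw [this]; exact hE.mem
    · have : (⟨piX t htc d.1, Subgroup.mem_map_of_mem _ d.2⟩ : ↥(Qbar Q t htc)) =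
          ⟨piX t htc (zD t htc), Subgroup.mem_map_of_mem _ (zD_mem hS t htc)⟩ := by
        apply Subtype.ext; show piX t htc d.1 = _; rw [h, map_mul, hπt, mul_one]
      rw [this]; exact hE.mem

/-- the module map -/
noncomputable def psiBar (y : leechPerpU) :
    ↥(Qbar Q t htc) ⧸ Subgroup.center ↥(Qbar Q t htc) := by
  classical
  exact
    dite ((ψ (y : leechLattice)).out * (⟨⟨t, htc⟩, htQ⟩ : Q) =
        (⟨⟨t, htc⟩, htQ⟩ : Q) * (ψ (y : leechLattice)).out)
      (fun h => lamQ t htc ⟨ofQ t htc htQ _ h, ofQ_mem t htc htQ _ h⟩)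
      (fun _ => 1)

include hS ht2 hnc in
theorem psiBar_of_lift (y : leechPerpU) (q : Q) (hq : ψ (y : leechLattice) = QuotientGroup.mk q)
    (hqc : q * (⟨⟨t, htc⟩, htQ⟩ : Q) = (⟨⟨t, htc⟩, htQ⟩ : Q) * q) :
    psiBar ψ t htc htQ y = lamQ t htc ⟨ofQ t htc htQ q hqc, ofQ_mem t htc htQ q hqc⟩ := by
  have hE := isE2_zQ hS
  have h1 : (QuotientGroup.mk (ψ (y : leechLattice)).out : Q ⧸ Subgroup.center Q) =
      QuotientGroup.mk q := by rw [QuotientGroup.out_eq', hq]
  have h2 := QuotientGroup.eq.mp h1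
  obtain ⟨c, hc, hqe⟩ : ∃ c ∈ Subgroup.center Q, (ψ (y : leechLattice)).out = q * c :=
    ⟨q⁻¹ * (ψ (y : leechLattice)).out, by
      have := Subgroup.inv_mem _ h2
      simpa using this, by group⟩
  have hcc := Subgroup.mem_center_iff.mp hc
  have hout : (ψ (y : leechLattice)).out * (⟨⟨t, htc⟩, htQ⟩ : Q) =
      (⟨⟨t, htc⟩, htQ⟩ : Q) * (ψ (y : leechLattice)).out := by
    rw [hqe]
    calc q * c * (⟨⟨t, htc⟩, htQ⟩ : Q) = q * ((⟨⟨t, htc⟩, htQ⟩ : Q) * c) := by
          rw [mul_assoc, hcc]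
      _ = (q * (⟨⟨t, htc⟩, htQ⟩ : Q)) * c := by group
      _ = (⟨⟨t, htc⟩, htQ⟩ : Q) * (q * c) := by rw [hqc]; group
  unfold psiBar
  rw [dif_pos hout]
  have hccom : c * (⟨⟨t, htc⟩, htQ⟩ : Q) = (⟨⟨t, htc⟩, htQ⟩ : Q) * c := (hcc _).symm
  have hab : (⟨ofQ t htc htQ _ hout, ofQ_mem t htc htQ _ hout⟩ : ↥(QD Q t htc)) =
      ⟨ofQ t htc htQ q hqc, ofQ_mem t htc htQ q hqc⟩ *
        ⟨ofQ t htc htQ c hccom, ofQ_mem t htc htQ c hccom⟩ := by
    apply Subtype.ext
    apply Subtype.ext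
    show ((ψ (y : leechLattice)).out : Subgroup.centralizer ({z} : Set G)) =
      (q : Subgroup.centralizer ({z} : Set G)) * (c : Subgroup.centralizer ({z} : Set G))
    rw [hqe]; rfl
  rw [hab, map_mul]
  have h3 : lamQ t htc (⟨ofQ t htc htQ c hccom, ofQ_mem t htc htQ c hccom⟩ : ↥(QD Q t htc)) = 1 := by
    rw [lamQ_eq_one_iff hS t htc htQ ht2 hnc]
    rcases hE.all c hc with h4 | h4
    · left
      apply Subtype.ext
      exact congrArg (fun q : Q => (q : Subgroup.centralizer ({z} : Set G))) h4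
    · right; right; left
      apply Subtype.ext
      exact congrArg (fun q : Q => (q : Subgroup.centralizer ({z} : Set G))) h4
  rw [h3, mul_one]

end psi

end Cfsg.Agent.Lib.Helper4.BM

namespace Cfsg.Agent.Lib.Helper4.BM

open Cfsg Cfsg.Agent.Lib.Conway Cfsg.Agent.Lib.Helper29 Cfsg.Agent.Lib.Helper4.MC

section psi2

variable {G : Type*} [Group G] [Finite G] {z : G}
  {Q : Subgroup (Subgroup.centralizer ({z} : Set G))} [hQn : Q.Normal]
  (hS : IsExtraspecialCentralizerSetting z Q 12)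
  (e : (Subgroup.centralizer ({z} : Set G)) ⧸ Q ≃* Spor.Co1)
  (ψ : leechLattice → Q ⧸ Subgroup.center Q) (hψ : IsLeechModTwoIso Q e ψ)
  (t : G) (htc : t ∈ Subgroup.centralizer ({z} : Set G))
  (htQ : (⟨t, htc⟩ : Subgroup.centralizer ({z} : Set G)) ∈ Q)
  (ht2 : orderOf t = 2) (hnc : ¬ IsConj z t)
  (hu : ψ Spor.leechU = QuotientGroup.mk (⟨⟨t, htc⟩, htQ⟩ : Q))
  [hn : ((Subgroup.zpowers t).subgroupOf (Subgroup.centralizer ({t} : Set G))).Normal]

include hS hψ hu in
/-- an element of `Q` commutes with `t` iff its vector is orthogonal to `u` modulo 2 -/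
theorem comm_iff_perp (y : leechLattice) (q : Q) (hq : ψ y = QuotientGroup.mk q) :
    q * (⟨⟨t, htc⟩, htQ⟩ : Q) = (⟨⟨t, htc⟩, htQ⟩ : Q) * q ↔ y ∈ leechPerpU := by
  have hE := isE2_zQ hS
  obtain ⟨hadd, hsurj, hker, hequiv⟩ := hψ
  have hna : ∃ a b : Q, a * b ≠ b * a := hE.not_comm_of_card (by rw [hS.2.2.2.1]; norm_num)
  exact comm_iff hE ψ hadd hsurj hker (hconj_of e ψ hequiv) hna hq hu

include hS hψ hu ht2 hnc in
theorem psiBar_add (x y : leechPerpU) :
    psiBar ψ t htc htQ (x + y) = psiBar ψ t htc htQ x * psiBar ψ t htc htQ y := by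
  have hx : ψ (x : leechLattice) = QuotientGroup.mk (ψ (x : leechLattice)).out :=
    (QuotientGroup.out_eq' _).symm
  have hy : ψ (y : leechLattice) = QuotientGroup.mk (ψ (y : leechLattice)).out :=
    (QuotientGroup.out_eq' _).symm
  have hxc := (comm_iff_perp hS e ψ hψ t htc htQ hu _ _ hx).mpr x.2
  have hyc := (comm_iff_perp hS e ψ hψ t htc htQ hu _ _ hy).mpr y.2
  have hxy : ψ ((x + y : leechPerpU) : leechLattice) =
      QuotientGroup.mk ((ψ (x : leechLattice)).out * (ψ (y : leechLattice)).out) := by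
    rw [AddSubgroup.coe_add, hψ.1, QuotientGroup.mk_mul, ← hx, ← hy]
  have hxyc := (comm_iff_perp hS e ψ hψ t htc htQ hu _ _ hxy).mpr (x + y).2
  rw [psiBar_of_lift hS ψ t htc htQ ht2 hnc x _ hx hxc,
    psiBar_of_lift hS ψ t htc htQ ht2 hnc y _ hy hyc,
    psiBar_of_lift hS ψ t htc htQ ht2 hnc (x + y) _ hxy hxyc, ← map_mul]
  rfl

include hS hψ hu ht2 hnc in
theorem psiBar_surjective : Function.Surjective (psiBar (Q := Q) ψ t htc htQ) := by
  intro w
  obtain ⟨⟨_, d, hd, rfl⟩, rfl⟩ := QuotientGroup.mk_surjective w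
  obtain ⟨y, hy⟩ := hψ.2.1 (QuotientGroup.mk (toQ t htc d hd))
  have hyp := (comm_iff_perp hS e ψ hψ t htc htQ hu y _ hy).mp (toQ_comm t htc htQ d hd)
  refine ⟨⟨y, hyp⟩, ?_⟩
  rw [psiBar_of_lift hS ψ t htc htQ ht2 hnc ⟨y, hyp⟩ _ hy (toQ_comm t htc htQ d hd)]
  rfl

include hS hψ hu ht2 hnc in
theorem psiBar_eq_one_iff (x : leechPerpU) : psiBar ψ t htc htQ x = 1 ↔
    (∃ w : leechLattice, (x : leechLattice) = w + w) ∨
      ∃ w : leechLattice, (x : leechLattice) = Spor.leechU + (w + w) := by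
  have hE := isE2_zQ hS
  have hx : ψ (x : leechLattice) = QuotientGroup.mk (ψ (x : leechLattice)).out :=
    (QuotientGroup.out_eq' _).symm
  have hxc := (comm_iff_perp hS e ψ hψ t htc htQ hu _ _ hx).mpr x.2
  rw [psiBar_of_lift hS ψ t htc htQ ht2 hnc x _ hx hxc, lamQ_eq_one_iff hS t htc htQ ht2 hnc]
  obtain ⟨hadd, hsurj, hker, hequiv⟩ := hψ
  set q := (ψ (x : leechLattice)).out with hq
  have hzmk : (QuotientGroup.mk (zQ hS) : Q ⧸ Subgroup.center Q) = 1 :=
    (QuotientGroup.eq_one_iff _).mpr hE.mem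
  have hψ2 : ∀ w : leechLattice, ψ (w + w) = 1 := fun w => (hker _).mpr ⟨w, rfl⟩
  have htt : (⟨⟨t, htc⟩, htQ⟩ : Q) * (⟨⟨t, htc⟩, htQ⟩ : Q) = 1 := by
    apply Subtype.ext; apply Subtype.ext; exact t_sq t ht2
  have hright : ψ (x : leechLattice) = QuotientGroup.mk (⟨⟨t, htc⟩, htQ⟩ : Q) →
      ∃ w : leechLattice, (x : leechLattice) = Spor.leechU + (w + w) := by
    intro h
    have h1 : ψ ((x : leechLattice) + Spor.leechU) = 1 := by
      rw [hadd, h, hu, ← QuotientGroup.mk_mul, htt]; rfl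
    obtain ⟨w, hw⟩ := (hker _).mp h1
    refine ⟨w - Spor.leechU, ?_⟩
    have : (x : leechLattice) = ((x : leechLattice) + Spor.leechU) - Spor.leechU := by abel
    rw [this, hw]; abel
  constructor
  · rintro (h | h | h | h)
    · left
      have h1 : q = 1 :=
        Subtype.ext (congrArg (fun d : Dt t htc => (d : Subgroup.centralizer ({z} : Set G))) h)
      apply (hker _).mp
      rw [hx, h1]; rfl
    · right
      have h1 : q = ⟨⟨t, htc⟩, htQ⟩ :=
        Subtype.ext (congrArg (fun d : Dt t htc => (d : Subgroup.centralizer ({z} : Set G))) h)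
      apply hright
      rw [hx, h1]
    · left
      have h1 : q = zQ hS :=
        Subtype.ext (congrArg (fun d : Dt t htc => (d : Subgroup.centralizer ({z} : Set G))) h)
      apply (hker _).mp
      rw [hx, h1, hzmk]
    · right
      have h1 : q = zQ hS * ⟨⟨t, htc⟩, htQ⟩ :=
        Subtype.ext (congrArg (fun d : Dt t htc => (d : Subgroup.centralizer ({z} : Set G))) h)
      apply hright
      rw [hx, h1, QuotientGroup.mk_mul, hzmk, one_mul]
  · rintro (⟨w, hw⟩ | ⟨w, hw⟩)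
    · have h1 : ψ (x : leechLattice) = 1 := (hker _).mpr ⟨w, hw⟩
      rw [hx] at h1
      have h2 := (QuotientGroup.eq_one_iff _).mp h1
      rcases hE.all _ h2 with h3 | h3
      · left
        apply Subtype.ext
        exact congrArg (fun q : Q => (q : Subgroup.centralizer ({z} : Set G))) h3
      · right; right; left
        apply Subtype.ext
        exact congrArg (fun q : Q => (q : Subgroup.centralizer ({z} : Set G))) h3
    · have h1 : ψ (x : leechLattice) = QuotientGroup.mk (⟨⟨t, htc⟩, htQ⟩ : Q) := by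
        rw [hw, hadd, hψ2, mul_one, hu]
      rw [hx] at h1
      have h2 := QuotientGroup.eq.mp h1
      have h2' := Subgroup.inv_mem _ h2
      have hinv : (q⁻¹ * (⟨⟨t, htc⟩, htQ⟩ : Q))⁻¹ = (⟨⟨t, htc⟩, htQ⟩ : Q)⁻¹ * q := by group
      rw [hinv] at h2'
      have htinv : (⟨⟨t, htc⟩, htQ⟩ : Q)⁻¹ = ⟨⟨t, htc⟩, htQ⟩ := inv_eq_of_mul_eq_one_right htt
      rw [htinv] at h2'
      rcases hE.all _ h2' with h3 | h3
      · right; left
        have h4 : q = ⟨⟨t, htc⟩, htQ⟩ := by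
          calc q = (⟨⟨t, htc⟩, htQ⟩ : Q) * ((⟨⟨t, htc⟩, htQ⟩ : Q) * q) := by
                rw [← mul_assoc, htt, one_mul]
            _ = ⟨⟨t, htc⟩, htQ⟩ := by rw [h3, mul_one]
        apply Subtype.ext
        exact congrArg (fun q : Q => (q : Subgroup.centralizer ({z} : Set G))) h4
      · right; right; right
        have h4 : q = zQ hS * ⟨⟨t, htc⟩, htQ⟩ := by
          calc q = (⟨⟨t, htc⟩, htQ⟩ : Q) * ((⟨⟨t, htc⟩, htQ⟩ : Q) * q) := by
                rw [← mul_assoc, htt, one_mul]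
            _ = (⟨⟨t, htc⟩, htQ⟩ : Q) * zQ hS := by rw [h3]
            _ = zQ hS * ⟨⟨t, htc⟩, htQ⟩ := hE.zcomm _
        apply Subtype.ext
        exact congrArg (fun q : Q => (q : Subgroup.centralizer ({z} : Set G))) h4

end psi2

end Cfsg.Agent.Lib.Helper4.BM
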