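import Mathlib
import Cfsg.Agent.Lib.Helper4.BabyCore5

set_option autoImplicit false
set_option linter.unusedSectionVars false

namespace Cfsg.Agent.Lib.Helper4.BM

open Cfsg Cfsg.Agent.Lib.Conway Cfsg.Agent.Lib.Helper29 Cfsg.Agent.Lib.Helper4.MC

section psi3

variable {G : Type*} [Group G] [Finite G] {z : G}
  {Q : Subgroup (Subgroup.centralizer ({z} : Set G))} [hQn : Q.Normal]
  (hS : IsExtraspecialCentralizerSetting z Q 12)
  (e : (Subgroup.centralizer ({z} : Set G)) ⧸ Q ≃* Spor.Co1)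
  (ψ : leechLattice → Q ⧸ Subgroup.center Q) (hψ : IsLeechModTwoIso Q e ψ)
  (t : G) (htc : t ∈ Subgroup.centralizer ({z} : Set G))
  (htQ : (⟨t, htc⟩ : Subgroup.centralizer ({z} : Set G)) ∈ Q)
  (ht2 : orderOf t = 2) (hnc : ¬ IsConj z t)
  (hu : ψ Spor.leechU = QuotientGroup.mk (⟨⟨t, htc⟩, htQ⟩ : Q))
  [hn : ((Subgroup.zpowers t).subgroupOf (Subgroup.centralizer ({t} : Set G))).Normal]

include hS ht2 hnc in
/-- equivariance of the module map -/
theorem psiBar_equiv (d : Dt t htc) (x y : leechPerpU)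
    (hxy : co2Incl (Phi0 e ψ t htc htQ hψ hu d) • (x : leechLattice) = (y : leechLattice))
    (q : ↥(Qbar Q t htc)) (hq : psiBar ψ t htc htQ x = QuotientGroup.mk q)
    (hmem : piX t htc d * (q : Subgroup.centralizer ({zbar t htc} : Set _)) * (piX t htc d)⁻¹ ∈
      Qbar Q t htc) :
    psiBar ψ t htc htQ y = QuotientGroup.mk ⟨piX t htc d *
      (q : Subgroup.centralizer ({zbar t htc} : Set _)) * (piX t htc d)⁻¹, hmem⟩ := by
  have hEb := isE2_Qbar hS t htc htQ ht2 hnc
  have hx : ψ (x : leechLattice) = QuotientGroup.mk (ψ (x : leechLattice)).out :=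
    (QuotientGroup.out_eq' _).symm
  have hxc := (comm_iff_perp hS e ψ hψ t htc htQ hu _ _ hx).mpr x.2
  have h1 := hψ.2.2.2 (d : Subgroup.centralizer ({z} : Set G))
    (co2Incl (Phi0 e ψ t htc htQ hψ hu d)) (Phi0_mk e ψ hψ t htc htQ hu d) (x : leechLattice)
    (ψ (x : leechLattice)).out hx
  rw [hxy] at h1
  have hyc := (comm_iff_perp hS e ψ hψ t htc htQ hu _ _ h1).mpr y.2
  rw [psiBar_of_lift hS ψ t htc htQ ht2 hnc y _ h1 hyc, lamQ_apply]
  rw [psiBar_of_lift hS ψ t htc htQ ht2 hnc x _ hx hxc, lamQ_apply] at hq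
  have h2 := QuotientGroup.eq.mp hq
  rw [QuotientGroup.eq]
  rcases hEb.all _ h2 with h3 | h3
  · have h4 := congrArg Subtype.val h3
    simp only [Subgroup.coe_mul, Subgroup.coe_inv, Subgroup.coe_one] at h4
    have : (⟨piX t htc (ofQ t htc htQ _ hyc), Subgroup.mem_map_of_mem _
        (ofQ_mem t htc htQ _ hyc)⟩ : ↥(Qbar Q t htc))⁻¹ * ⟨piX t htc d *
        (q : Subgroup.centralizer ({zbar t htc} : Set _)) * (piX t htc d)⁻¹, hmem⟩ = 1 := by
      apply Subtype.ext
      simp only [Subgroup.coe_mul, Subgroup.coe_inv, Subgroup.coe_one]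
      have h5 : ofQ t htc htQ _ hyc = d * ofQ t htc htQ _ hxc * d⁻¹ := rfl
      rw [h5, map_mul, map_mul, map_inv]
      have h6 : (q : Subgroup.centralizer ({zbar t htc} : Set _)) =
          piX t htc (ofQ t htc htQ _ hxc) := by
        calc (q : Subgroup.centralizer ({zbar t htc} : Set _))
            = piX t htc (ofQ t htc htQ _ hxc) * ((piX t htc (ofQ t htc htQ _ hxc))⁻¹ *
              (q : Subgroup.centralizer ({zbar t htc} : Set _))) := by group
          _ = _ := by rw [h4, mul_one]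
      rw [h6]; group
    rw [this]; exact Subgroup.one_mem _
  · have h4 := congrArg Subtype.val h3
    simp only [Subgroup.coe_mul, Subgroup.coe_inv] at h4
    have : (⟨piX t htc (ofQ t htc htQ _ hyc), Subgroup.mem_map_of_mem _
        (ofQ_mem t htc htQ _ hyc)⟩ : ↥(Qbar Q t htc))⁻¹ * ⟨piX t htc d *
        (q : Subgroup.centralizer ({zbar t htc} : Set _)) * (piX t htc d)⁻¹, hmem⟩ =
        ⟨piX t htc (zD t htc), Subgroup.mem_map_of_mem _ (zD_mem hS t htc)⟩ := by
      apply Subtype.ext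
      simp only [Subgroup.coe_mul, Subgroup.coe_inv]
      have h5 : ofQ t htc htQ _ hyc = d * ofQ t htc htQ _ hxc * d⁻¹ := rfl
      rw [h5, map_mul, map_mul, map_inv]
      have h6 : (q : Subgroup.centralizer ({zbar t htc} : Set _)) =
          piX t htc (ofQ t htc htQ _ hxc) * piX t htc (zD t htc) := by
        calc (q : Subgroup.centralizer ({zbar t htc} : Set _))
            = piX t htc (ofQ t htc htQ _ hxc) * ((piX t htc (ofQ t htc htQ _ hxc))⁻¹ *
              (q : Subgroup.centralizer ({zbar t htc} : Set _))) := by group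
          _ = _ := by rw [h4]
      have h7 : piX t htc d * piX t htc (zD t htc) = piX t htc (zD t htc) * piX t htc d := by
        rw [← map_mul, ← map_mul, zD_comm]
      rw [h6]
      calc (piX t htc d * piX t htc (ofQ t htc htQ _ hxc) * (piX t htc d)⁻¹)⁻¹ *
            (piX t htc d * (piX t htc (ofQ t htc htQ _ hxc) * piX t htc (zD t htc)) *
              (piX t htc d)⁻¹)
          = (piX t htc d * piX t htc (zD t htc)) * (piX t htc d)⁻¹ := by group
        _ = piX t htc (zD t htc) := by rw [h7]; group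
    rw [this]; exact hEb.mem

end psi3

end Cfsg.Agent.Lib.Helper4.BM

namespace Cfsg.Agent.Lib.Helper4.BM

open Cfsg Cfsg.Agent.Lib.Conway Cfsg.Agent.Lib.Helper29 Cfsg.Agent.Lib.Helper4.MC

section cent

variable {G : Type*} [Group G] [Finite G] {z : G}
  {Q : Subgroup (Subgroup.centralizer ({z} : Set G))} [hQn : Q.Normal]
  (hS : IsExtraspecialCentralizerSetting z Q 12)
  (e : (Subgroup.centralizer ({z} : Set G)) ⧸ Q ≃* Spor.Co1)
  (ψ : leechLattice → Q ⧸ Subgroup.center Q) (hψ : IsLeechModTwoIso Q e ψ)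
  (t : G) (htc : t ∈ Subgroup.centralizer ({z} : Set G))
  (htQ : (⟨t, htc⟩ : Subgroup.centralizer ({z} : Set G)) ∈ Q)
  (ht2 : orderOf t = 2) (hnc : ¬ IsConj z t)
  (hu : ψ Spor.leechU = QuotientGroup.mk (⟨⟨t, htc⟩, htQ⟩ : Q))
  [hn : ((Subgroup.zpowers t).subgroupOf (Subgroup.centralizer ({t} : Set G))).Normal]

include hS hψ ht2 hnc hu in
/-- the image of `Q` contains its centraliser -/
theorem cent_Qbar_le : Subgroup.centralizer ((Qbar Q t htc : Subgroup _) : Set _) ≤ Qbar Q t htc := by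
  intro x hx
  have htt := t_sq t ht2
  obtain ⟨d, rfl⟩ := piX_surjective hS e ψ hψ t htc htQ ht2 hu x
  have hψ' := hψ
  obtain ⟨hadd, hsurj, hker, hequiv⟩ := hψ'
  have hψ2 : ∀ w : leechLattice, ψ (w + w) = 1 := fun w => (hker _).mpr ⟨w, rfl⟩
  suffices h : Phi0 e ψ t htc htQ hψ hu d = 1 by
    have h1 : d ∈ (Phi0 e ψ t htc htQ hψ hu).ker := h
    rw [Phi0_ker] at h1
    exact Subgroup.mem_map_of_mem _ h1
  apply co2Incl_injective
  rw [map_one]
  apply co2_faithful _ (co2_fix _)
  intro y hy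
  have hy' : ψ y = QuotientGroup.mk (ψ y).out := (QuotientGroup.out_eq' _).symm
  have hyc := (comm_iff_perp hS e ψ hψ t htc htQ hu _ _ hy').mpr hy
  have h1 := hequiv (d : Subgroup.centralizer ({z} : Set G))
    (co2Incl (Phi0 e ψ t htc htQ hψ hu d)) (Phi0_mk e ψ hψ t htc htQ hu d) y (ψ y).out hy'
  have h2 := Subgroup.mem_centralizer_iff.mp hx (piX t htc (ofQ t htc htQ _ hyc))
    (Subgroup.mem_map_of_mem _ (ofQ_mem t htc htQ _ hyc))
  have h3 : piX t htc (d * ofQ t htc htQ _ hyc * d⁻¹ * (ofQ t htc htQ _ hyc)⁻¹) = 1 := by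
    rw [map_mul, map_mul, map_mul, map_inv, map_inv, ← h2]; group
  rcases (piX_eq_one_iff t htc htt _).mp h3 with h4 | h4
  · -- `d` centralises the lift
    have h5 : (⟨(d : Subgroup.centralizer ({z} : Set G)) * ((ψ y).out : Q) *
        (d : Subgroup.centralizer ({z} : Set G))⁻¹, hQn.conj_mem _ (ψ y).out.2 _⟩ : Q) =
        (ψ y).out := by
      apply Subtype.ext
      have h6 := congrArg (fun d : Dt t htc => (d : Subgroup.centralizer ({z} : Set G))) h4
      simp only [Subgroup.coe_mul, Subgroup.coe_inv, Subgroup.coe_one] at h6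
      show (d : Subgroup.centralizer ({z} : Set G)) * (((ψ y).out : Q) :
        Subgroup.centralizer ({z} : Set G)) * (d : Subgroup.centralizer ({z} : Set G))⁻¹ = _
      have h7 : ((ofQ t htc htQ _ hyc : Dt t htc) : Subgroup.centralizer ({z} : Set G)) =
          (((ψ y).out : Q) : Subgroup.centralizer ({z} : Set G)) := rfl
      rw [h7] at h6
      calc (d : Subgroup.centralizer ({z} : Set G)) * (((ψ y).out : Q) :
            Subgroup.centralizer ({z} : Set G)) * (d : Subgroup.centralizer ({z} : Set G))⁻¹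
          = ((d : Subgroup.centralizer ({z} : Set G)) * (((ψ y).out : Q) :
            Subgroup.centralizer ({z} : Set G)) * (d : Subgroup.centralizer ({z} : Set G))⁻¹ *
            ((((ψ y).out : Q) : Subgroup.centralizer ({z} : Set G)))⁻¹) *
            (((ψ y).out : Q) : Subgroup.centralizer ({z} : Set G)) := by group
        _ = _ := by rw [h6, one_mul]
    rw [h5, ← hy'] at h1
    have h8 : ψ (co2Incl (Phi0 e ψ t htc htQ hψ hu d) • y + y) = 1 := by
      rw [hadd, h1]; exact Cfsg.Agent.Lib.Helper4.MP.psi_sq ψ hadd hker y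
    obtain ⟨w, hw⟩ := (hker _).mp h8
    left
    refine ⟨w - y, ?_⟩
    have : co2Incl (Phi0 e ψ t htc htQ hψ hu d) • y - y =
        (co2Incl (Phi0 e ψ t htc htQ hψ hu d) • y + y) - (y + y) := by abel
    rw [this, hw]; abel
  · -- `d` moves the lift by `t`
    have h5 : (⟨(d : Subgroup.centralizer ({z} : Set G)) * ((ψ y).out : Q) *
        (d : Subgroup.centralizer ({z} : Set G))⁻¹, hQn.conj_mem _ (ψ y).out.2 _⟩ : Q) =
        (⟨⟨t, htc⟩, htQ⟩ : Q) * (ψ y).out := by
      apply Subtype.ext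
      have h6 := congrArg (fun d : Dt t htc => (d : Subgroup.centralizer ({z} : Set G))) h4
      simp only [Subgroup.coe_mul, Subgroup.coe_inv] at h6
      show (d : Subgroup.centralizer ({z} : Set G)) * (((ψ y).out : Q) :
        Subgroup.centralizer ({z} : Set G)) * (d : Subgroup.centralizer ({z} : Set G))⁻¹ =
        (⟨t, htc⟩ : Subgroup.centralizer ({z} : Set G)) *
          (((ψ y).out : Q) : Subgroup.centralizer ({z} : Set G))
      have h7 : ((ofQ t htc htQ _ hyc : Dt t htc) : Subgroup.centralizer ({z} : Set G)) =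
          (((ψ y).out : Q) : Subgroup.centralizer ({z} : Set G)) := rfl
      have h7' : ((tD t htc : Dt t htc) : Subgroup.centralizer ({z} : Set G)) = ⟨t, htc⟩ := rfl
      rw [h7, h7'] at h6
      calc (d : Subgroup.centralizer ({z} : Set G)) * (((ψ y).out : Q) :
            Subgroup.centralizer ({z} : Set G)) * (d : Subgroup.centralizer ({z} : Set G))⁻¹
          = ((d : Subgroup.centralizer ({z} : Set G)) * (((ψ y).out : Q) :
            Subgroup.centralizer ({z} : Set G)) * (d : Subgroup.centralizer ({z} : Set G))⁻¹ *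
            ((((ψ y).out : Q) : Subgroup.centralizer ({z} : Set G)))⁻¹) *
            (((ψ y).out : Q) : Subgroup.centralizer ({z} : Set G)) := by group
        _ = _ := by rw [h6]
    rw [h5, QuotientGroup.mk_mul, ← hy', ← hu] at h1
    have h8 : ψ (co2Incl (Phi0 e ψ t htc htQ hψ hu d) • y + (Spor.leechU + y)) = 1 := by
      rw [hadd, h1, hadd]
      have e1 := Cfsg.Agent.Lib.Helper4.MP.psi_sq ψ hadd hker y
      have e2 := Cfsg.Agent.Lib.Helper4.MP.psi_sq ψ hadd hker Spor.leechU
      have hcomm : ψ y * ψ Spor.leechU = ψ Spor.leechU * ψ y := by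
        rw [← hadd, ← hadd, add_comm]
      calc ψ Spor.leechU * ψ y * (ψ Spor.leechU * ψ y)
          = ψ Spor.leechU * (ψ y * ψ Spor.leechU) * ψ y := by group
        _ = ψ Spor.leechU * (ψ Spor.leechU * ψ y) * ψ y := by rw [hcomm]
        _ = (ψ Spor.leechU * ψ Spor.leechU) * (ψ y * ψ y) := by group
        _ = 1 := by rw [e1, e2, one_mul]
    obtain ⟨w, hw⟩ := (hker _).mp h8
    right
    refine ⟨w - y - Spor.leechU, ?_⟩
    have : co2Incl (Phi0 e ψ t htc htQ hψ hu d) • y - y =
        (co2Incl (Phi0 e ψ t htc htQ hψ hu d) • y + (Spor.leechU + y)) -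
          (Spor.leechU + (y + y)) := by abel
    rw [this, hw]; abel

end cent

end Cfsg.Agent.Lib.Helper4.BM
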