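import Mathlib
import Cfsg.Agent.Lib.Helper4.BabyCore6

set_option autoImplicit false
set_option linter.unusedSectionVars false

/-!
Groups of Monster type: the intersection of `Q` with a conjugate contains a non-`2B` involution,
and consequences for fusion in the centraliser of such an involution.
-/

namespace Cfsg.Agent.Lib.Helper4.BM

open Cfsg Cfsg.Agent.Lib.Conway Cfsg.Agent.Lib.Helper29 Cfsg.Agent.Lib.Helper4.MC
open Cfsg.Agent.Lib.Helper4.LXF

theorem not_double (y : leechLattice) (hy : sqNorm (y : Vec) = 32) :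
    ¬ ∃ w : leechLattice, y = w + w := by
  rintro ⟨w, rfl⟩
  have h3 : sqNorm ((w : Vec) + (w : Vec)) = 4 * sqNorm (w : Vec) := by
    rw [Cfsg.Agent.S0393.sqNorm_add, ← Cfsg.Agent.Lib.Helper4.C2C.sqNorm_eq_dot]; ring
  have h4 : sqNorm (((w + w : leechLattice)) : Vec) = sqNorm ((w : Vec) + (w : Vec)) := rfl
  rw [h4, h3] at hy
  by_cases hw : (w : Vec) = 0
  · rw [hw, sqNorm_zero] at hy
    omega
  · have h6 := Cfsg.Agent.Lib.Helper93.Leech.sqNorm_ge_of_mem_leechLattice w.2 hw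
    omega

section fuse

variable {G : Type*} [Group G] [Finite G] {z : G}
  {Q : Subgroup (Subgroup.centralizer ({z} : Set G))} [hQn : Q.Normal]
  (hS : IsExtraspecialCentralizerSetting z Q 12)
  (e : (Subgroup.centralizer ({z} : Set G)) ⧸ Q ≃* Spor.Co1)
  (ψ : leechLattice → Q ⧸ Subgroup.center Q) (hψ : IsLeechModTwoIso Q e ψ)

include hS hψ in
/-- an element of `Q` mapping to a minimal vector is an involution not conjugate to `z` -/
theorem invol_of_type2 (x' : Q) (y : leechLattice) (hy : sqNorm (y : Vec) = 32)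
    (hxy : ψ y = QuotientGroup.mk x') :
    orderOf ((x' : Subgroup.centralizer ({z} : Set G)) : G) = 2 ∧
      ¬ IsConj z ((x' : Subgroup.centralizer ({z} : Set G)) : G) := by
  have hE := isE2_zQ hS
  have hψ' := hψ
  obtain ⟨hadd, hsurj, hker, hequiv⟩ := hψ'
  have hna : ∃ a b : Q, a * b ≠ b * a := hE.not_comm_of_card (by rw [hS.2.2.2.1]; norm_num)
  have hne1 : ψ y ≠ 1 := fun h => not_double y hy ((hker y).mp h)
  have hx1 : ((x' : Subgroup.centralizer ({z} : Set G)) : G) ≠ 1 := by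
    intro h
    apply hne1
    rw [hxy]
    have : x' = 1 := Subtype.ext (Subtype.ext h)
    rw [this]; rfl
  have hsq : x' * x' = 1 := by
    have h1 := Cfsg.Agent.Lib.Helper4.MP.qf_formula hE ψ hadd hsurj hker (hconj_of e ψ hequiv) hna y
    rw [Cfsg.Agent.Lib.Helper4.MP.qf_of_lift hE ψ hxy, hy] at h1
    have h2 : (((32 : ℤ) / 16 : ℤ) : ZMod 2) = 0 := by decide
    rw [h2] at h1
    exact (Cfsg.Agent.Lib.Helper4.EQ.sq_eq_zero_iff x').mp h1
  have hsq' : ((x' : Subgroup.centralizer ({z} : Set G)) : G) *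
      ((x' : Subgroup.centralizer ({z} : Set G)) : G) = 1 :=
    congrArg (fun q : Q => ((q : Subgroup.centralizer ({z} : Set G)) : G)) hsq
  refine ⟨orderOf_eq_prime (by rw [pow_two]; exact hsq') hx1, ?_⟩
  intro hc
  obtain ⟨c, hc⟩ := isConj_iff.mp hc
  by_cases hz : ((x' : Subgroup.centralizer ({z} : Set G)) : G) = z
  · apply hne1
    rw [hxy]
    have : x' = zQ hS := Subtype.ext (Subtype.ext hz)
    rw [this]
    exact (QuotientGroup.eq_one_iff _).mpr hE.mem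
  · exact not_type2 hS e ψ hψ x' c hc hz y hy hxy

include hS hψ in
/-- the intersection of `Q` with a conjugate contains an involution not conjugate to `z` -/
theorem exists_type2_in_EE (x : Q) (g : G)
    (hg : g * z * g⁻¹ = ((x : Subgroup.centralizer ({z} : Set G)) : G))
    (hne : ((x : Subgroup.centralizer ({z} : Set G)) : G) ≠ z) :
    ∃ x' : Q, ((x' : Subgroup.centralizer ({z} : Set G)) : G) ∈
        Pair.EE (famOf (Q1 Q) z) z ((x : Subgroup.centralizer ({z} : Set G)) : G) ∧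
      orderOf ((x' : Subgroup.centralizer ({z} : Set G)) : G) = 2 ∧
      ¬ IsConj z ((x' : Subgroup.centralizer ({z} : Set G)) : G) := by
  have hE := isE2_zQ hS
  obtain ⟨v, hv, hxv⟩ := fwd hS e ψ hψ x g hg hne
  obtain ⟨hTv, hT2, hTn⟩ := TT_props hS e ψ hψ x g hg hne v hxv
  have hTcard := card_TT hS e ψ hψ x g hg hne
  obtain ⟨g0, hg0⟩ := trans8 F0 v sqNorm_F0 hv
  obtain ⟨c, hc, hc32⟩ := exists_sign_type2
  have hmemT := Cfsg.Agent.Lib.Helper4.XS.sign_mem v g0 hg0 _ hTv hT2 hTn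
    (le_of_eq hTcard.symm) c hc
  obtain ⟨r, hrR2, hre⟩ := mem_TT.mp hmemT
  have hψ' := hψ
  obtain ⟨hadd, hsurj, hker, hequiv⟩ := hψ'
  have hna : ∃ a b : Q, a * b ≠ b * a := hE.not_comm_of_card (by rw [hS.2.2.2.1]; norm_num)
  have hfam : Fam (famOf (Q1 Q) z) := fam_fam
  set w : leechLattice := g0 • LB with hw
  have hwq : ψ w = QuotientGroup.mk (ψ w).out := (QuotientGroup.out_eq' _).symm
  -- `q` commutes with `s`
  have hqs : (ψ w).out * x = x * (ψ w).out := by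
    rw [comm_iff hE ψ hadd hsurj hker (hconj_of e ψ hequiv) hna hwq hxv, hw, ← hg0, co0_dot]
    exact dot_LB_F0
  have h1 := hequiv r (g0 * mono 1 c M24.one_mem hc * g0⁻¹) hre.symm w
    (ψ w).out hwq
  set y : leechLattice := (g0 * mono 1 c M24.one_mem hc * g0⁻¹) • w - w
    with hy
  have hy32 : sqNorm (y : Vec) = 32 := by
    have : y = g0 • (mono 1 c M24.one_mem hc • LB - LB) := by
      rw [hy, hw, co0_mul_smul, co0_mul_smul, inv_smul_smul, co0_sub]
    rw [this, co0_norm]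
    exact hc32
  set qr : Q := ⟨r * ((ψ w).out : Q) * r⁻¹, hQn.conj_mem _ (ψ w).out.2 r⟩ with hqr
  have hψy : ψ y = QuotientGroup.mk (qr * ((ψ w).out)⁻¹) := by
    have h2 : ψ y * ψ w = ψ ((g0 * mono 1 c M24.one_mem hc * g0⁻¹) • w) := by
      rw [← hadd, hy, sub_add_cancel]
    rw [h1] at h2
    rw [QuotientGroup.mk_mul, QuotientGroup.mk_inv, ← hwq, ← h2]
    group
  obtain ⟨h2, hnc⟩ := invol_of_type2 hS e ψ hψ _ y hy32 hψy
  refine ⟨qr * ((ψ w).out)⁻¹, ?_, h2, hnc⟩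
  rw [Pair.mem_EE, fam_self]
  refine ⟨mem_Q1.mpr ⟨_, rfl⟩, ?_⟩
  -- membership in the conjugate
  have hr := (Pair.mem_R2.mp hrR2).1
  have hqs' : (((ψ w).out : Q) : G) * ((x : Subgroup.centralizer ({z} : Set G)) : G) =
      ((x : Subgroup.centralizer ({z} : Set G)) : G) * (((ψ w).out : Q) : G) :=
    congrArg (fun q : Q => ((q : Subgroup.centralizer ({z} : Set G)) : G)) hqs
  have h3 := Q_normal hfam hqs' (Subgroup.inv_mem _ hr)
  have h4 := Subgroup.mul_mem _ hr h3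
  have e1 : (((qr * ((ψ w).out)⁻¹ : Q) : Subgroup.centralizer ({z} : Set G)) : G) =
      (r : G) * ((((ψ w).out : Q) : G) * (r : G)⁻¹ * (((ψ w).out : Q) : G)⁻¹) := by
    show (r : G) * (((ψ w).out : Q) : G) * (r : G)⁻¹ * (((ψ w).out : Q) : G)⁻¹ = _
    group
  rw [e1]
  exact h4

end fuse

end Cfsg.Agent.Lib.Helper4.BM

namespace Cfsg.Agent.Lib.Helper4.BM

open Cfsg Cfsg.Agent.Lib.Conway Cfsg.Agent.Lib.Helper29 Cfsg.Agent.Lib.Helper4.MC
open Cfsg.Agent.Lib.Helper4.LXF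

section fuse2

variable {G : Type*} [Group G] [Finite G] {z : G}
  {Q : Subgroup (Subgroup.centralizer ({z} : Set G))} [hQn : Q.Normal]
  (hS : IsExtraspecialCentralizerSetting z Q 12)
  (e : (Subgroup.centralizer ({z} : Set G)) ⧸ Q ≃* Spor.Co1)
  (ψ : leechLattice → Q ⧸ Subgroup.center Q) (hψ : IsLeechModTwoIso Q e ψ)
  (t : G) (htc : t ∈ Subgroup.centralizer ({z} : Set G))
  (htQ : (⟨t, htc⟩ : Subgroup.centralizer ({z} : Set G)) ∈ Q)
  (ht2 : orderOf t = 2) (hnc : ¬ IsConj z t)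
  (hu : ψ Spor.leechU = QuotientGroup.mk (⟨⟨t, htc⟩, htQ⟩ : Q))

include hS hψ ht2 hnc hu in
/-- `z` is fused in `C_G(t)` to another element of `Q ∩ C_G(t)` outside `z<t>` -/
theorem exists_fusion : ∃ k : G, k * t = t * k ∧
    (∃ hkc : k * z * k⁻¹ ∈ Subgroup.centralizer ({z} : Set G),
      (⟨k * z * k⁻¹, hkc⟩ : Subgroup.centralizer ({z} : Set G)) ∈ Q) ∧
    k * z * k⁻¹ ≠ z ∧ k * z * k⁻¹ ≠ z * t := by
  have hS' := hS
  obtain ⟨hz, hF, hX, hcard, g, ⟨hgc, hgQ⟩, hgne⟩ := hS'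
  have hfam : Fam (famOf (Q1 Q) z) := fam_fam
  obtain ⟨x', hx'EE, hx'2, hx'nc⟩ := exists_type2_in_EE hS e ψ hψ ⟨⟨g * z * g⁻¹, hgc⟩, hgQ⟩ g rfl hgne
  obtain ⟨c, hcC, hc⟩ := trans_nonconj hS e ψ hψ x' ⟨⟨t, htc⟩, htQ⟩ hx'2 ht2 hx'nc hnc
  have hc' : c * ((x' : Subgroup.centralizer ({z} : Set G)) : G) * c⁻¹ = t := hc
  have hcz : c * z = z * c := Subgroup.mem_centralizer_singleton_iff.mp hcC
  -- `t` lies in the conjugate of `Q` at `s' = (c g) z (c g)⁻¹`
  have h1 := mem_Q_conj hfam c (Pair.mem_EE.mp hx'EE).2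
  rw [hc'] at h1
  have e1 : c * (g * z * g⁻¹) * c⁻¹ = (c * g) * z * (c * g)⁻¹ := by group
  have h1' : t ∈ famOf (Q1 Q) z ((c * g) * z * (c * g)⁻¹) := by rw [← e1]; exact h1
  have h2 := (mem_Q_conj_iff hfam (c * g) z t).mp h1'
  rw [fam_self] at h2
  obtain ⟨xt'', hxt''⟩ := mem_Q1.mp h2
  have htt := t_sq t ht2
  have h3 : ((xt'' : Subgroup.centralizer ({z} : Set G)) : G) *
      ((xt'' : Subgroup.centralizer ({z} : Set G)) : G) = 1 := by
    rw [hxt'']
    calc (c * g)⁻¹ * t * (c * g) * ((c * g)⁻¹ * t * (c * g)) = (c * g)⁻¹ * (t * t) * (c * g) := by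
          group
      _ = 1 := by rw [htt]; group
  have h4 : ((xt'' : Subgroup.centralizer ({z} : Set G)) : G) ≠ 1 := by
    rw [hxt'']
    intro h
    apply t_ne_one t ht2
    calc t = (c * g) * ((c * g)⁻¹ * t * (c * g)) * (c * g)⁻¹ := by group
      _ = 1 := by rw [h]; group
  have h5 : orderOf ((xt'' : Subgroup.centralizer ({z} : Set G)) : G) = 2 :=
    orderOf_eq_prime (by rw [pow_two]; exact h3) h4
  have h6 : ¬ IsConj z ((xt'' : Subgroup.centralizer ({z} : Set G)) : G) := by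
    intro h
    apply hnc
    refine h.trans (isConj_iff.mpr ⟨c * g, ?_⟩)
    rw [hxt'']; group
  obtain ⟨c2, hc2C, hc2⟩ := trans_nonconj hS e ψ hψ ⟨⟨t, htc⟩, htQ⟩ xt'' ht2 h5 hnc h6
  have hc2' : c2 * t * c2⁻¹ = (c * g)⁻¹ * t * (c * g) := by rw [← hxt'']; exact hc2
  have hc2z : c2 * z = z * c2 := Subgroup.mem_centralizer_singleton_iff.mp hc2C
  have hkz : (c * g * c2) * z * (c * g * c2)⁻¹ = c * (g * z * g⁻¹) * c⁻¹ := by
    calc (c * g * c2) * z * (c * g * c2)⁻¹ = (c * g) * (c2 * z) * c2⁻¹ * (c * g)⁻¹ := by group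
      _ = (c * g) * (z * c2) * c2⁻¹ * (c * g)⁻¹ := by rw [hc2z]
      _ = c * (g * z * g⁻¹) * c⁻¹ := by group
  refine ⟨c * g * c2, ?_, ?_, ?_, ?_⟩
  · have : (c * g * c2) * t * (c * g * c2)⁻¹ = t := by
      calc (c * g * c2) * t * (c * g * c2)⁻¹ = (c * g) * (c2 * t * c2⁻¹) * (c * g)⁻¹ := by group
        _ = t := by rw [hc2']; group
    calc (c * g * c2) * t = ((c * g * c2) * t * (c * g * c2)⁻¹) * (c * g * c2) := by group
      _ = t * (c * g * c2) := by rw [this]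
  · rw [hkz]
    have h7 := hQn.conj_mem _ hgQ ⟨c, hcC⟩
    exact ⟨(⟨c, hcC⟩ * ⟨g * z * g⁻¹, hgc⟩ * ⟨c, hcC⟩⁻¹ : Subgroup.centralizer ({z} : Set G)).2, h7⟩
  · rw [hkz]
    intro h
    apply hgne
    calc g * z * g⁻¹ = c⁻¹ * (c * (g * z * g⁻¹) * c⁻¹) * c := by group
      _ = c⁻¹ * (z * c) := by rw [h]; group
      _ = z := by rw [← hcz]; group
  · intro h
    have hne : z * t ≠ z := by
      intro h2
      have : t = 1 := by
        calc t = z⁻¹ * (z * t) := by group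
          _ = 1 := by rw [h2]; group
      exact t_ne_one t ht2 this
    have hmk : ψ Spor.leechU = QuotientGroup.mk (zQ hS * (⟨⟨t, htc⟩, htQ⟩ : Q)) := by
      rw [hu, QuotientGroup.mk_mul]
      have : (QuotientGroup.mk (zQ hS) : Q ⧸ Subgroup.center Q) = 1 :=
        (QuotientGroup.eq_one_iff _).mpr (isE2_zQ hS).mem
      rw [this, one_mul]
    exact not_type2 hS e ψ hψ (zQ hS * (⟨⟨t, htc⟩, htQ⟩ : Q)) (c * g * c2) h hne Spor.leechU
      sqNorm_leechU hmk

end fuse2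

end Cfsg.Agent.Lib.Helper4.BM
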