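import Mathlib
import Cfsg.Agent.Lib.Helper4.BabyFuse
import Cfsg.Agent.Lib.Helper29.ExtraTwoBuild

set_option autoImplicit false
set_option linter.unusedSectionVars false

/-!
Groups of Monster type: the centraliser of a non-`2B` involution of `Q` modulo that involution is
of Baby Monster type.
-/

namespace Cfsg.Agent.Lib.Helper4.BM

open Cfsg Cfsg.Agent.Lib.Conway Cfsg.Agent.Lib.Helper29 Cfsg.Agent.Lib.Helper4.MC
open Cfsg.Agent.Lib.Helper4.LXF

section normalise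

variable {G : Type*} [Group G] {z : G}
  {Q : Subgroup (Subgroup.centralizer ({z} : Set G))} [hQn : Q.Normal]

/-- changing the identification with the Leech lattice by an automorphism -/
theorem normalise (e : (Subgroup.centralizer ({z} : Set G)) ⧸ Q ≃* Spor.Co1)
    (ψ : leechLattice → Q ⧸ Subgroup.center Q) (hψ : IsLeechModTwoIso Q e ψ) (g1 : Co0) :
    IsLeechModTwoIso Q (e.trans (MulAut.conj ((QuotientGroup.mk g1 : Spor.Co1)⁻¹)))
      (fun v => ψ (g1 • v)) := by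
  obtain ⟨hadd, hsurj, hker, hequiv⟩ := hψ
  refine ⟨?_, ?_, ?_, ?_⟩
  · intro v w
    show ψ (g1 • (v + w)) = ψ (g1 • v) * ψ (g1 • w)
    rw [co0_add, hadd]
  · intro y
    obtain ⟨v0, hv0⟩ := hsurj y
    refine ⟨g1⁻¹ • v0, ?_⟩
    show ψ (g1 • g1⁻¹ • v0) = y
    rw [smul_inv_smul, hv0]
  · intro v
    show ψ (g1 • v) = 1 ↔ _
    rw [hker]
    constructor
    · rintro ⟨w, hw⟩
      refine ⟨g1⁻¹ • w, ?_⟩
      rw [← co0_add, ← hw, inv_smul_smul]
    · rintro ⟨w, rfl⟩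
      exact ⟨g1 • w, co0_add _ _ _⟩
  · intro h g hg v q hq
    show ψ (g1 • g • v) = _
    have h1 : (QuotientGroup.mk (g1 * g * g1⁻¹) : Spor.Co1) = e (QuotientGroup.mk h) := by
      rw [QuotientGroup.mk_mul, QuotientGroup.mk_mul, QuotientGroup.mk_inv, hg]
      simp only [MulEquiv.trans_apply, MulAut.conj_apply, inv_inv]
      group
    have h2 := hequiv h (g1 * g * g1⁻¹) h1 (g1 • v) q hq
    rw [co0_mul_smul, co0_mul_smul, inv_smul_smul] at h2
    exact h2

end normalise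

end Cfsg.Agent.Lib.Helper4.BM

namespace Cfsg.Agent.Lib.Helper4.BM

open Cfsg Cfsg.Agent.Lib.Conway Cfsg.Agent.Lib.Helper29 Cfsg.Agent.Lib.Helper4.MC
open Cfsg.Agent.Lib.Helper4.LXF

section main

variable {G : Type*} [Group G] [Finite G] {z : G}
  {Q : Subgroup (Subgroup.centralizer ({z} : Set G))} [hQn : Q.Normal]
  (hS : IsExtraspecialCentralizerSetting z Q 12)
  (e : (Subgroup.centralizer ({z} : Set G)) ⧸ Q ≃* Spor.Co1)
  (ψ : leechLattice → Q ⧸ Subgroup.center Q) (hψ : IsLeechModTwoIso Q e ψ)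
  (t : G) (htc : t ∈ Subgroup.centralizer ({z} : Set G))
  (htQ : (⟨t, htc⟩ : Subgroup.centralizer ({z} : Set G)) ∈ Q)
  (ht2 : orderOf t = 2) (hnc : ¬ IsConj z t)
  (hu : ψ Spor.leechU = QuotientGroup.mk (⟨⟨t, htc⟩, htQ⟩ : Q))
  [hn : ((Subgroup.zpowers t).subgroupOf (Subgroup.centralizer ({t} : Set G))).Normal]

include hS ht2 hnc in
theorem orderOf_zbar : orderOf (zbar t htc) = 2 := by
  have hzz : z * z = 1 := by
    have := pow_orderOf_eq_one z
    rwa [hS.1, pow_two] at this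
  apply orderOf_eq_prime
  · rw [pow_two]
    unfold zbar
    rw [← QuotientGroup.mk_mul]
    apply (QuotientGroup.eq_one_iff _).mpr
    rw [Subgroup.mem_subgroupOf]
    show z * z ∈ Subgroup.zpowers t
    rw [hzz]; exact Subgroup.one_mem _
  · intro h
    have h1 : zH t htc ∈ (Subgroup.zpowers t).subgroupOf (Subgroup.centralizer ({t} : Set G)) :=
      (QuotientGroup.eq_one_iff _).mp h
    rw [Subgroup.mem_subgroupOf] at h1
    have h2 : z ∈ Subgroup.zpowers t := h1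
    rcases mem_zpowers_of_sq t (t_sq t ht2) h2 with h3 | h3
    · have := hS.1
      rw [h3, orderOf_one] at this
      omega
    · exact t_ne_z t hnc h3.symm

include hS htQ ht2 hnc in
theorem card_Qbar : Nat.card (Qbar Q t htc) = 2 ^ (2 * 11 + 1) := by
  have h1 := card_map_two (piX t htc) (QD Q t htc) (tD t htc) (piX_eq_one_iff t htc (t_sq t ht2))
    (tD_mem t htc htQ) (tD_ne_one t htc ht2)
  rw [card_QD hS t htc htQ ht2 hnc] at h1
  unfold Qbar
  omega

include hS hψ ht2 hnc hu in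
theorem not_weakly_closed : ∃ g : (Subgroup.centralizer ({t} : Set G)) ⧸
      (Subgroup.zpowers t).subgroupOf (Subgroup.centralizer ({t} : Set G)),
    (∃ hq : g * zbar t htc * g⁻¹ ∈ Subgroup.centralizer ({zbar t htc} : Set _),
      (⟨g * zbar t htc * g⁻¹, hq⟩ : Subgroup.centralizer ({zbar t htc} : Set _)) ∈ Qbar Q t htc) ∧
    g * zbar t htc * g⁻¹ ≠ zbar t htc := by
  obtain ⟨k, hkt, ⟨hkc, hkQ⟩, hk1, hk2⟩ := exists_fusion hS e ψ hψ t htc htQ ht2 hnc hu
  have hkH : k ∈ Subgroup.centralizer ({t} : Set G) := Subgroup.mem_centralizer_singleton_iff.mpr hkt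
  have hzt : z * t = t * z := (Subgroup.mem_centralizer_singleton_iff.mp htc).symm
  have hst : k * z * k⁻¹ * t = t * (k * z * k⁻¹) := by
    have hkt' : k⁻¹ * t = t * k⁻¹ := by
      calc k⁻¹ * t = k⁻¹ * (t * k) * k⁻¹ := by group
        _ = k⁻¹ * (k * t) * k⁻¹ := by rw [hkt]
        _ = t * k⁻¹ := by group
    calc k * z * k⁻¹ * t = k * z * (k⁻¹ * t) := by group
      _ = k * z * (t * k⁻¹) := by rw [hkt']
      _ = k * (z * t) * k⁻¹ := by group
      _ = k * (t * z) * k⁻¹ := by rw [hzt]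
      _ = (k * t) * z * k⁻¹ := by group
      _ = t * (k * z * k⁻¹) := by rw [hkt]; group
  set sD : Dt t htc := ⟨⟨k * z * k⁻¹, hkc⟩, (mem_Dt t htc).mpr hst⟩ with hsD
  have hsQD : sD ∈ QD Q t htc := (mem_QD Q t htc).mpr hkQ
  obtain ⟨kbar, hkbar⟩ : ∃ kbar : (Subgroup.centralizer ({t} : Set G)) ⧸
      (Subgroup.zpowers t).subgroupOf (Subgroup.centralizer ({t} : Set G)),
      kbar = QuotientGroup.mk (⟨k, hkH⟩ : Subgroup.centralizer ({t} : Set G)) := ⟨_, rfl⟩
  have hval : kbar * zbar t htc * kbar⁻¹ =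
      (piX t htc sD : Subgroup.centralizer ({zbar t htc} : Set _)) := by
    rw [piX_coe, hkbar]
    unfold zbar
    rw [← QuotientGroup.mk_inv, ← QuotientGroup.mk_mul, ← QuotientGroup.mk_mul]
    rfl
  refine ⟨kbar, ⟨?_, ?_⟩, ?_⟩
  · rw [hval]; exact (piX t htc sD).2
  · have : (⟨kbar * zbar t htc * kbar⁻¹, by rw [hval]; exact (piX t htc sD).2⟩ :
        Subgroup.centralizer ({zbar t htc} : Set _)) = piX t htc sD := Subtype.ext hval
    rw [this]
    exact Subgroup.mem_map_of_mem _ hsQD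
  · rw [hval, piX_coe]
    unfold zbar
    intro h
    have h1 := QuotientGroup.eq.mp h
    rw [Subgroup.mem_subgroupOf] at h1
    have h2 : (k * z * k⁻¹)⁻¹ * z ∈ Subgroup.zpowers t := h1
    rcases mem_zpowers_of_sq t (t_sq t ht2) h2 with h3 | h3
    · apply hk1
      calc k * z * k⁻¹ = (k * z * k⁻¹) * ((k * z * k⁻¹)⁻¹ * z) := by rw [h3, mul_one]
        _ = z := by group
    · apply hk2
      have htt := t_sq t ht2
      calc k * z * k⁻¹ = z * ((k * z * k⁻¹)⁻¹ * z)⁻¹ := by group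
        _ = z * t⁻¹ := by rw [h3]
        _ = z * t := by rw [inv_eq_of_mul_eq_one_right htt]

end main

end Cfsg.Agent.Lib.Helper4.BM

namespace Cfsg.Agent.Lib.Helper4.BM

open Cfsg Cfsg.Agent.Lib.Conway Cfsg.Agent.Lib.Helper29 Cfsg.Agent.Lib.Helper4.MC
open Cfsg.Agent.Lib.Helper4.LXF

section final

variable {G : Type*} [Group G] [Finite G] {z : G}
  {Q : Subgroup (Subgroup.centralizer ({z} : Set G))} [hQn : Q.Normal]
  (hS : IsExtraspecialCentralizerSetting z Q 12)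
  (e : (Subgroup.centralizer ({z} : Set G)) ⧸ Q ≃* Spor.Co1)
  (ψ : leechLattice → Q ⧸ Subgroup.center Q) (hψ : IsLeechModTwoIso Q e ψ)
  (t : G) (htc : t ∈ Subgroup.centralizer ({z} : Set G))
  (htQ : (⟨t, htc⟩ : Subgroup.centralizer ({z} : Set G)) ∈ Q)
  (ht2 : orderOf t = 2) (hnc : ¬ IsConj z t)
  (hu : ψ Spor.leechU = QuotientGroup.mk (⟨⟨t, htc⟩, htQ⟩ : Q))
  [hn : ((Subgroup.zpowers t).subgroupOf (Subgroup.centralizer ({t} : Set G))).Normal]

include hS hψ ht2 hnc hu in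
/-- the normalised version of the main theorem -/
theorem baby_of_normalised : IsOfBabyMonsterType ((Subgroup.centralizer ({t} : Set G)) ⧸
    (Subgroup.zpowers t).subgroupOf (Subgroup.centralizer ({t} : Set G))) := by
  obtain ⟨Φ, hΦ, hΦsurj, hΦker⟩ := exists_Phi hS e ψ hψ t htc htQ ht2 hnc hu
  have hsurjX := piX_surjective hS e ψ hψ t htc htQ ht2 hu
  have hQbarN : (Qbar Q t htc).Normal := by rw [← hΦker]; exact MonoidHom.normal_ker Φ
  have hcard := card_Qbar hS t htc htQ ht2 hnc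
  have hEb := isE2_Qbar hS t htc htQ ht2 hnc
  have hna := not_comm_map (piX t htc) (QD Q t htc) (zD t htc) (tD t htc)
    (piX_eq_one_iff t htc (t_sq t ht2)) (zD_ne_one hS t htc) (zD_ne_tD t htc hnc)
    (QD_comm hS t htc) (QD_na hS t htc htQ ht2 hnc)
  have hP2 : IsPGroup 2 (Qbar Q t htc) := IsPGroup.of_card hcard
  refine ⟨zbar t htc, Qbar Q t htc, hQbarN, ⟨orderOf_zbar hS t htc ht2 hnc, ?_, ?_, hcard,
    not_weakly_closed hS e ψ hψ t htc htQ ht2 hnc hu⟩, ?_⟩
  · exact fstar_eq_of_co2 (Qbar Q t htc) hP2 Φ hΦsurj hΦker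
      (cent_Qbar_le hS e ψ hψ t htc htQ ht2 hnc hu)
  · exact hEb.isExtraspecial hna
  · refine ⟨(QuotientGroup.quotientMulEquivOfEq hΦker.symm).trans
      (QuotientGroup.quotientKerEquivOfSurjective Φ hΦsurj), psiBar ψ t htc htQ, ?_, ?_, ?_, ?_⟩
    · exact psiBar_add hS e ψ hψ t htc htQ ht2 hnc hu
    · exact psiBar_surjective hS e ψ hψ t htc htQ ht2 hnc hu
    · exact psiBar_eq_one_iff hS e ψ hψ t htc htQ ht2 hnc hu
    · intro h g hg x y hxy q hq
      obtain ⟨d, rfl⟩ := hsurjX h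
      have h1 : Phi0 e ψ t htc htQ hψ hu d = g := by
        rw [← hΦ d, ← hg]
        rfl
      have hxy' : co2Incl (Phi0 e ψ t htc htQ hψ hu d) • (x : leechLattice) = (y : leechLattice) := by
        rw [h1]; exact hxy
      exact psiBar_equiv hS e ψ hψ t htc htQ ht2 hnc hu d x y hxy' q hq _

end final

/-- **The centraliser of a non-`2B` involution of `Q`, modulo that involution, is of Baby Monster
type.** -/
theorem main_result {G : Type*} [Group G] [Finite G] (z : G)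
    (Q : Subgroup (Subgroup.centralizer ({z} : Set G))) [Q.Normal]
    (hM : Cfsg.IsOfMonsterType z Q) (t : G)
    (htQ : ∃ htc : t ∈ Subgroup.centralizer ({z} : Set G),
      (⟨t, htc⟩ : Subgroup.centralizer ({z} : Set G)) ∈ Q)
    (ht2 : orderOf t = 2) (ht : ¬ IsConj z t)
    [hn : ((Subgroup.zpowers t).subgroupOf (Subgroup.centralizer ({t} : Set G))).Normal] :
    Cfsg.IsOfBabyMonsterType (↥(Subgroup.centralizer ({t} : Set G)) ⧸
      (Subgroup.zpowers t).subgroupOf (Subgroup.centralizer ({t} : Set G))) := by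
  obtain ⟨hS, e0, ψ0, hψ0⟩ := hM
  obtain ⟨htc, htQ'⟩ := htQ
  obtain ⟨v, hv, hψv⟩ := type2_of_not_conj hS e0 ψ0 hψ0 ⟨⟨t, htc⟩, htQ'⟩ ht2 ht
  obtain ⟨g1, hg1⟩ := trans4 Spor.leechU v sqNorm_leechU hv
  have hψ := normalise e0 ψ0 hψ0 g1
  have hu : (fun w => ψ0 (g1 • w)) Spor.leechU = QuotientGroup.mk (⟨⟨t, htc⟩, htQ'⟩ : Q) := by
    show ψ0 (g1 • Spor.leechU) = _
    rw [hg1, hψv]
  exact baby_of_normalised hS _ _ hψ t htc htQ' ht2 ht hu

end Cfsg.Agent.Lib.Helper4.BM
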