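import Mathlib

set_option autoImplicit false

namespace Cfsg.Agent.Lib.Helper4

theorem orderOf_conj {G : Type*} [Group G] (g u : G) : orderOf (g * u * g⁻¹) = orderOf u := by
  have := orderOf_injective (MulAut.conj g).toMonoidHom (MulAut.conj g).injective u
  simpa using this

theorem orderOf_mul_comm' {G : Type*} [Group G] (x y : G) : orderOf (x * y) = orderOf (y * x) := by
  have : x * y = x * (y * x) * x⁻¹ := by simp [mul_assoc]
  rw [this, orderOf_conj]

theorem orderOf_of_isConj {G : Type*} [Group G] {x y : G} (h : IsConj x y) : orderOf x = orderOf y := by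
  obtain ⟨g, hg⟩ := isConj_iff.1 h
  rw [← hg, orderOf_conj]

end Cfsg.Agent.Lib.Helper4
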