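import Mathlib

/-! Conjugation by a normalizing element as a permutation of a subgroup, and the
"small 2-group" lemma: an odd-order element normalizing but not centralizing a group of order
dividing 8 has order divisible by 3 (and 4 ∣ |Q|) or by 7 (and |Q| = 8). -/

namespace Cfsg.Agent.Lib.Helper4

variable {G : Type*} [Group G]

/-- conjugation by a normalizing element as a permutation of `Q`. -/
def conjPerm (Q : Subgroup G) (g : G) (hg : g ∈ Subgroup.normalizer (Q : Set G)) : Equiv.Perm Q where
  toFun x := ⟨g * x * g⁻¹, (Subgroup.mem_normalizer_iff.mp hg x).mp x.2⟩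
  invFun x := ⟨g⁻¹ * x * g, by
    have h := (Subgroup.mem_normalizer_iff.mp hg (g⁻¹ * x * g)).mpr
      (by simp [mul_assoc])
    exact h⟩
  left_inv x := by ext; simp [mul_assoc]
  right_inv x := by ext; simp [mul_assoc]

@[simp] theorem conjPerm_apply (Q : Subgroup G) (g : G) (hg : g ∈ Subgroup.normalizer (Q : Set G))
    (x : Q) : ((conjPerm Q g hg x : Q) : G) = g * x * g⁻¹ := rfl

theorem conjPerm_pow_apply (Q : Subgroup G) (g : G) (hg : g ∈ Subgroup.normalizer (Q : Set G))
    (k : ℕ) (x : Q) : ((((conjPerm Q g hg) ^ k) x : Q) : G) = g ^ k * x * (g ^ k)⁻¹ := by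
  induction k generalizing x with
  | zero => simp
  | succ k ih =>
    rw [pow_succ, Equiv.Perm.mul_apply, ih, conjPerm_apply, pow_succ]
    simp [mul_assoc]

theorem orderOf_conjPerm_dvd (Q : Subgroup G) (g : G) (hg : g ∈ Subgroup.normalizer (Q : Set G)) :
    orderOf (conjPerm Q g hg) ∣ orderOf g := by
  apply orderOf_dvd_of_pow_eq_one
  ext x
  rw [conjPerm_pow_apply, pow_orderOf_eq_one]
  simp

theorem conjPerm_eq_one_iff (Q : Subgroup G) (g : G) (hg : g ∈ Subgroup.normalizer (Q : Set G)) :
    conjPerm Q g hg = 1 ↔ g ∈ Subgroup.centralizer (Q : Set G) := by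
  rw [Subgroup.mem_centralizer_iff]
  constructor
  · intro h x hx
    have h1 := congrArg (fun s : Equiv.Perm Q => ((s ⟨x, hx⟩ : Q) : G)) h
    simp only [conjPerm_apply, Equiv.Perm.coe_one, id_eq] at h1
    calc x * g = (g * x * g⁻¹) * g := by rw [h1]
      _ = g * x := by group
  · intro h
    ext x
    rw [conjPerm_apply, Equiv.Perm.coe_one, id_eq, ← h x x.2]
    group

/-- number of fixed points of `conjPerm` divides `|Q|`. -/
theorem card_fixed_conjPerm_dvd (Q : Subgroup G) [Fintype Q] [DecidableEq Q] (g : G)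
    (hg : g ∈ Subgroup.normalizer (Q : Set G)) :
    (Finset.univ.filter (fun x : Q => conjPerm Q g hg x = x)).card ∣ Fintype.card Q := by
  classical
  let C : Subgroup Q := (Subgroup.centralizer ({g} : Set G)).subgroupOf Q
  have h1 : (Finset.univ.filter (fun x : Q => conjPerm Q g hg x = x)).card = Nat.card C := by
    rw [Nat.card_eq_fintype_card, ← Fintype.card_subtype]
    apply Fintype.card_congr
    refine Equiv.subtypeEquivRight ?_
    intro x
    rw [Subgroup.mem_subgroupOf, Subgroup.mem_centralizer_singleton_iff, Subtype.ext_iff,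
      conjPerm_apply]
    constructor
    · intro h
      calc (x : G) * g = (g * x * g⁻¹) * g := by rw [h]
        _ = g * x := by group
    · intro h
      rw [← h]; group
  rw [h1, ← Nat.card_eq_fintype_card]
  exact Subgroup.card_subgroup_dvd_card C

/-- An odd-order element normalizing but not centralizing a group `Q` of order dividing 8. -/
theorem small_two_group_odd_aut (Q : Subgroup G) [Finite Q] (hQ : Nat.card Q ∣ 8) (g : G)
    (hg : g ∈ Subgroup.normalizer (Q : Set G)) (hodd : Odd (orderOf g))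
    (hnc : g ∉ Subgroup.centralizer (Q : Set G)) :
    (3 ∣ orderOf g ∧ 4 ∣ Nat.card Q) ∨ (7 ∣ orderOf g ∧ Nat.card Q = 8) := by
  classical
  have : Fintype Q := Fintype.ofFinite Q
  set σ := conjPerm Q g hg with hσ
  have hσ1 : σ ≠ 1 := fun h => hnc ((conjPerm_eq_one_iff Q g hg).mp h)
  have hct : σ.cycleType ≠ 0 := fun h => hσ1 (Equiv.Perm.cycleType_eq_zero.mp h)
  obtain ⟨c, hc⟩ := Multiset.exists_mem_of_ne_zero hct
  have hdiv : ∀ d ∈ σ.cycleType, d ∣ orderOf g := fun d hd =>
    (Equiv.Perm.dvd_of_mem_cycleType hd).trans (orderOf_conjPerm_dvd Q g hg)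
  have hodd' : ∀ d ∈ σ.cycleType, Odd d := fun d hd => Odd.of_dvd_nat hodd (hdiv d hd)
  have hge : ∀ d ∈ σ.cycleType, 3 ≤ d := by
    intro d hd
    have h2 := Equiv.Perm.two_le_of_mem_cycleType hd
    obtain ⟨k, hk⟩ := hodd' d hd
    omega
  have hsum : σ.cycleType.sum = σ.support.card := Equiv.Perm.sum_cycleType σ
  -- fixed points
  have hfix := card_fixed_conjPerm_dvd Q g hg
  have hsplit : (Finset.univ.filter (fun x : Q => σ x = x)).card + σ.support.card
      = Fintype.card Q := by
    have h1 : σ.support = Finset.univ.filter (fun x : Q => ¬ σ x = x) := by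
      ext x; simp [Equiv.Perm.mem_support]
    rw [h1]
    exact Finset.card_filter_add_card_filter_not (s := Finset.univ) (fun x : Q => σ x = x)
  have hfpos : 0 < (Finset.univ.filter (fun x : Q => σ x = x)).card := by
    apply Finset.card_pos.mpr
    refine ⟨1, ?_⟩
    simp only [Finset.mem_filter, Finset.mem_univ, true_and]
    ext
    simp [hσ]
  rw [Nat.card_eq_fintype_card] at hQ ⊢
  set f := (Finset.univ.filter (fun x : Q => σ x = x)).card with hf
  set s := σ.support.card with hs
  set n := Fintype.card Q with hn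
  -- c ≤ s
  obtain ⟨rest, hrest⟩ := Multiset.exists_cons_of_mem hc
  have hs' : s = c + rest.sum := by rw [← hsum, hrest, Multiset.sum_cons]
  have hrest_ge : rest ≠ 0 → 3 ≤ rest.sum := by
    intro h0
    obtain ⟨d, hd⟩ := Multiset.exists_mem_of_ne_zero h0
    have h3 := hge d (by rw [hrest]; exact Multiset.mem_cons_of_mem hd)
    have := Multiset.le_sum_of_mem hd
    omega
  have hrest0 : rest = 0 → rest.sum = 0 := fun h => by rw [h]; rfl
  have hc3 := hge c hc
  have hcodd := hodd' c hc
  have hcdvd := hdiv c hc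
  have hn8 : n = 1 ∨ n = 2 ∨ n = 4 ∨ n = 8 := by
    have : n ∈ Nat.divisors 8 := Nat.mem_divisors.mpr ⟨hQ, by norm_num⟩
    have h8 : Nat.divisors 8 = {1, 2, 4, 8} := by decide
    rw [h8] at this
    simpa using this
  have hfn : f ∣ n := hfix
  by_cases hr : rest = 0
  · have hr0 := hrest0 hr
    -- s = c
    obtain ⟨k, hk⟩ := hcodd
    rcases hn8 with h | h | h | h
    · omega
    · omega
    · -- n = 4: c = 3
      have : c = 3 := by omega
      left
      exact ⟨this ▸ hcdvd, by rw [h]⟩
    · -- n = 8, f + c = 8, f ∣ 8, c odd ≥ 3: f ∈ {1,2,4} => c ∈ {7,6,4} => c=7, or f=... c=3 → f=5 no; c=5 → f=3 no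
      have hf8 : f ∣ 8 := h ▸ hfn
      have hfle : f ≤ 8 := Nat.le_of_dvd (by norm_num) hf8
      have : c = 7 := by
        interval_cases f <;> omega
      right
      exact ⟨this ▸ hcdvd, h⟩
  · have hr3 := hrest_ge hr
    -- s ≥ 6, so n = 8, f ∈ {1,2}, s ∈ {6,7}
    rcases hn8 with h | h | h | h
    · omega
    · omega
    · omega
    · have hf8 : f ∣ 8 := h ▸ hfn
      -- c = 3 necessarily, since c + rest.sum ≤ 7 and rest.sum ≥ 3
      have : c = 3 := by
        obtain ⟨k, hk⟩ := hcodd
        omega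
      left
      exact ⟨this ▸ hcdvd, by rw [h]; norm_num⟩

end Cfsg.Agent.Lib.Helper4
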