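import Mathlib

/-! Elementary facts about `DihedralGroup m` used for groups with dihedral Sylow 2-subgroups. -/

namespace Cfsg.Agent.Lib.Helper4.DF

open DihedralGroup

variable {m : ℕ}

theorem zmod_even_or_odd (m : ℕ) [NeZero m] (i : ZMod m) :
    (∃ k : ZMod m, i = 2 * k) ∨ (∃ k : ZMod m, i + 1 = 2 * k) := by
  rcases Nat.even_or_odd' i.val with ⟨j, hj | hj⟩
  · left
    refine ⟨(j : ZMod m), ?_⟩
    have : i = ((i.val : ℕ) : ZMod m) := (ZMod.natCast_zmod_val i).symm
    rw [this, hj]; push_cast; ring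
  · right
    refine ⟨((j + 1 : ℕ) : ZMod m), ?_⟩
    have : i = ((i.val : ℕ) : ZMod m) := (ZMod.natCast_zmod_val i).symm
    rw [this, hj]; push_cast; ring

theorem conj_sr (i k : ZMod m) : r k * sr i * (r k)⁻¹ = sr (i - 2 * k) := by
  rw [inv_r, r_mul_sr, sr_mul_r]; congr 1; ring

theorem conj_sr' (i k : ZMod m) : sr k * sr i * (sr k)⁻¹ = sr (2 * k - i) := by
  rw [inv_sr, sr_mul_sr, r_mul_sr]; congr 1; ring

/-- the central involution (for even `m`). -/
def zc (m : ℕ) : DihedralGroup m := r ((m / 2 : ℕ) : ZMod m)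

theorem rot_involution (hm2 : 2 ≤ m) (i : ZMod m) (hd : orderOf (r i) = 2) : r i = zc m := by
  have : NeZero m := ⟨by omega⟩
  have h1 : (r i) ^ 2 = 1 := by rw [← hd]; exact pow_orderOf_eq_one _
  rw [r_pow, one_def] at h1
  have h2 : i * (2 : ℕ) = 0 := by
    have := r.inj h1
    simpa using this
  have h3 : i ≠ 0 := by
    rintro rfl
    rw [r_zero, orderOf_one] at hd
    omega
  have h4 : ((i.val * 2 : ℕ) : ZMod m) = 0 := by
    push_cast
    rw [ZMod.natCast_zmod_val]
    exact_mod_cast h2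
  rw [ZMod.natCast_eq_zero_iff] at h4
  have h5 : i.val < m := ZMod.val_lt i
  have h6 : 0 < i.val := by
    rcases Nat.eq_zero_or_pos i.val with h | h
    · exact absurd ((ZMod.val_eq_zero i).mp h) h3
    · exact h
  obtain ⟨c, hc⟩ := h4
  have hc1 : c = 1 := by
    have : 0 < c := by
      rcases Nat.eq_zero_or_pos c with h | h
      · subst h; omega
      · exact h
    have : c < 2 := by
      by_contra hcon
      push Not at hcon
      have : m * 2 ≤ m * c := Nat.mul_le_mul_left m hcon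
      omega
    omega
  subst hc1
  have h7 : i.val = m / 2 := by omega
  unfold zc
  congr 1
  rw [← h7, ZMod.natCast_zmod_val]

/-- involutions of `D_m`. -/
theorem involution_cases (hm2 : 2 ≤ m) (d : DihedralGroup m) (hd : orderOf d = 2) :
    d = zc m ∨ (∃ s : DihedralGroup m, s * d * s⁻¹ = sr 0) ∨
      (∃ s : DihedralGroup m, s * d * s⁻¹ = r 1 * sr 0) := by
  have : NeZero m := ⟨by omega⟩
  cases d with
  | r i => exact Or.inl (rot_involution hm2 i hd)
  | sr i =>
    right
    rcases zmod_even_or_odd m i with ⟨k, hk⟩ | ⟨k, hk⟩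
    · left
      refine ⟨r k, ?_⟩
      rw [conj_sr, hk, sub_self]
    · right
      refine ⟨r k, ?_⟩
      rw [conj_sr, r_mul_sr]
      congr 1
      have : i = 2 * k - 1 := by rw [← hk]; ring
      rw [this]; ring

theorem two_mul_half (hm : Even m) : (2 : ZMod m) * ((m / 2 : ℕ) : ZMod m) = 0 := by
  obtain ⟨j, hj⟩ := hm
  have : 2 * (m / 2) = m := by omega
  have h : ((2 * (m / 2) : ℕ) : ZMod m) = 0 := by rw [this]; exact ZMod.natCast_self m
  push_cast at h
  exact h

theorem orderOf_zc (hm : Even m) (hm2 : 2 ≤ m) : orderOf (zc m) = 2 := by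
  have : NeZero m := ⟨by omega⟩
  apply orderOf_eq_prime
  · unfold zc
    rw [r_pow, one_def]
    congr 1
    have := two_mul_half hm
    push_cast
    rw [mul_comm]; exact this
  · unfold zc
    rw [one_def]
    intro h
    have h1 := r.inj h
    rw [ZMod.natCast_eq_zero_iff] at h1
    have : m / 2 < m := by omega
    have h2 := Nat.le_of_dvd (by omega) h1
    omega

theorem zc_central (hm : Even m) (d : DihedralGroup m) : d * zc m = zc m * d := by
  unfold zc
  cases d with
  | r i => rw [r_mul_r, r_mul_r, add_comm]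
  | sr i =>
    rw [sr_mul_r, r_mul_sr]
    congr 1
    have := two_mul_half hm
    linear_combination this

theorem zc_ne_sr (i : ZMod m) : zc m ≠ sr i := by
  unfold zc; intro h; cases h

theorem zc_ne_r_mul_sr (i j : ZMod m) : zc m ≠ r i * sr j := by
  unfold zc; rw [r_mul_sr]; intro h; cases h

/-- every element is `(r 1)^i` or `(r 1)^i * sr 0`. -/
theorem elt_form [NeZero m] (d : DihedralGroup m) :
    ∃ i : ℕ, d = (r 1) ^ i ∨ d = (r 1) ^ i * sr 0 := by
  cases d with
  | r i =>
    refine ⟨i.val, Or.inl ?_⟩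
    rw [r_one_pow, ZMod.natCast_zmod_val]
  | sr i =>
    refine ⟨(-i).val, Or.inr ?_⟩
    rw [r_one_pow, ZMod.natCast_zmod_val, r_mul_sr]
    congr 1; ring

/-- every element is `(r 1)^k` or `(r 1)^k * sr i`. -/
theorem elt_form' [NeZero m] (i : ZMod m) (d : DihedralGroup m) :
    ∃ k : ℕ, d = (r 1) ^ k ∨ d = (r 1) ^ k * sr i := by
  cases d with
  | r j =>
    refine ⟨j.val, Or.inl ?_⟩
    rw [r_one_pow, ZMod.natCast_zmod_val]
  | sr j =>
    refine ⟨(i - j).val, Or.inr ?_⟩
    rw [r_one_pow, ZMod.natCast_zmod_val, r_mul_sr]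
    congr 1; ring

/-- every element is an involution or a product of two involutions `sr 0 * sr i`. -/
theorem elt_prod_invol (d : DihedralGroup m) :
    (∃ i, d = sr i) ∨ (∃ i, d = sr 0 * sr i) := by
  cases d with
  | r i => exact Or.inr ⟨i, by rw [sr_mul_sr, sub_zero]⟩
  | sr i => exact Or.inl ⟨i, rfl⟩

theorem comm_r_one_sr_zero : (r 1 : DihedralGroup m) * sr 0 * (r 1)⁻¹ * (sr 0)⁻¹ = (r 1) ^ 2 := by
  rw [inv_r, inv_sr, r_mul_sr, sr_mul_r, sr_mul_sr, r_one_pow]
  congr 1; push_cast; ring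

theorem comm_quarter (h4 : 4 ∣ m) :
    (r ((m / 4 : ℕ) : ZMod m) : DihedralGroup m) * sr 0 * (r ((m / 4 : ℕ) : ZMod m))⁻¹ * (sr 0)⁻¹
      = zc m := by
  unfold zc
  rw [inv_r, inv_sr, r_mul_sr, sr_mul_r, sr_mul_sr]
  congr 1
  obtain ⟨j, hj⟩ := h4
  have h1 : m / 4 = j := by omega
  have h2 : m / 2 = 2 * j := by omega
  rw [h1, h2]; push_cast; ring

theorem two_mul_ne_one (hm : Even m) (k : ZMod m) : (2 : ZMod m) * k ≠ 1 := by
  intro hk
  obtain ⟨j, hj⟩ := hm
  have h2 : (2 : ℕ) ∣ m := ⟨j, by omega⟩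
  have := congrArg (ZMod.castHom h2 (ZMod 2)) hk
  simp only [map_mul, map_ofNat, map_one] at this
  have h0 : (2 : ZMod 2) = 0 := by decide
  rw [h0, zero_mul] at this
  exact absurd this (by decide)

/-- conjugates of `sr 0` are `sr (2k)`. -/
theorem conj_sr_zero_form (d : DihedralGroup m) : ∃ k : ZMod m, d * sr 0 * d⁻¹ = sr (2 * k) := by
  cases d with
  | r k => exact ⟨-k, by rw [conj_sr]; congr 1; ring⟩
  | sr k => exact ⟨k, by rw [conj_sr']; congr 1; ring⟩

/-- `sr 0` and `r 1 * sr 0` are not conjugate when `m` is even. -/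
theorem not_conj_sr_zero (hm : Even m) (d : DihedralGroup m) : d * sr 0 * d⁻¹ ≠ r 1 * sr 0 := by
  have key : ∀ k : ZMod m, (2 : ZMod m) * k ≠ 1 := by
    intro k hk
    obtain ⟨j, hj⟩ := hm
    have h2 : (2 : ℕ) ∣ m := ⟨j, by omega⟩
    -- map to ZMod 2
    have := congrArg (ZMod.castHom h2 (ZMod 2)) hk
    simp only [map_mul, map_ofNat, map_one] at this
    have h0 : (2 : ZMod 2) = 0 := by decide
    rw [h0, zero_mul] at this
    exact absurd this (by decide)
  rw [r_mul_sr]
  cases d with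
  | r k =>
    rw [conj_sr]
    intro h
    have h1 := sr.inj h
    apply key k
    linear_combination -h1
  | sr k =>
    rw [conj_sr']
    intro h
    have h1 := sr.inj h
    apply key (-k)
    linear_combination -h1

end Cfsg.Agent.Lib.Helper4.DF
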