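import Mathlib
import Cfsg.Agent.Lib.Helper4.ConjPerm
import Cfsg.Agent.Lib.Helper4.Conj

/-! An odd-order element normalizing a 2-group `R` that embeds in a dihedral group, and fixing a
non-identity element of `R`, centralizes `R`. -/

namespace Cfsg.Agent.Lib.Helper4

open DihedralGroup

/-- the sign hom of a dihedral group: rotations to `1`, reflections to `-1`. -/
def rotSign (n : ℕ) : DihedralGroup n →* ℤˣ where
  toFun d := match d with | r _ => 1 | sr _ => -1
  map_one' := rfl
  map_mul' := by
    rintro (i|i) (j|j) <;> simp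

theorem rotSign_r (n : ℕ) (i : ZMod n) : rotSign n (r i) = 1 := rfl
theorem rotSign_sr (n : ℕ) (i : ZMod n) : rotSign n (sr i) = -1 := rfl

theorem orderOf_of_rotSign_ne (n : ℕ) (d : DihedralGroup n) (h : rotSign n d ≠ 1) :
    orderOf d = 2 := by
  cases d with
  | r i => exact absurd (rotSign_r n i) h
  | sr i => exact orderOf_sr i

/-- rotation part. -/
def rotPart (n : ℕ) : DihedralGroup n → ZMod n
  | r i => i
  | sr _ => 0

theorem eq_r_rotPart (n : ℕ) (d : DihedralGroup n) (h : rotSign n d = 1) : d = r (rotPart n d) := by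
  cases d with
  | r i => rfl
  | sr i => rw [rotSign_sr] at h; exact absurd h (by decide)

section
variable {H : Type*} [Group H] (R : Subgroup H) {n : ℕ} (φ : R →* DihedralGroup n)

/-- the kernel of the sign, inside `R`. -/
def rotKer : Subgroup R := MonoidHom.ker ((rotSign n).comp φ)

/-- the "rotation subgroup" of `R`, as a subgroup of the ambient group. -/
def rotSub : Subgroup H := (rotKer R φ).map R.subtype

theorem mem_rotKer (x : R) : x ∈ rotKer R φ ↔ rotSign n (φ x) = 1 := by
  rw [rotKer, MonoidHom.mem_ker, MonoidHom.comp_apply]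

theorem mem_rotSub (x : H) : x ∈ rotSub R φ ↔ ∃ hx : x ∈ R, rotSign n (φ ⟨x, hx⟩) = 1 := by
  rw [rotSub, Subgroup.mem_map]
  constructor
  · rintro ⟨y, hy, rfl⟩
    exact ⟨y.2, (mem_rotKer R φ y).mp hy⟩
  · rintro ⟨hx, h⟩
    exact ⟨⟨x, hx⟩, (mem_rotKer R φ _).mpr h, rfl⟩

theorem rotSub_le : rotSub R φ ≤ R := by
  intro x hx
  obtain ⟨hx', -⟩ := (mem_rotSub R φ x).mp hx
  exact hx'

theorem isCyclic_rotKer (hφ : Function.Injective φ) : IsCyclic (rotKer R φ) := by
  let f : rotKer R φ →* Multiplicative (ZMod n) := MonoidHom.mk'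
    (fun a => Multiplicative.ofAdd (rotPart n (φ a.1))) (by
      intro a b
      have ha := eq_r_rotPart n _ ((mem_rotKer R φ a.1).mp a.2)
      have hb := eq_r_rotPart n _ ((mem_rotKer R φ b.1).mp b.2)
      have hab : φ (a * b : rotKer R φ).1 = r (rotPart n (φ a.1) + rotPart n (φ b.1)) := by
        rw [Subgroup.coe_mul, map_mul, ha, hb, r_mul_r]
        rfl
      rw [← ofAdd_add, hab]
      rfl)
  have hf : Function.Injective f := by
    intro a b hab
    have ha := eq_r_rotPart n _ ((mem_rotKer R φ a.1).mp a.2)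
    have hb := eq_r_rotPart n _ ((mem_rotKer R φ b.1).mp b.2)
    have h1 : rotPart n (φ a.1) = rotPart n (φ b.1) := Multiplicative.ofAdd.injective hab
    have h2 : φ a.1 = φ b.1 := by rw [ha, hb, h1]
    exact Subtype.ext (hφ h2)
  exact isCyclic_of_injective f hf

theorem isCyclic_rotSub (hφ : Function.Injective φ) : IsCyclic (rotSub R φ) := by
  have := isCyclic_rotKer R φ hφ
  have e : rotKer R φ ≃* rotSub R φ :=
    Subgroup.equivMapOfInjective (rotKer R φ) R.subtype R.subtype_injective
  exact isCyclic_of_surjective e.toMonoidHom e.surjective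

theorem orderOf_of_not_mem_rotSub (hφ : Function.Injective φ) (x : H) (hx : x ∈ R)
    (hxA : x ∉ rotSub R φ) : orderOf x = 2 := by
  have h1 : rotSign n (φ ⟨x, hx⟩) ≠ 1 := fun h => hxA ((mem_rotSub R φ x).mpr ⟨hx, h⟩)
  have h2 := orderOf_of_rotSign_ne n _ h1
  rw [orderOf_injective φ hφ] at h2
  rw [← h2]
  exact (Subgroup.orderOf_mk x hx).symm

theorem inv_mul_mem_rotSub (x y : H) (hx : x ∈ R) (hy : y ∈ R)
    (hxA : x ∉ rotSub R φ) (hyA : y ∉ rotSub R φ) : x⁻¹ * y ∈ rotSub R φ := by
  have h1 : rotSign n (φ ⟨x, hx⟩) ≠ 1 := fun h => hxA ((mem_rotSub R φ x).mpr ⟨hx, h⟩)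
  have h2 : rotSign n (φ ⟨y, hy⟩) ≠ 1 := fun h => hyA ((mem_rotSub R φ y).mpr ⟨hy, h⟩)
  have h1' : rotSign n (φ ⟨x, hx⟩) = -1 := (Int.units_eq_one_or _).resolve_left h1
  have h2' : rotSign n (φ ⟨y, hy⟩) = -1 := (Int.units_eq_one_or _).resolve_left h2
  rw [mem_rotSub]
  refine ⟨R.mul_mem (R.inv_mem hx) hy, ?_⟩
  have : (⟨x⁻¹ * y, R.mul_mem (R.inv_mem hx) hy⟩ : R) = (⟨x, hx⟩ : R)⁻¹ * ⟨y, hy⟩ := rfl
  rw [this, map_mul, map_mul, map_inv, map_inv, h1', h2']
  decide

theorem card_le_two_mul_card_rotSub [Finite R] : Nat.card R ≤ 2 * Nat.card (rotSub R φ) := by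
  have h1 : Nat.card (rotSub R φ) = Nat.card (rotKer R φ) :=
    Nat.card_congr (Subgroup.equivMapOfInjective (rotKer R φ) R.subtype
      R.subtype_injective).symm.toEquiv
  have h2 : (rotKer R φ).index ≤ 2 := by
    rw [rotKer, Subgroup.index_ker]
    have : Nat.card ((rotSign n).comp φ).range ≤ Nat.card ℤˣ :=
      Nat.card_le_card_of_injective _ Subtype.val_injective
    have h3 : Nat.card ℤˣ = 2 := by
      rw [Nat.card_eq_fintype_card]; rfl
    omega
  have h3 := (rotKer R φ).card_mul_index
  rw [h1]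
  calc Nat.card R = Nat.card (rotKer R φ) * (rotKer R φ).index := h3.symm
    _ ≤ Nat.card (rotKer R φ) * 2 := Nat.mul_le_mul_left _ h2
    _ = 2 * Nat.card (rotKer R φ) := Nat.mul_comm _ _

end

/-- An odd-order element normalizing and not centralizing `Q` moves at least 3 points. -/
theorem three_le_card_support_conjPerm {G : Type*} [Group G] (Q : Subgroup G) [Fintype Q]
    [DecidableEq Q] (g : G)
    (hg : g ∈ Subgroup.normalizer (Q : Set G)) (hodd : Odd (orderOf g))
    (hnc : g ∉ Subgroup.centralizer (Q : Set G)) : 3 ≤ (conjPerm Q g hg).support.card := by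
  set σ := conjPerm Q g hg with hσ
  have hσ1 : σ ≠ 1 := fun h => hnc ((conjPerm_eq_one_iff Q g hg).mp h)
  have hct : σ.cycleType ≠ 0 := fun h => hσ1 (Equiv.Perm.cycleType_eq_zero.mp h)
  obtain ⟨c, hc⟩ := Multiset.exists_mem_of_ne_zero hct
  have hdiv : c ∣ orderOf g :=
    (Equiv.Perm.dvd_of_mem_cycleType hc).trans (orderOf_conjPerm_dvd Q g hg)
  have hodd' : Odd c := Odd.of_dvd_nat hodd hdiv
  have h2 := Equiv.Perm.two_le_of_mem_cycleType hc
  have hle : c ≤ σ.cycleType.sum := Multiset.le_sum_of_mem hc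
  rw [Equiv.Perm.sum_cycleType] at hle
  obtain ⟨k, hk⟩ := hodd'
  omega

/-- Main lemma. -/
theorem centralizes_of_dihedral_embedding {H : Type*} [Group H] (R : Subgroup H) [Finite R]
    (hR : IsPGroup 2 R) {n : ℕ} (φ : R →* DihedralGroup n) (hφ : Function.Injective φ)
    (g : H) (hg : g ∈ Subgroup.normalizer (R : Set H)) (hodd : Odd (orderOf g))
    (t : H) (htR : t ∈ R) (ht1 : t ≠ 1) (hgt : g * t = t * g) :
    g ∈ Subgroup.centralizer (R : Set H) := by
  classical
  have : Fact (Nat.Prime 2) := ⟨Nat.prime_two⟩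
  set A := rotSub R φ with hA
  have hAR : A ≤ R := rotSub_le R φ
  have : Finite A := Finite.of_injective (Subgroup.inclusion hAR) (Subgroup.inclusion_injective hAR)
  have hginv : g⁻¹ ∈ Subgroup.normalizer (R : Set H) := inv_mem hg
  have hcyc : IsCyclic A := isCyclic_rotSub R φ hφ
  obtain ⟨a₀, ha₀⟩ := IsCyclic.exists_generator (α := A)
  have hcardA : orderOf (a₀ : H) = Nat.card A := by
    rw [Subgroup.orderOf_coe]
    exact orderOf_eq_card_of_forall_mem_zpowers ha₀
  obtain ⟨k, hk⟩ := hR.exists_card_eq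
  have hApow : ∃ e, Nat.card A = 2 ^ e := by
    have h1 : Nat.card A ∣ Nat.card R := Subgroup.card_dvd_of_le hAR
    rw [hk] at h1
    obtain ⟨e, -, he⟩ := (Nat.dvd_prime_pow Nat.prime_two).mp h1
    exact ⟨e, he⟩
  obtain ⟨e, he⟩ := hApow
  -- elements of `R` of 2-power order dividing an odd number are trivial
  have htriv : ∀ c : H, c ∈ R → c ^ orderOf g = 1 → c = 1 := by
    intro c hc hcm
    have h1 : orderOf c ∣ orderOf g := orderOf_dvd_of_pow_eq_one hcm
    have h2 : orderOf c ∣ 2 ^ k := by
      rw [← hk, ← Subgroup.orderOf_mk c hc]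
      exact orderOf_dvd_natCard _
    have h3 : Nat.Coprime (orderOf g) (2 ^ k) :=
      Nat.Coprime.pow_right k (Nat.Coprime.symm (Nat.coprime_two_left.mpr hodd))
    have h4 : orderOf c = 1 := Nat.eq_one_of_dvd_coprimes h3 h1 h2
    exact orderOf_eq_one_iff.mp h4
  by_cases hcase : 4 ≤ Nat.card A
  · -- case (a)
    have hord : 4 ≤ orderOf (a₀ : H) := hcardA ▸ hcase
    have key : ∀ g' : H, g' ∈ Subgroup.normalizer (R : Set H) → ∀ a ∈ A, g' * a * g'⁻¹ ∈ A := by
      intro g' hg' a ha
      have h0 : g' * a₀ * g'⁻¹ ∈ A := by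
        by_contra hn
        have hxR : g' * a₀ * g'⁻¹ ∈ R := (Subgroup.mem_normalizer_iff.mp hg' _).mp (hAR a₀.2)
        have h2 := orderOf_of_not_mem_rotSub R φ hφ _ hxR hn
        rw [orderOf_conj] at h2
        omega
      obtain ⟨j, hj⟩ := Subgroup.mem_zpowers_iff.mp (ha₀ ⟨a, ha⟩)
      have hj' : (a₀ : H) ^ j = a := by
        have := congrArg (Subtype.val) hj
        simpa using this
      rw [← hj', ← conj_zpow]
      exact A.zpow_mem h0 j
    have hgA : g ∈ Subgroup.normalizer (A : Set H) := by
      rw [Subgroup.mem_normalizer_iff]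
      intro h
      constructor
      · exact key g hg h
      · intro hh
        have := key g⁻¹ hginv _ hh
        simpa [mul_assoc] using this
    have hgCA : g ∈ Subgroup.centralizer (A : Set H) := by
      set σ := A.normalizerMonoidHom ⟨g, hgA⟩ with hσ
      have h1 : σ ^ orderOf g = 1 := by
        rw [hσ, ← map_pow]
        have : (⟨g, hgA⟩ : Subgroup.normalizer (A : Set H)) ^ orderOf g = 1 := by
          apply Subtype.ext
          simp [pow_orderOf_eq_one]
        rw [this, map_one]
      have h2 : orderOf σ ∣ orderOf g := orderOf_dvd_of_pow_eq_one h1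
      have h3 : orderOf σ ∣ Nat.card (MulAut A) := orderOf_dvd_natCard σ
      rw [IsCyclic.card_mulAut, he] at h3
      have he0 : 0 < e := by
        rcases Nat.eq_zero_or_pos e with h | h
        · rw [h] at he; omega
        · exact h
      rw [Nat.totient_prime_pow Nat.prime_two he0] at h3
      have h4 : Nat.Coprime (orderOf g) (2 ^ (e - 1) * (2 - 1)) := by
        simp only [Nat.add_one_sub_one, mul_one]
        exact Nat.Coprime.pow_right _ (Nat.Coprime.symm (Nat.coprime_two_left.mpr hodd))
      have h5 : orderOf σ = 1 := Nat.eq_one_of_dvd_coprimes h4 h2 h3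
      have h6 : σ = 1 := orderOf_eq_one_iff.mp h5
      have h7 : (⟨g, hgA⟩ : Subgroup.normalizer (A : Set H)) ∈ A.normalizerMonoidHom.ker :=
        MonoidHom.mem_ker.mpr h6
      rw [Subgroup.normalizerMonoidHom_ker, Subgroup.mem_subgroupOf] at h7
      exact h7
    rw [Subgroup.mem_centralizer_iff]
    intro y hy
    by_cases hyA : y ∈ A
    · exact Subgroup.mem_centralizer_iff.mp hgCA y hyA
    · have hxR : g * y * g⁻¹ ∈ R := (Subgroup.mem_normalizer_iff.mp hg _).mp hy
      have hxA : g * y * g⁻¹ ∉ A := by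
        intro h
        apply hyA
        have := key g⁻¹ hginv _ h
        simpa [mul_assoc] using this
      set c := y⁻¹ * (g * y * g⁻¹) with hc
      have hcA : c ∈ A := inv_mul_mem_rotSub R φ y _ hy hxR hyA hxA
      have hgc : g * c = c * g := (Subgroup.mem_centralizer_iff.mp hgCA c hcA).symm
      have hx : g * y * g⁻¹ = y * c := by rw [hc]; group
      have hpow : ∀ j : ℕ, g ^ j * y * (g ^ j)⁻¹ = y * c ^ j := by
        intro j
        induction j with
        | zero => simp
        | succ j ih =>
          have hgcj : g * c ^ j * g⁻¹ = c ^ j := by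
            have : Commute g (c ^ j) := (show Commute g c from hgc).pow_right j
            rw [this.eq]; group
          calc g ^ (j + 1) * y * (g ^ (j + 1))⁻¹
              = g * (g ^ j * y * (g ^ j)⁻¹) * g⁻¹ := by rw [pow_succ']; group
            _ = g * (y * c ^ j) * g⁻¹ := by rw [ih]
            _ = (g * y * g⁻¹) * (g * c ^ j * g⁻¹) := by group
            _ = y * c * c ^ j := by rw [hx, hgcj]
            _ = y * c ^ (j + 1) := by rw [pow_succ', mul_assoc]
      have h1 := hpow (orderOf g)
      rw [pow_orderOf_eq_one] at h1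
      have h2 : c ^ orderOf g = 1 := by
        have : y = y * c ^ orderOf g := by simpa using h1
        exact (mul_eq_left.mp this.symm)
      have h3 : c = 1 := htriv c (hAR hcA) h2
      rw [h3, mul_one] at hx
      calc y * g = (g * y * g⁻¹) * g := by rw [hx]
        _ = g * y := by group
  · -- case (b)
    by_contra hnc
    have hA2 : Nat.card A ≤ 2 := by
      rw [he] at hcase ⊢
      push Not at hcase
      have : e < 2 := by
        by_contra h
        push Not at h
        have : 2 ^ 2 ≤ 2 ^ e := Nat.pow_le_pow_right (by norm_num) h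
        omega
      interval_cases e <;> norm_num
    have hR4 : Nat.card R ≤ 4 := by
      have h := card_le_two_mul_card_rotSub R φ
      change Nat.card R ≤ 2 * Nat.card A at h
      omega
    have : Fintype R := Fintype.ofFinite R
    have h3 := three_le_card_support_conjPerm R g hg hodd hnc
    have hsub : (conjPerm R g hg).support ⊆ Finset.univ \ {1, ⟨t, htR⟩} := by
      intro x hx
      rw [Equiv.Perm.mem_support] at hx
      simp only [Finset.mem_sdiff, Finset.mem_univ, true_and, Finset.mem_insert,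
        Finset.mem_singleton, not_or]
      constructor
      · rintro rfl
        apply hx
        ext
        simp
      · rintro rfl
        apply hx
        ext
        rw [conjPerm_apply]
        simp only
        rw [hgt]; group
    have hcard := Finset.card_le_card hsub
    have hpair : ({1, ⟨t, htR⟩} : Finset R).card = 2 := by
      rw [Finset.card_pair]
      intro h
      apply ht1
      have := congrArg Subtype.val h
      simpa using this.symm
    rw [Finset.card_sdiff_of_subset (Finset.subset_univ _), hpair, Finset.card_univ,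
      ← Nat.card_eq_fintype_card] at hcard
    omega

end Cfsg.Agent.Lib.Helper4
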