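import Mathlib
import Cfsg.Agent.Lib.Helper4.DihedralSub

/-! Generalisation of `centralizes_of_dihedral_embedding`: an odd-order element normalizing a
2-group `R` embedded in a dihedral group centralizes `R` unless `R` is a Klein four-group. -/

namespace Cfsg.Agent.Lib.Helper4

open DihedralGroup

/-- Case of a rotation subgroup of order at least 4. -/
theorem centralizes_of_rot_ge_four {H : Type*} [Group H] (R : Subgroup H) [Finite R]
    (hR : IsPGroup 2 R) {n : ℕ} (φ : R →* DihedralGroup n) (hφ : Function.Injective φ)
    (g : H) (hg : g ∈ Subgroup.normalizer (R : Set H)) (hodd : Odd (orderOf g))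
    (hcase : 4 ≤ Nat.card (rotSub R φ)) :
    g ∈ Subgroup.centralizer (R : Set H) := by
  classical
  have : Fact (Nat.Prime 2) := ⟨Nat.prime_two⟩
  set A := rotSub R φ with hA
  have hAR : A ≤ R := rotSub_le R φ
  have : Finite A := Finite.of_injective (Subgroup.inclusion hAR) (Subgroup.inclusion_injective hAR)
  have hginv : g⁻¹ ∈ Subgroup.normalizer (R : Set H) := inv_mem hg
  have hcyc : IsCyclic A := isCyclic_rotSub R φ hφ
  obtain ⟨a₀, ha₀⟩ := IsCyclic.exists_generator (α := A)
  have hcardA : orderOf (a₀ : H) = Nat.card A := by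
    rw [Subgroup.orderOf_coe]
    exact orderOf_eq_card_of_forall_mem_zpowers ha₀
  obtain ⟨k, hk⟩ := hR.exists_card_eq
  have hApow : ∃ e, Nat.card A = 2 ^ e := by
    have h1 : Nat.card A ∣ Nat.card R := Subgroup.card_dvd_of_le hAR
    rw [hk] at h1
    obtain ⟨e, -, he⟩ := (Nat.dvd_prime_pow Nat.prime_two).mp h1
    exact ⟨e, he⟩
  obtain ⟨e, he⟩ := hApow
  -- elements of `R` of 2-power order dividing an odd number are trivial
  have htriv : ∀ c : H, c ∈ R → c ^ orderOf g = 1 → c = 1 := by
    intro c hc hcm
    have h1 : orderOf c ∣ orderOf g := orderOf_dvd_of_pow_eq_one hcm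
    have h2 : orderOf c ∣ 2 ^ k := by
      rw [← hk, ← Subgroup.orderOf_mk c hc]
      exact orderOf_dvd_natCard _
    have h3 : Nat.Coprime (orderOf g) (2 ^ k) :=
      Nat.Coprime.pow_right k (Nat.Coprime.symm (Nat.coprime_two_left.mpr hodd))
    have h4 : orderOf c = 1 := Nat.eq_one_of_dvd_coprimes h3 h1 h2
    exact orderOf_eq_one_iff.mp h4
  · -- case (a)
    have hord : 4 ≤ orderOf (a₀ : H) := hcardA ▸ hcase
    have key : ∀ g' : H, g' ∈ Subgroup.normalizer (R : Set H) → ∀ a ∈ A, g' * a * g'⁻¹ ∈ A := by
      intro g' hg' a ha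
      have h0 : g' * a₀ * g'⁻¹ ∈ A := by
        by_contra hn
        have hxR : g' * a₀ * g'⁻¹ ∈ R := (Subgroup.mem_normalizer_iff.mp hg' _).mp (hAR a₀.2)
        have h2 := orderOf_of_not_mem_rotSub R φ hφ _ hxR hn
        rw [orderOf_conj] at h2
        omega
      obtain ⟨j, hj⟩ := Subgroup.mem_zpowers_iff.mp (ha₀ ⟨a, ha⟩)
      have hj' : (a₀ : H) ^ j = a := by
        have := congrArg (Subtype.val) hj
        simpa using this
      rw [← hj', ← conj_zpow]
      exact A.zpow_mem h0 j
    have hgA : g ∈ Subgroup.normalizer (A : Set H) := by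
      rw [Subgroup.mem_normalizer_iff]
      intro h
      constructor
      · exact key g hg h
      · intro hh
        have := key g⁻¹ hginv _ hh
        simpa [mul_assoc] using this
    have hgCA : g ∈ Subgroup.centralizer (A : Set H) := by
      set σ := A.normalizerMonoidHom ⟨g, hgA⟩ with hσ
      have h1 : σ ^ orderOf g = 1 := by
        rw [hσ, ← map_pow]
        have : (⟨g, hgA⟩ : Subgroup.normalizer (A : Set H)) ^ orderOf g = 1 := by
          apply Subtype.ext
          simp [pow_orderOf_eq_one]
        rw [this, map_one]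
      have h2 : orderOf σ ∣ orderOf g := orderOf_dvd_of_pow_eq_one h1
      have h3 : orderOf σ ∣ Nat.card (MulAut A) := orderOf_dvd_natCard σ
      rw [IsCyclic.card_mulAut, he] at h3
      have he0 : 0 < e := by
        rcases Nat.eq_zero_or_pos e with h | h
        · rw [h] at he; omega
        · exact h
      rw [Nat.totient_prime_pow Nat.prime_two he0] at h3
      have h4 : Nat.Coprime (orderOf g) (2 ^ (e - 1) * (2 - 1)) := by
        simp only [Nat.add_one_sub_one, mul_one]
        exact Nat.Coprime.pow_right _ (Nat.Coprime.symm (Nat.coprime_two_left.mpr hodd))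
      have h5 : orderOf σ = 1 := Nat.eq_one_of_dvd_coprimes h4 h2 h3
      have h6 : σ = 1 := orderOf_eq_one_iff.mp h5
      have h7 : (⟨g, hgA⟩ : Subgroup.normalizer (A : Set H)) ∈ A.normalizerMonoidHom.ker :=
        MonoidHom.mem_ker.mpr h6
      rw [Subgroup.normalizerMonoidHom_ker, Subgroup.mem_subgroupOf] at h7
      exact h7
    rw [Subgroup.mem_centralizer_iff]
    intro y hy
    by_cases hyA : y ∈ A
    · exact Subgroup.mem_centralizer_iff.mp hgCA y hyA
    · have hxR : g * y * g⁻¹ ∈ R := (Subgroup.mem_normalizer_iff.mp hg _).mp hy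
      have hxA : g * y * g⁻¹ ∉ A := by
        intro h
        apply hyA
        have := key g⁻¹ hginv _ h
        simpa [mul_assoc] using this
      set c := y⁻¹ * (g * y * g⁻¹) with hc
      have hcA : c ∈ A := inv_mul_mem_rotSub R φ y _ hy hxR hyA hxA
      have hgc : g * c = c * g := (Subgroup.mem_centralizer_iff.mp hgCA c hcA).symm
      have hx : g * y * g⁻¹ = y * c := by rw [hc]; group
      have hpow : ∀ j : ℕ, g ^ j * y * (g ^ j)⁻¹ = y * c ^ j := by
        intro j
        induction j with
        | zero => simp
        | succ j ih =>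
          have hgcj : g * c ^ j * g⁻¹ = c ^ j := by
            have : Commute g (c ^ j) := (show Commute g c from hgc).pow_right j
            rw [this.eq]; group
          calc g ^ (j + 1) * y * (g ^ (j + 1))⁻¹
              = g * (g ^ j * y * (g ^ j)⁻¹) * g⁻¹ := by rw [pow_succ']; group
            _ = g * (y * c ^ j) * g⁻¹ := by rw [ih]
            _ = (g * y * g⁻¹) * (g * c ^ j * g⁻¹) := by group
            _ = y * c * c ^ j := by rw [hx, hgcj]
            _ = y * c ^ (j + 1) := by rw [pow_succ', mul_assoc]
      have h1 := hpow (orderOf g)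
      rw [pow_orderOf_eq_one] at h1
      have h2 : c ^ orderOf g = 1 := by
        have : y = y * c ^ orderOf g := by simpa using h1
        exact (mul_eq_left.mp this.symm)
      have h3 : c = 1 := htriv c (hAR hcA) h2
      rw [h3, mul_one] at hx
      calc y * g = (g * y * g⁻¹) * g := by rw [hx]
        _ = g * y := by group

/-- An odd-order element normalizing a 2-group `R` embedded in a dihedral group centralizes `R`
unless `R` is a Klein four-group. -/
theorem centralizes_or_kleinFour {H : Type*} [Group H] (R : Subgroup H) [Finite R]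
    (hR : IsPGroup 2 R) {n : ℕ} (φ : R →* DihedralGroup n) (hφ : Function.Injective φ)
    (g : H) (hg : g ∈ Subgroup.normalizer (R : Set H)) (hodd : Odd (orderOf g)) :
    g ∈ Subgroup.centralizer (R : Set H) ∨ IsKleinFour R := by
  classical
  have : Fact (Nat.Prime 2) := ⟨Nat.prime_two⟩
  by_cases hcase : 4 ≤ Nat.card (rotSub R φ)
  · exact Or.inl (centralizes_of_rot_ge_four R hR φ hφ g hg hodd hcase)
  · by_cases hnc : g ∈ Subgroup.centralizer (R : Set H)
    · exact Or.inl hnc
    right
    set A := rotSub R φ with hA
    have hAR : A ≤ R := rotSub_le R φ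
    have : Finite A :=
      Finite.of_injective (Subgroup.inclusion hAR) (Subgroup.inclusion_injective hAR)
    obtain ⟨k, hk⟩ := hR.exists_card_eq
    have hApow : ∃ e, Nat.card A = 2 ^ e := by
      have h1 : Nat.card A ∣ Nat.card R := Subgroup.card_dvd_of_le hAR
      rw [hk] at h1
      obtain ⟨e, -, he⟩ := (Nat.dvd_prime_pow Nat.prime_two).mp h1
      exact ⟨e, he⟩
    obtain ⟨e, he⟩ := hApow
    have hA2 : Nat.card A ≤ 2 := by
      rw [he] at hcase ⊢
      push Not at hcase
      have : e < 2 := by
        by_contra h
        push Not at h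
        have : 2 ^ 2 ≤ 2 ^ e := Nat.pow_le_pow_right (by norm_num) h
        omega
      interval_cases e <;> norm_num
    have hR4 : Nat.card R ≤ 4 := by
      have h := card_le_two_mul_card_rotSub R φ
      change Nat.card R ≤ 2 * Nat.card A at h
      omega
    have : Fintype R := Fintype.ofFinite R
    have h3 := three_le_card_support_conjPerm R g hg hodd hnc
    have hsub : (conjPerm R g hg).support ⊆ Finset.univ \ {1} := by
      intro x hx
      rw [Equiv.Perm.mem_support] at hx
      simp only [Finset.mem_sdiff, Finset.mem_univ, true_and, Finset.mem_singleton]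
      rintro rfl
      apply hx
      ext
      simp
    have hcard := Finset.card_le_card hsub
    rw [Finset.card_sdiff_of_subset (Finset.subset_univ _), Finset.card_singleton,
      Finset.card_univ, ← Nat.card_eq_fintype_card] at hcard
    have hR4' : Nat.card R = 4 := by omega
    refine ⟨hR4', ?_⟩
    -- exponent two
    have hexp : ∀ x : R, x ^ 2 = 1 := by
      intro x
      by_cases hxA : (x : H) ∈ A
      · have h1 : orderOf (⟨x, hxA⟩ : A) ∣ Nat.card A := orderOf_dvd_natCard _
        have h2 : (⟨x, hxA⟩ : A) ^ Nat.card A = 1 := pow_card_eq_one'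
        have h3 : ((x : H)) ^ Nat.card A = 1 := by
          have := congrArg Subtype.val h2
          rw [Subgroup.coe_pow, Subgroup.coe_one] at this
          exact this
        have hApos : 0 < Nat.card A := Nat.card_pos
        have h4 : (x : H) ^ 2 = 1 := by
          have : Nat.card A = 1 ∨ Nat.card A = 2 := by omega
          rcases this with h | h
          · rw [h, pow_one] at h3; rw [h3, one_pow]
          · rw [h] at h3; exact h3
        apply Subtype.ext
        simpa using h4
      · have h1 := orderOf_of_not_mem_rotSub R φ hφ x x.2 hxA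
        have h2 : (x : H) ^ 2 = 1 := by rw [← h1]; exact pow_orderOf_eq_one _
        apply Subtype.ext
        simpa using h2
    have h1 : Monoid.exponent R ∣ 2 := Monoid.exponent_dvd_of_forall_pow_eq_one hexp
    have h2 : Monoid.exponent R ≠ 1 := by
      intro h
      have := Monoid.exp_eq_one_iff.mp h
      have hc1 : Nat.card R = 1 := Nat.card_unique
      omega
    have h3 : Monoid.exponent R = 1 ∨ Monoid.exponent R = 2 := by
      have := Nat.le_of_dvd (by norm_num) h1
      have hpos : 0 < Monoid.exponent R := Nat.pos_of_dvd_of_pos h1 (by norm_num)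
      omega
    exact h3.resolve_left h2

end Cfsg.Agent.Lib.Helper4
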