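import Mathlib

set_option autoImplicit false

namespace Cfsg.Agent.Lib.Helper4

open scoped Pointwise

/-- Membership in a conjugate Sylow subgroup. -/
theorem mem_sylow_smul_iff {G : Type*} [Group G] {p : ℕ} (P : Sylow p G) (h x : G) :
    x ∈ ((h • P : Sylow p G) : Subgroup G) ↔ h⁻¹ * x * h ∈ (P : Subgroup G) := by
  rw [Sylow.coe_subgroup_smul, Subgroup.mem_pointwise_smul_iff_inv_smul_mem]
  simp [MulAut.smul_def, MulAut.conj_apply]

/-- Every `p`-subgroup is conjugate into a given Sylow `p`-subgroup. -/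
theorem exists_conj_mem_sylow {G : Type*} [Group G] [Finite G] {p : ℕ} [Fact p.Prime]
    (P : Sylow p G) (E : Subgroup G) (hE : IsPGroup p E) :
    ∃ h : G, ∀ e ∈ E, h⁻¹ * e * h ∈ (P : Subgroup G) := by
  obtain ⟨Q, hQ⟩ := hE.exists_le_sylow
  obtain ⟨h, hh⟩ := MulAction.exists_smul_eq G P Q
  refine ⟨h, fun e he => ?_⟩
  have := hQ he
  rw [← hh] at this
  exact (mem_sylow_smul_iff P h e).1 this

end Cfsg.Agent.Lib.Helper4
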