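import Mathlib
import Cfsg.Agent.Lib.Helper4.DihedralFacts
import Cfsg.Agent.Lib.Helper4.DihedralSub2
import Cfsg.Agent.Lib.Helper4.SylowConj
import Cfsg.Agent.Lib.Helper4.Conj
import Cfsg.Agent.S0071
import Cfsg.Agent.S0111

/-! Groups `X` with a dihedral Sylow 2-subgroup `P = ι(D_m)`: fusion of involutions. -/

namespace Cfsg.Agent.Lib.Helper4.DS

open DihedralGroup Cfsg.Agent.Lib.Helper4.DF

variable {X : Type*} [Group X] {m : ℕ} (ι : DihedralGroup m →* X)

theorem orderOf_z (hι : Function.Injective ι) (hm : Even m) (hm2 : 2 ≤ m) :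
    orderOf (ι (zc m)) = 2 := by
  rw [orderOf_injective ι hι]; exact orderOf_zc hm hm2

theorem orderOf_b (hι : Function.Injective ι) : orderOf (ι (sr 0 : DihedralGroup m)) = 2 := by
  rw [orderOf_injective ι hι]; exact orderOf_sr 0

theorem orderOf_ab (hι : Function.Injective ι) :
    orderOf (ι (r 1 * sr 0 : DihedralGroup m)) = 2 := by
  rw [orderOf_injective ι hι, r_mul_sr]; exact orderOf_sr _

theorem invol_cases (hι : Function.Injective ι) (hm2 : 2 ≤ m) (t : X) (ht : t ∈ ι.range)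
    (h2 : orderOf t = 2) :
    t = ι (zc m) ∨ (∃ s ∈ ι.range, s * t * s⁻¹ = ι (sr 0)) ∨
      (∃ s ∈ ι.range, s * t * s⁻¹ = ι (r 1 * sr 0)) := by
  obtain ⟨d, rfl⟩ := ht
  rw [orderOf_injective ι hι] at h2
  rcases involution_cases hm2 d h2 with h | ⟨s, hs⟩ | ⟨s, hs⟩
  · exact Or.inl (by rw [h])
  · exact Or.inr (Or.inl ⟨ι s, ⟨s, rfl⟩, by rw [← hs]; simp⟩)
  · exact Or.inr (Or.inr ⟨ι s, ⟨s, rfl⟩, by rw [← hs]; simp⟩)

theorem isConj_cases (hι : Function.Injective ι) (hm2 : 2 ≤ m) (t : X) (ht : t ∈ ι.range)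
    (h2 : orderOf t = 2) :
    t = ι (zc m) ∨ IsConj t (ι (sr 0)) ∨ IsConj t (ι (r 1 * sr 0)) := by
  rcases invol_cases ι hι hm2 t ht h2 with h | ⟨s, -, hs⟩ | ⟨s, -, hs⟩
  · exact Or.inl h
  · exact Or.inr (Or.inl (isConj_iff.mpr ⟨s, hs⟩))
  · exact Or.inr (Or.inr (isConj_iff.mpr ⟨s, hs⟩))

/-- every involution of `X` is conjugate to one of the three representatives. -/
theorem invol_rep [Finite X] (P : Sylow 2 X) (hP : (P : Subgroup X) = ι.range)
    (hι : Function.Injective ι) (hm2 : 2 ≤ m) (t : X) (h2 : orderOf t = 2) :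
    IsConj t (ι (zc m)) ∨ IsConj t (ι (sr 0)) ∨ IsConj t (ι (r 1 * sr 0)) := by
  have : Fact (Nat.Prime 2) := ⟨Nat.prime_two⟩
  have hE : IsPGroup 2 (Subgroup.zpowers t) := by
    apply IsPGroup.of_card (n := 1)
    rw [Nat.card_zpowers, h2, pow_one]
  obtain ⟨h, hh⟩ := exists_conj_mem_sylow P (Subgroup.zpowers t) hE
  have h1 : h⁻¹ * t * h ∈ ι.range := hP ▸ hh t (Subgroup.mem_zpowers t)
  have h3 : orderOf (h⁻¹ * t * h) = 2 := by
    have := orderOf_conj h⁻¹ t
    rw [inv_inv] at this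
    rw [this, h2]
  have hc : IsConj t (h⁻¹ * t * h) := isConj_iff.mpr ⟨h⁻¹, by rw [inv_inv]⟩
  rcases isConj_cases ι hι hm2 _ h1 h3 with h | h | h
  · exact Or.inl (h ▸ hc)
  · exact Or.inr (Or.inl (hc.trans h))
  · exact Or.inr (Or.inr (hc.trans h))

/-- `z` is central in `P`. -/
theorem z_central (hm : Even m) (s : X) (hs : s ∈ ι.range) : s * ι (zc m) = ι (zc m) * s := by
  obtain ⟨d, rfl⟩ := hs
  rw [← map_mul, ← map_mul, zc_central hm]

/-- a Klein four-subgroup of `P` contains `z`. -/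
theorem z_mem_of_kleinFour (hι : Function.Injective ι) (hm2 : 2 ≤ m) (Q : Subgroup X)
    (hQ : Q ≤ ι.range) (hK : IsKleinFour Q) : ι (zc m) ∈ Q := by
  have : Finite Q := Nat.finite_of_card_ne_zero (by rw [hK.card_four]; norm_num)
  let E : DihedralGroup m ≃* ι.range := MonoidHom.ofInjective hι
  let φ : Q →* DihedralGroup m := E.symm.toMonoidHom.comp (Subgroup.inclusion hQ)
  have hφι : ∀ q : Q, ι (φ q) = (q : X) := by
    intro q
    have : E (φ q) = Subgroup.inclusion hQ q := E.apply_symm_apply _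
    have h2 := congrArg Subtype.val this
    exact h2
  have : Finite (rotSub Q φ) := Finite.of_injective (Subgroup.inclusion (rotSub_le Q φ))
    (Subgroup.inclusion_injective _)
  have h1 := card_le_two_mul_card_rotSub Q φ
  rw [hK.card_four] at h1
  have h2 : 1 < Nat.card (rotSub Q φ) := by omega
  have h3 : rotSub Q φ ≠ ⊥ := (Subgroup.one_lt_card_iff_ne_bot _).mp h2
  obtain ⟨⟨x, hx⟩, hx1'⟩ := (Subgroup.ne_bot_iff_exists_ne_one).mp h3
  have hx1 : x ≠ 1 := fun h => hx1' (Subtype.ext h)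
  obtain ⟨hxQ, hsign⟩ := (mem_rotSub Q φ x).mp hx
  have hr := eq_r_rotPart m _ hsign
  have hxι : x = ι (r (rotPart m (φ ⟨x, hxQ⟩))) := by rw [← hr, hφι]
  have hx2 : x ^ 2 = 1 := by
    have h := Monoid.pow_exponent_eq_one (⟨x, hxQ⟩ : Q)
    rw [hK.exponent_two] at h
    have := congrArg Subtype.val h
    rw [Subgroup.coe_pow, Subgroup.coe_one] at this
    exact this
  have hord : orderOf x = 2 := orderOf_eq_prime hx2 hx1
  rw [hxι, orderOf_injective ι hι] at hord
  have := rot_involution hm2 _ hord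
  rw [← this, ← hxι]
  exact hxQ

/-- The Frobenius condition holds when `z` is fused to neither class of reflections. -/
theorem frobenius_cond [Finite X] (P : Sylow 2 X) (hP : (P : Subgroup X) = ι.range)
    (hι : Function.Injective ι) (hm : Even m) (hm2 : 2 ≤ m)
    (hF1 : ¬ IsConj (ι (zc m)) (ι (sr 0))) (hF2 : ¬ IsConj (ι (zc m)) (ι (r 1 * sr 0))) :
    ∀ Q : Subgroup X, Q ≤ (P : Subgroup X) → ∀ g ∈ Subgroup.normalizer (Q : Set X),
      Nat.Coprime (orderOf g) 2 → g ∈ Subgroup.centralizer (Q : Set X) := by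
  intro Q hQP g hg hgo
  have hodd : Odd (orderOf g) := Nat.Coprime.odd_of_right hgo
  have hQr : Q ≤ ι.range := hP ▸ hQP
  have hQ2 : IsPGroup 2 Q := P.2.to_le hQP
  let E : DihedralGroup m ≃* ι.range := MonoidHom.ofInjective hι
  let φ : Q →* DihedralGroup m := E.symm.toMonoidHom.comp (Subgroup.inclusion hQr)
  have hφ : Function.Injective φ := by
    intro a b hab
    have := E.symm.injective hab
    exact Subgroup.inclusion_injective hQr this
  rcases centralizes_or_kleinFour Q hQ2 φ hφ g hg hodd with h | hK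
  · exact h
  · have hz : ι (zc m) ∈ Q := z_mem_of_kleinFour ι hι hm2 Q hQr hK
    have hz1 : ι (zc m) ≠ 1 := by
      intro h
      have := orderOf_z ι hι hm hm2
      rw [h, orderOf_one] at this
      omega
    by_cases hcomm : g * ι (zc m) = ι (zc m) * g
    · exact centralizes_of_dihedral_embedding Q hQ2 φ hφ g hg hodd _ hz hz1 hcomm
    · exfalso
      have hmem : g * ι (zc m) * g⁻¹ ∈ Q := (Subgroup.mem_normalizer_iff.mp hg _).mp hz
      have hne : g * ι (zc m) * g⁻¹ ≠ ι (zc m) := by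
        intro h
        apply hcomm
        calc g * ι (zc m) = (g * ι (zc m) * g⁻¹) * g := by group
          _ = ι (zc m) * g := by rw [h]
      have ho : orderOf (g * ι (zc m) * g⁻¹) = 2 := by
        rw [orderOf_conj]; exact orderOf_z ι hι hm hm2
      have hc : IsConj (ι (zc m)) (g * ι (zc m) * g⁻¹) := isConj_iff.mpr ⟨g, rfl⟩
      rcases isConj_cases ι hι hm2 _ (hQr hmem) ho with h | h | h
      · exact hne h
      · exact hF1 (hc.trans h)
      · exact hF2 (hc.trans h)

/-- In a group with a normal complement to `P`, `X`-conjugate elements of `P` are `P`-conjugate. -/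
theorem conj_in_sylow_of_complement {S N : Subgroup X} (hN : N.Normal)
    (hc : N.IsComplement' S) (x y : X) (hx : x ∈ S) (hy : y ∈ S) (g : X)
    (hg : g * x * g⁻¹ = y) : ∃ s ∈ S, s * x * s⁻¹ = y := by
  have hdisj : N ⊓ S = ⊥ := disjoint_iff.mp hc.disjoint
  obtain ⟨⟨⟨n, hn⟩, ⟨s, hs⟩⟩, hns⟩ := hc.existsUnique g |>.exists
  simp only at hns
  refine ⟨s, hs, ?_⟩
  set x' := s * x * s⁻¹ with hx'
  have hx'S : x' ∈ S := S.mul_mem (S.mul_mem hs hx) (S.inv_mem hs)
  have h1 : n * x' * n⁻¹ = y := by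
    rw [← hg, ← hns, hx']; group
  have h2 : y * x'⁻¹ ∈ N ⊓ S := by
    refine Subgroup.mem_inf.mpr ⟨?_, S.mul_mem hy (S.inv_mem hx'S)⟩
    rw [← h1]
    have : n * x' * n⁻¹ * x'⁻¹ = n * (x' * n⁻¹ * x'⁻¹) := by group
    rw [this]
    exact N.mul_mem hn (hN.conj_mem _ (N.inv_mem hn) x')
  rw [hdisj, Subgroup.mem_bot] at h2
  exact (mul_inv_eq_one.mp h2).symm

/-- the rotation subgroup of `P`. -/
def rotX : Subgroup X := (rotSign m).ker.map ι

theorem mem_rotX {x : X} : x ∈ rotX ι ↔ ∃ d, rotSign m d = 1 ∧ ι d = x := by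
  unfold rotX
  rw [Subgroup.mem_map]
  simp only [MonoidHom.mem_ker]

theorem rotX_le : rotX ι ≤ ι.range := by
  intro x hx
  obtain ⟨d, -, rfl⟩ := (mem_rotX ι).mp hx
  exact ⟨d, rfl⟩

theorem rotSign_surjective : Function.Surjective (rotSign m) := by
  intro u
  rcases Int.units_eq_one_or u with h | h
  · exact ⟨r 0, by rw [h]; rfl⟩
  · exact ⟨sr 0, by rw [h]; rfl⟩

theorem relIndex_rotX (hι : Function.Injective ι) : (rotX ι).relIndex ι.range = 2 := by
  have h1 : ι.range = (⊤ : Subgroup (DihedralGroup m)).map ι := by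
    rw [← MonoidHom.range_eq_map]
  unfold rotX
  rw [h1, Subgroup.relIndex_map_map_of_injective _ _ hι, Subgroup.relIndex_top_right,
    Subgroup.index_ker, MonoidHom.range_eq_top_of_surjective _ rotSign_surjective]
  rw [Nat.card_congr (Subgroup.topEquiv (G := ℤˣ)).toEquiv, Nat.card_eq_fintype_card]
  rfl

theorem b_not_mem_rotX (hι : Function.Injective ι) (i : ZMod m) : ι (sr i) ∉ rotX ι := by
  intro h
  obtain ⟨d, hd, hd'⟩ := (mem_rotX ι).mp h
  have := hι hd'
  rw [this, rotSign_sr] at hd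
  exact absurd hd (by decide)

theorem invol_rotX (hι : Function.Injective ι) (hm2 : 2 ≤ m) (x : X) (hx : x ∈ rotX ι)
    (h2 : orderOf x = 2) : x = ι (zc m) := by
  obtain ⟨d, hd, rfl⟩ := (mem_rotX ι).mp hx
  rw [orderOf_injective ι hι] at h2
  have hr := eq_r_rotPart m d hd
  rw [hr] at h2 ⊢
  rw [rot_involution hm2 _ h2]

/-- Thompson transfer: if `z` is not fused to the reflection `sr i`, there is a normal subgroup of
index 2. -/
theorem exists_index_two [Finite X] (P : Sylow 2 X) (hP : (P : Subgroup X) = ι.range)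
    (hι : Function.Injective ι) (hm2 : 2 ≤ m) (i : ZMod m)
    (hF : ¬ IsConj (ι (zc m)) (ι (sr i))) : ∃ M : Subgroup X, M.Normal ∧ M.index = 2 := by
  have hle : rotX ι ≤ (P : Subgroup X) := hP ▸ rotX_le ι
  have hri : (rotX ι).relIndex (P : Subgroup X) = 2 := by rw [hP]; exact relIndex_rotX ι hι
  have hu : orderOf (ι (sr i)) = 2 := by rw [orderOf_injective ι hι]; exact orderOf_sr i
  have huP : ι (sr i) ∈ (P : Subgroup X) := by rw [hP]; exact ⟨_, rfl⟩
  rcases Cfsg.Agent.S0111.result P (rotX ι) hle hri (ι (sr i)) hu huP (b_not_mem_rotX ι hι i)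
    with ⟨M, hM, hMi, -⟩ | ⟨g, hg⟩
  · exact ⟨M, hM, hMi⟩
  · exfalso
    have ho : orderOf (g * ι (sr i) * g⁻¹) = 2 := by rw [orderOf_conj]; exact hu
    have := invol_rotX ι hι hm2 _ hg ho
    apply hF
    rw [← this]
    exact (isConj_iff.mpr ⟨g, rfl⟩ : IsConj (ι (sr i)) (g * ι (sr i) * g⁻¹)).symm

/-- If all involutions of `X` are conjugate (and `|P| ≥ 4`), `X` has no normal subgroup of
index 2. -/
theorem no_index_two_of_all_conj [Finite X] (P : Sylow 2 X) (hP : (P : Subgroup X) = ι.range)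
    (hι : Function.Injective ι) (hm : Even m) (hm2 : 2 ≤ m)
    (hall : ∀ s t : X, orderOf s = 2 → orderOf t = 2 → IsConj s t) :
    ∀ N : Subgroup X, N.Normal → N.index ≠ 2 := by
  intro N hN hi
  have : Fact (Nat.Prime 2) := ⟨Nat.prime_two⟩
  have : NeZero m := ⟨by omega⟩
  have hcardX : Nat.card N * 2 = Nat.card X := by rw [← hi]; exact N.card_mul_index
  have hPcard : Nat.card (P : Subgroup X) = 2 * m := by
    rw [hP, Nat.card_congr (MonoidHom.ofInjective hι).symm.toEquiv, DihedralGroup.nat_card]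
  have hPdvd : Nat.card (P : Subgroup X) ∣ Nat.card X := Subgroup.card_subgroup_dvd_card _
  have hNeven : 2 ∣ Nat.card N := by
    rw [hPcard, ← hcardX] at hPdvd
    obtain ⟨c, hc⟩ := hPdvd
    obtain ⟨j, hj⟩ := hm
    have : Nat.card N = 2 * (j * c) := by
      have : Nat.card N * 2 = (2 * (j * c)) * 2 := by rw [hc, hj]; ring
      exact Nat.eq_of_mul_eq_mul_right (by norm_num) this
    exact ⟨_, this⟩
  obtain ⟨t, ht⟩ := exists_prime_orderOf_dvd_card' 2 hNeven
  have ht' : orderOf (t : X) = 2 := by rw [Subgroup.orderOf_coe]; exact ht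
  have hinv : ∀ s : X, orderOf s = 2 → s ∈ N := by
    intro s hs
    obtain ⟨c, hc⟩ := isConj_iff.mp (hall t s ht' hs)
    rw [← hc]
    exact hN.conj_mem _ t.2 c
  have hPN : (P : Subgroup X) ≤ N := by
    rw [hP]
    rintro x ⟨d, rfl⟩
    rcases elt_prod_invol d with ⟨i, rfl⟩ | ⟨i, rfl⟩
    · exact hinv _ (by rw [orderOf_injective ι hι]; exact orderOf_sr i)
    · rw [map_mul]
      exact N.mul_mem (hinv _ (by rw [orderOf_injective ι hι]; exact orderOf_sr 0))
        (hinv _ (by rw [orderOf_injective ι hι]; exact orderOf_sr i))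
  have h1 : Nat.card (P : Subgroup X) ∣ Nat.card N := Subgroup.card_dvd_of_le hPN
  have h2 : Nat.card (P : Subgroup X) * 2 ∣ Nat.card X := by
    rw [← hcardX]; exact Nat.mul_dvd_mul_right h1 2
  rw [P.card_eq_multiplicity, ← pow_succ] at h2
  exact Nat.pow_succ_factorization_not_dvd Nat.card_pos.ne' Nat.prime_two h2

/-- If `z` is fused to a reflection and `4 ∣ m`, there is no normal subgroup of index 4. -/
theorem no_index_four [Finite X] (P : Sylow 2 X) (hP : (P : Subgroup X) = ι.range)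
    (hm2 : 2 ≤ m) (h4 : 4 ∣ m) (i : ZMod m)
    (hF : IsConj (ι (zc m)) (ι (sr i))) : ∀ M : Subgroup X, M.Normal → M.index ≠ 4 := by
  intro M hM hi
  have : Fact (Nat.Prime 2) := ⟨Nat.prime_two⟩
  have : NeZero m := ⟨by omega⟩
  have hcardq : Nat.card (X ⧸ M) = 2 ^ 2 := by rw [← Subgroup.index_eq_card, hi]; norm_num
  have hcomm : commutator X ≤ M :=
    Subgroup.Normal.quotient_commutative_iff_commutator_le.mp
      (IsPGroup.isMulCommutative_of_card_eq_prime_sq hcardq)
  have hcm : ∀ x y : X, x * y * x⁻¹ * y⁻¹ ∈ M := by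
    intro x y
    apply hcomm
    rw [commutator_def, ← commutatorElement_def]
    exact Subgroup.commutator_mem_commutator (Subgroup.mem_top x) (Subgroup.mem_top y)
  have hzM : ι (zc m) ∈ M := by
    rw [← comm_quarter h4]
    simp only [map_mul, map_inv]
    exact hcm _ _
  have hbM : ι (sr i) ∈ M := by
    obtain ⟨c, hc⟩ := isConj_iff.mp hF
    rw [← hc]
    exact hM.conj_mem _ hzM c
  have ha2 : ι (r 1) ^ 2 ∈ M := by
    rw [← map_pow, ← comm_r_one_sr_zero]
    simp only [map_mul, map_inv]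
    exact hcm _ _
  have hak : ∀ k : ℕ, ι (r 1) ^ k ∈ M ∨ (ι (r 1))⁻¹ * ι (r 1) ^ k ∈ M := by
    intro k
    rcases Nat.even_or_odd' k with ⟨j, hj | hj⟩
    · left
      rw [hj, pow_mul]
      exact M.pow_mem ha2 j
    · right
      rw [hj, pow_succ']
      rw [inv_mul_cancel_left, pow_mul]
      exact M.pow_mem ha2 j
  have hPM : ∀ x ∈ (P : Subgroup X), x ∈ M ∨ (ι (r 1))⁻¹ * x ∈ M := by
    rw [hP]
    rintro x ⟨d, rfl⟩
    obtain ⟨k, hk | hk⟩ := elt_form' i d
    · rw [hk, map_pow]; exact hak k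
    · rw [hk, map_mul, map_pow]
      rcases hak k with h | h
      · exact Or.inl (M.mul_mem h hbM)
      · right
        rw [← mul_assoc]
        exact M.mul_mem h hbM
  have hsup : (P : Subgroup X) ⊔ M = ⊤ := by
    rw [← Subgroup.index_eq_one]
    have h1 : ((P : Subgroup X) ⊔ M).index ∣ (P : Subgroup X).index :=
      Subgroup.index_dvd_of_le le_sup_left
    have h2 : ((P : Subgroup X) ⊔ M).index ∣ 4 := hi ▸ Subgroup.index_dvd_of_le le_sup_right
    have h3 : ¬ 2 ∣ (P : Subgroup X).index := P.not_dvd_index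
    have h5 : ¬ 2 ∣ ((P : Subgroup X) ⊔ M).index := fun h => h3 (h.trans h1)
    have h6 : ((P : Subgroup X) ⊔ M).index ≤ 4 := Nat.le_of_dvd (by norm_num) h2
    have h7 : ((P : Subgroup X) ⊔ M).index ≠ 0 := fun h => by rw [h] at h2; omega
    interval_cases ((P : Subgroup X) ⊔ M).index <;> omega
  have hall : ∀ x : X, x ∈ M ∨ (ι (r 1))⁻¹ * x ∈ M := by
    intro x
    have hx : x ∈ ((P : Subgroup X) ⊔ M : Subgroup X) := hsup ▸ Subgroup.mem_top x
    rw [← SetLike.mem_coe, Subgroup.mul_normal] at hx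
    obtain ⟨p, hp, n, hn, rfl⟩ := Set.mem_mul.mp hx
    rcases hPM p hp with h | h
    · exact Or.inl (M.mul_mem h hn)
    · right
      rw [← mul_assoc]
      exact M.mul_mem h hn
  let f : Bool → X ⧸ M := fun c => if c then (QuotientGroup.mk (ι (r 1)) : X ⧸ M) else 1
  have hf : Function.Surjective f := by
    intro q
    obtain ⟨x, rfl⟩ := QuotientGroup.mk_surjective q
    rcases hall x with h | h
    · exact ⟨false, ((QuotientGroup.eq_one_iff x).mpr h).symm⟩
    · exact ⟨true, QuotientGroup.eq.mpr h⟩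
  have := Nat.card_le_card_of_surjective f hf
  rw [hcardq] at this
  simp at this

/-- the set of classes of involutions. -/
theorem invol_classes_eq [Finite X] (P : Sylow 2 X) (hP : (P : Subgroup X) = ι.range)
    (hι : Function.Injective ι) (hm : Even m) (hm2 : 2 ≤ m) :
    {C : ConjClasses X | ∃ g : X, ConjClasses.mk g = C ∧ orderOf g = 2} =
      {ConjClasses.mk (ι (zc m)), ConjClasses.mk (ι (sr 0)), ConjClasses.mk (ι (r 1 * sr 0))} := by
  ext C
  simp only [Set.mem_ofPred_eq, Set.mem_insert_iff, Set.mem_singleton_iff]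
  constructor
  · rintro ⟨g, rfl, h2⟩
    rcases invol_rep ι P hP hι hm2 g h2 with h | h | h
    · exact Or.inl (ConjClasses.mk_eq_mk_iff_isConj.mpr h)
    · exact Or.inr (Or.inl (ConjClasses.mk_eq_mk_iff_isConj.mpr h))
    · exact Or.inr (Or.inr (ConjClasses.mk_eq_mk_iff_isConj.mpr h))
  · rintro (h | h | h)
    · exact ⟨_, h.symm, orderOf_z ι hι hm hm2⟩
    · exact ⟨_, h.symm, orderOf_b ι hι⟩
    · exact ⟨_, h.symm, orderOf_ab ι hι⟩

theorem card_invol_classes [Finite X] (P : Sylow 2 X) (hP : (P : Subgroup X) = ι.range)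
    (hι : Function.Injective ι) (hm : Even m) (hm2 : 2 ≤ m) :
    Nat.card {C : ConjClasses X // ∃ g : X, ConjClasses.mk g = C ∧ orderOf g = 2} =
      ({ConjClasses.mk (ι (zc m)), ConjClasses.mk (ι (sr 0)),
        ConjClasses.mk (ι (r 1 * sr 0))} : Set (ConjClasses X)).ncard := by
  rw [← invol_classes_eq ι P hP hι hm hm2, ← Nat.card_coe_set_eq]
  rfl

end Cfsg.Agent.Lib.Helper4.DS
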