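import Mathlib
import Cfsg.Agent.Lib.Helper4.DihedralSylow
import Cfsg.Agent.Lib.Helper33.AlperinTame

/-! Control of fusion of Klein four-subgroups in a dihedral Sylow 2-subgroup, via Alperin's
theorem (helper33). -/

namespace Cfsg.Agent.Lib.Helper4.DS

open DihedralGroup Cfsg.Agent.Lib.Helper4.DF Cfsg.Agent.Lib.Helper33

variable {X : Type*} [Group X] {m : ℕ} (ι : DihedralGroup m →* X)

/-- For a fully normalized, non-Klein-four subgroup `D` of the dihedral Sylow 2-subgroup `P`, every
element of `N(D)` acts on `D` like an element of `N_P(D)`. -/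
theorem normalizer_acts_like_sylow [Finite X] (P : Sylow 2 X) (hP : (P : Subgroup X) = ι.range)
    (hι : Function.Injective ι) (D : Subgroup X) (hDP : D ≤ (P : Subgroup X))
    (hfn : FN 2 (P : Subgroup X) D) (hnk : ¬ IsKleinFour D) (x : X)
    (hx : x ∈ Subgroup.normalizer (D : Set X)) :
    ∃ u ∈ (P : Subgroup X), u ∈ Subgroup.normalizer (D : Set X) ∧
      ∀ d ∈ D, x * d * x⁻¹ = u * d * u⁻¹ := by
  classical
  have : Fact (Nat.Prime 2) := ⟨Nat.prime_two⟩
  have hDr : D ≤ ι.range := hP ▸ hDP
  have hD2 : IsPGroup 2 D := P.2.to_le hDP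
  let E : DihedralGroup m ≃* ι.range := MonoidHom.ofInjective hι
  let φ : D →* DihedralGroup m := E.symm.toMonoidHom.comp (Subgroup.inclusion hDr)
  have hφ : Function.Injective φ := by
    intro a b hab
    have := E.symm.injective hab
    exact Subgroup.inclusion_injective hDr this
  set N := Subgroup.normalizer (D : Set X) with hN
  let ρ : N →* MulAut D := D.normalizerMonoidHom
  -- odd order elements act trivially
  have hodd : ∀ y : N, Odd (orderOf y) → ρ y = 1 := by
    intro y hy
    have hy' : Odd (orderOf (y : X)) := by rw [Subgroup.orderOf_coe]; exact hy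
    rcases centralizes_or_kleinFour D hD2 φ hφ (y : X) y.2 hy' with h | h
    · have : y ∈ ρ.ker := by
        rw [Subgroup.normalizerMonoidHom_ker, Subgroup.mem_subgroupOf]
        exact h
      exact MonoidHom.mem_ker.mp this
    · exact absurd h hnk
  -- the image is a 2-group
  have hrange2 : IsPGroup 2 ρ.range := by
    rintro ⟨α, y, rfl⟩
    obtain ⟨a, b, hb, hab⟩ := Nat.exists_eq_two_pow_mul_odd (orderOf_pos y).ne'
    refine ⟨a, ?_⟩
    apply Subtype.ext
    rw [Subgroup.coe_pow, Subgroup.coe_one]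
    show ρ y ^ 2 ^ a = 1
    rw [← map_pow]
    apply hodd
    rw [orderOf_pow' y (by positivity : 2 ^ a ≠ 0), hab]
    have : Nat.gcd (2 ^ a * b) (2 ^ a) = 2 ^ a := Nat.gcd_eq_right (Dvd.intro _ rfl)
    rw [this, Nat.mul_div_cancel_left _ (by positivity)]
    exact hb
  have : Finite ρ.range := Finite.of_surjective ρ.rangeRestrict ρ.rangeRestrict_surjective
  obtain ⟨k, hk⟩ := hrange2.exists_card_eq
  let K : Subgroup N := ((P : Subgroup X) ⊓ N).subgroupOf N
  have hKidx : ¬ 2 ∣ K.index := hfn
  have hsurj : Function.Surjective ρ.rangeRestrict := ρ.rangeRestrict_surjective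
  have h1 : (K.map ρ.rangeRestrict).index ∣ K.index := Subgroup.index_map_dvd K hsurj
  have h2 : (K.map ρ.rangeRestrict).index ∣ 2 ^ k := by
    rw [← hk]; exact Subgroup.index_dvd_card _
  have h3 : (K.map ρ.rangeRestrict).index = 1 := by
    obtain ⟨j, -, hj⟩ := (Nat.dvd_prime_pow Nat.prime_two).mp h2
    rcases j with _ | j
    · simpa using hj
    · exfalso
      apply hKidx
      refine dvd_trans ?_ h1
      rw [hj, pow_succ]
      exact Dvd.intro_left _ rfl
  have h4 : K.map ρ.rangeRestrict = ⊤ := Subgroup.index_eq_one.mp h3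
  have h5 : ρ.rangeRestrict ⟨x, hx⟩ ∈ K.map ρ.rangeRestrict := h4 ▸ Subgroup.mem_top _
  obtain ⟨u, huK, hu⟩ := h5
  have hu' : ρ u = ρ ⟨x, hx⟩ := congrArg Subtype.val hu
  have huP : (u : X) ∈ (P : Subgroup X) := (Subgroup.mem_subgroupOf.mp huK).1
  refine ⟨u, huP, u.2, ?_⟩
  intro d hd
  have := congrArg (fun α : MulAut D => ((α ⟨d, hd⟩ : D) : X)) hu'
  exact this.symm

theorem isKleinFour_of_mulEquiv' {A B : Type*} [Group A] [Group B] (e : A ≃* B)
    (h : IsKleinFour A) : IsKleinFour B where
  card_four := by rw [← Nat.card_congr e.toEquiv]; exact h.card_four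
  exponent_two := by rw [← Monoid.exponent_eq_of_mulEquiv e]; exact h.exponent_two

/-- Conjugation of a Klein four-subgroup of `P` into `P` is realized by an element of `P`. -/
theorem klein_reach [Finite X] (P : Sylow 2 X) (hP : (P : Subgroup X) = ι.range)
    (hι : Function.Injective ι) (A : Set X) (g : X) (h : Reach (fnFamily P) A g) :
    (∃ U : Subgroup X, (U : Set X) = A ∧ IsKleinFour U ∧ U ≤ (P : Subgroup X)) →
      ∃ s ∈ (P : Subgroup X), rc g A = rc s A := by
  induction h with
  | nil A =>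
    intro _
    exact ⟨1, Subgroup.one_mem _, rfl⟩
  | cons A T x g hT hx hAT hr ih =>
    rintro ⟨U, hUA, hUK, hUP⟩
    obtain ⟨hTP, hTfn⟩ := hT
    have hxinv : x⁻¹ ∈ Subgroup.normalizer (T : Set X) := inv_mem hx
    by_cases hTK : IsKleinFour T
    · -- U = T
      have : Finite T := Nat.finite_of_card_ne_zero (by rw [hTK.card_four]; norm_num)
      have hUT : U ≤ T := by
        intro y hy
        exact hAT (hUA ▸ hy)
      have hUeqT : U = T := by
        apply Subgroup.eq_of_le_of_card_ge hUT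
        rw [hUK.card_four, hTK.card_four]
      have hrc : rc x A = A := by
        rw [← hUA, hUeqT, rc_coe]
        congr 1
        exact cj_eq_self_iff.mpr hxinv
      obtain ⟨s, hs, hs'⟩ := ih ⟨U, by rw [hrc]; exact hUA, hUK, hUP⟩
      refine ⟨s, hs, ?_⟩
      rw [rc_mul, hs', hrc]
    · obtain ⟨u, huP, huN, hu⟩ := normalizer_acts_like_sylow ι P hP hι T hTP hTfn hTK x⁻¹ hxinv
      have hrc : rc x A = rc u⁻¹ A := by
        ext y
        simp only [rc, Set.mem_image]
        constructor
        · rintro ⟨a, ha, rfl⟩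
          refine ⟨a, ha, ?_⟩
          have := hu a (hAT ha)
          rw [inv_inv] at this ⊢
          exact this.symm
        · rintro ⟨a, ha, rfl⟩
          refine ⟨a, ha, ?_⟩
          have := hu a (hAT ha)
          rw [inv_inv] at this ⊢
          exact this
      have hKS : ∃ U' : Subgroup X, (U' : Set X) = rc x A ∧ IsKleinFour U' ∧
          U' ≤ (P : Subgroup X) := by
        refine ⟨cj u U, ?_, isKleinFour_of_mulEquiv' (cjEquiv u U) hUK, ?_⟩
        · rw [hrc, ← hUA, rc_coe, inv_inv]
        · intro y hy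
          obtain ⟨w, hw, rfl⟩ := mem_cj'.mp hy
          exact (P : Subgroup X).mul_mem ((P : Subgroup X).mul_mem huP (hUP hw))
            ((P : Subgroup X).inv_mem huP)
      obtain ⟨s, hs, hs'⟩ := ih hKS
      refine ⟨u⁻¹ * s, (P : Subgroup X).mul_mem ((P : Subgroup X).inv_mem huP) hs, ?_⟩
      rw [rc_mul, hs', hrc, ← rc_mul]

/-- Klein four-subgroups of `P` that are conjugate in `X` are conjugate in `P`. -/
theorem klein_conj_in_sylow [Finite X] (P : Sylow 2 X) (hP : (P : Subgroup X) = ι.range)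
    (hι : Function.Injective ι) (U V : Subgroup X) (hUK : IsKleinFour U)
    (hUP : U ≤ (P : Subgroup X)) (hVP : V ≤ (P : Subgroup X)) (x : X)
    (hx : U.map (MulAut.conj x).toMonoidHom = V) :
    ∃ s ∈ (P : Subgroup X), (V : Set X) = rc s (U : Set X) := by
  have : Fact (Nat.Prime 2) := ⟨Nat.prime_two⟩
  have h1 : rc x⁻¹ (U : Set X) = (V : Set X) := by
    rw [rc_coe, inv_inv, ← hx]; rfl
  have hreach := reach_fnFamily P (U : Set X) x⁻¹ hUP (by rw [h1]; exact hVP)
  obtain ⟨s, hs, hs'⟩ := klein_reach ι P hP hι _ _ hreach ⟨U, rfl, hUK, hUP⟩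
  exact ⟨s, hs, by rw [← h1, hs']⟩

end Cfsg.Agent.Lib.Helper4.DS
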