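import Mathlib
import Cfsg.Prelude.Def_Transfer
import Cfsg.Agent.Lib.Helper78.TransferParity

set_option autoImplicit false

/-!
Transfer of an involution `u` of `G` into a quotient `H/K` of order two of a subgroup `H`,
for a group `G` without quotient of order two: besides the trivial coset there is another
coset `kH` fixed by a prescribed `2`-subgroup `P ≤ C_H(u)` with `k⁻¹ u k ∈ H ∖ K`.
-/

namespace Cfsg.Agent.Lib.Helper4.TI

open MulAction Subgroup Cfsg.Agent.Lib.Helper78

theorem exists_fixed_coset {G : Type*} [Group G] [Finite G] (hres : Cfsg.pResidual 2 G = ⊤)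
    (H K : Subgroup G) (hKH : K ≤ H) (hKn : ∀ h ∈ H, ∀ k ∈ K, h * k * h⁻¹ ∈ K)
    (hKi : K.relIndex H = 2)
    (u : G) (hu : u * u = 1) (huH : u ∈ H) (huK : u ∉ K)
    (P : Subgroup G) (hP : IsPGroup 2 P) (hPH : P ≤ H) (hPu : ∀ p ∈ P, p * u = u * p) :
    ∃ k : G, k ∉ H ∧ k⁻¹ * u * k ∈ H ∧ k⁻¹ * u * k ∉ K ∧ ∀ p ∈ P, k⁻¹ * p * k ∈ H := by
  classical
  by_contra hcon
  push Not at hcon
  have hp2 : Fact (Nat.Prime 2) := ⟨Nat.prime_two⟩
  have hy2 : u ^ 2 = 1 := by rw [pow_two]; exact hu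
  have hnK : (K.subgroupOf H).Normal := by
    constructor
    intro n hn g
    rw [Subgroup.mem_subgroupOf] at hn ⊢
    exact hKn g.1 g.2 n.1 hn
  have hcardA : Nat.card (H ⧸ K.subgroupOf H) = 2 := by
    rw [← Subgroup.index_eq_card]; exact hKi
  have hcyc : IsCyclic (H ⧸ K.subgroupOf H) := isCyclic_of_prime_card hcardA
  let _ : CommGroup (H ⧸ K.subgroupOf H) := IsCyclic.commGroup
  let ϕ : H →* H ⧸ K.subgroupOf H := QuotientGroup.mk' (K.subgroupOf H)
  have hϕ1 : ∀ (e : G) (he : e ∈ H), ϕ ⟨e, he⟩ = 1 ↔ e ∈ K := by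
    intro e he
    rw [QuotientGroup.mk'_apply, QuotientGroup.eq_one_iff, Subgroup.mem_subgroupOf]
  set z := ϕ ⟨u, huH⟩ with hzdef
  have hz1 : z ≠ 1 := by
    intro h
    exact huK ((hϕ1 u huH).mp h)
  have hz2 : z ^ 2 = 1 := by
    rw [hzdef, ← map_pow]
    have : (⟨u, huH⟩ : H) ^ 2 = 1 := Subtype.ext (by simpa using hy2)
    rw [this, map_one]
  -- the transfer is trivial
  have htriv : ∀ g : G, MonoidHom.transfer ϕ g = 1 := by
    have hker : Cfsg.pResidual 2 G ≤ (MonoidHom.transfer ϕ).ker := by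
      unfold Cfsg.pResidual
      rw [Subgroup.closure_le]
      intro g hg
      have hg' : Nat.Coprime (orderOf g) 2 := hg
      rw [SetLike.mem_coe, MonoidHom.mem_ker]
      have h1 : (MonoidHom.transfer ϕ g) ^ (orderOf g) = 1 := by
        rw [← map_pow, pow_orderOf_eq_one, map_one]
      have h2 : (MonoidHom.transfer ϕ g) ^ 2 = 1 := by
        have := pow_card_eq_one' (G := H ⧸ K.subgroupOf H) (x := MonoidHom.transfer ϕ g)
        rwa [hcardA] at this
      have hd1 := orderOf_dvd_of_pow_eq_one h1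
      have hd2 := orderOf_dvd_of_pow_eq_one h2
      have := Nat.eq_one_of_dvd_coprimes hg' hd1 hd2
      exact orderOf_eq_one_iff.mp this
    intro g
    have : g ∈ (MonoidHom.transfer ϕ).ker := hker (by rw [hres]; exact Subgroup.mem_top g)
    exact MonoidHom.mem_ker.mp this
  have htr1 : MonoidHom.transfer ϕ u = 1 := htriv u
  -- invariance of the predicates
  have hPT1 : ∀ g h : G, h ∈ H → ((g * h)⁻¹ * u * (g * h) ∈ K ↔ g⁻¹ * u * g ∈ K) := by
    intro g h hh
    constructor
    · intro ht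
      have := hKn h hh _ ht
      have e : h * ((g * h)⁻¹ * u * (g * h)) * h⁻¹ = g⁻¹ * u * g := by group
      rwa [e] at this
    · intro ht
      have := hKn h⁻¹ (H.inv_mem hh) _ ht
      have e : h⁻¹ * (g⁻¹ * u * g) * h⁻¹⁻¹ = (g * h)⁻¹ * u * (g * h) := by group
      rwa [e] at this
  have hPH1 : ∀ g h : G, h ∈ H → ((g * h)⁻¹ * u * (g * h) ∈ H ↔ g⁻¹ * u * g ∈ H) := by
    intro g h hh
    constructor
    · intro ht
      have := H.mul_mem (H.mul_mem hh ht) (H.inv_mem hh)
      have e : h * ((g * h)⁻¹ * u * (g * h)) * h⁻¹ = g⁻¹ * u * g := by group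
      rwa [e] at this
    · intro ht
      have := H.mul_mem (H.mul_mem (H.inv_mem hh) ht) hh
      have e : h⁻¹ * (g⁻¹ * u * g) * h = (g * h)⁻¹ * u * (g * h) := by group
      rwa [e] at this
  have hPT2 : ∀ r g : G, r * u = u * r → (r * g)⁻¹ * u * (r * g) = g⁻¹ * u * g := by
    intro r g hr
    calc (r * g)⁻¹ * u * (r * g) = g⁻¹ * (r⁻¹ * (u * r)) * g := by group
      _ = g⁻¹ * (r⁻¹ * (r * u)) * g := by rw [hr]
      _ = g⁻¹ * u * g := by group
  -- per-factor analysis
  have key : ∀ (a : G) (n : ℕ) (hmem : a⁻¹ * u ^ n * a ∈ H),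
      (ϕ ⟨a⁻¹ * u ^ n * a, hmem⟩ = 1 ∨ ϕ ⟨a⁻¹ * u ^ n * a, hmem⟩ = z) ∧
      (ϕ ⟨a⁻¹ * u ^ n * a, hmem⟩ ≠ 1 ↔ (Odd n ∧ ¬ a⁻¹ * u * a ∈ K)) := by
    intro a n hmem
    rcases Nat.even_or_odd' n with ⟨k, hk | hk⟩
    · have h1 : u ^ n = 1 := by rw [hk, pow_mul, hy2, one_pow]
      have h2 : ϕ ⟨a⁻¹ * u ^ n * a, hmem⟩ = 1 := by
        rw [hϕ1]
        rw [h1, mul_one, inv_mul_cancel]
        exact K.one_mem
      refine ⟨Or.inl h2, ?_⟩
      constructor
      · intro h; exact absurd h2 h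
      · rintro ⟨hodd, _⟩
        exfalso
        rw [hk] at hodd
        exact (Nat.not_odd_iff_even.mpr (even_two_mul k)) hodd
    · have h1 : u ^ n = u := by rw [hk, pow_succ, pow_mul, hy2, one_pow, one_mul]
      have hmem' : a⁻¹ * u * a ∈ H := by rw [← h1]; exact hmem
      have heq : (⟨a⁻¹ * u ^ n * a, hmem⟩ : H) = ⟨a⁻¹ * u * a, hmem'⟩ :=
        Subtype.ext (by change a⁻¹ * u ^ n * a = a⁻¹ * u * a; rw [h1])
      rw [heq]
      have hsq : ϕ ⟨a⁻¹ * u * a, hmem'⟩ ^ 2 = 1 := by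
        rw [← map_pow]
        have : (⟨a⁻¹ * u * a, hmem'⟩ : H) ^ 2 = 1 := by
          apply Subtype.ext
          simp only [Subgroup.coe_pow, Subgroup.coe_one]
          calc (a⁻¹ * u * a) ^ 2 = a⁻¹ * u ^ 2 * a := by rw [sq, sq]; group
            _ = 1 := by rw [hy2]; group
        rw [this, map_one]
      refine ⟨cyclic_sq_eq_one hz1 hz2 hsq, ?_⟩
      rw [Ne, hϕ1]
      constructor
      · intro h; exact ⟨⟨k, hk⟩, h⟩
      · rintro ⟨_, h⟩; exact h
  have : Fintype (Quotient (orbitRel (zpowers u) (G ⧸ H))) := Fintype.ofFinite _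
  rw [MonoidHom.transfer_eq_prod_quotient_orbitRel_zpowers_quot] at htr1
  rw [prod_eq_pow_card _ z (fun q => (key _ _ _).1)] at htr1
  have hfilter : (Finset.univ.filter (fun q : Quotient (orbitRel (zpowers u) (G ⧸ H)) =>
      ϕ ⟨q.out.out⁻¹ * u ^ Function.minimalPeriod (u • ·) q.out * q.out.out,
            QuotientGroup.out_conj_pow_minimalPeriod_mem H u q.out⟩ ≠ 1)) =
      (Finset.univ.filter (fun q : Quotient (orbitRel (zpowers u) (G ⧸ H)) =>
        Odd (Function.minimalPeriod (u • ·) q.out) ∧ ¬ q.out.out⁻¹ * u * q.out.out ∈ K)) := by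
    apply Finset.filter_congr
    intro q _
    exact (key _ _ _).2
  rw [hfilter] at htr1
  -- the set X of fixed cosets with conjugate outside K
  let X : Set (G ⧸ H) := {ω | ω.out⁻¹ * u * ω.out ∈ H ∧ ω.out⁻¹ * u * ω.out ∉ K}
  have hfixX : ∀ ω : G ⧸ H, ω.out⁻¹ * u * ω.out ∈ H → u • ω = ω := by
    intro ω hmemH
    conv_lhs => rw [← QuotientGroup.out_eq' ω]
    conv_rhs => rw [← QuotientGroup.out_eq' ω]
    rw [MulAction.Quotient.smul_mk, eq_comm, QuotientGroup.eq, smul_eq_mul, ← mul_assoc]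
    exact hmemH
  have hXcard : (Finset.univ.filter (fun q : Quotient (orbitRel (zpowers u) (G ⧸ H)) =>
        Odd (Function.minimalPeriod (u • ·) q.out) ∧ ¬ q.out.out⁻¹ * u * q.out.out ∈ K)).card
        = X.ncard := by
    rw [← Set.ncard_coe_finset]
    have hX : X = (fun q : Quotient (orbitRel (zpowers u) (G ⧸ H)) => q.out) ''
        (↑(Finset.univ.filter (fun q : Quotient (orbitRel (zpowers u) (G ⧸ H)) =>
        Odd (Function.minimalPeriod (u • ·) q.out) ∧ ¬ q.out.out⁻¹ * u * q.out.out ∈ K)) :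
          Set (Quotient (orbitRel (zpowers u) (G ⧸ H)))) := by
      ext ω
      constructor
      · intro hω
        have hfixω := hfixX ω hω.1
        have hout : (Quotient.mk'' ω : Quotient (orbitRel (zpowers u) (G ⧸ H))).out = ω := by
          have hrel := Quotient.mk_out (s := orbitRel (zpowers u) (G ⧸ H)) ω
          rw [MulAction.orbitRel_apply] at hrel
          obtain ⟨⟨k, hk⟩, hkω⟩ := hrel
          obtain ⟨j, rfl⟩ := hk
          rw [← hkω]
          change (u ^ j) • ω = ω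
          have hmemstab : u ∈ MulAction.stabilizer G ω := hfixω
          exact (MulAction.stabilizer G ω).zpow_mem hmemstab j
        refine ⟨Quotient.mk'' ω, ?_, hout⟩
        simp only [Finset.coe_filter, Finset.mem_univ, true_and, Set.mem_ofPred_eq]
        rw [hout]
        refine ⟨?_, hω.2⟩
        have : Function.minimalPeriod (u • ·) ω = 1 :=
          Function.minimalPeriod_eq_one_iff_isFixedPt.mpr hfixω
        rw [this]; exact odd_one
      · rintro ⟨q, hq, rfl⟩
        simp only [Finset.coe_filter, Finset.mem_univ, true_and, Set.mem_ofPred_eq] at hq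
        refine ⟨?_, hq.2⟩
        obtain ⟨k, hk⟩ := hq.1
        have hmem := QuotientGroup.out_conj_pow_minimalPeriod_mem H u q.out
        have h1 : u ^ Function.minimalPeriod (u • ·) q.out = u := by
          rw [hk, pow_succ, pow_mul, hy2, one_pow, one_mul]
        rwa [h1] at hmem
    rw [hX, Set.ncard_image_of_injective _ Quotient.out_injective]
  rw [hXcard] at htr1
  -- X has even cardinality
  have hXeven : Even X.ncard := by
    rcases Nat.even_or_odd X.ncard with h | h
    · exact h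
    · exfalso
      obtain ⟨k, hk⟩ := h
      rw [hk, pow_succ, pow_mul, hz2, one_pow, one_mul] at htr1
      exact hz1 htr1
  -- the base coset
  let ω0 : G ⧸ H := ((1 : G) : G ⧸ H)
  have hrep : ∀ ω : G ⧸ H, ∀ g : G, (g : G ⧸ H) = ω →
      ((ω.out⁻¹ * u * ω.out ∈ H ↔ g⁻¹ * u * g ∈ H) ∧
       (ω.out⁻¹ * u * ω.out ∈ K ↔ g⁻¹ * u * g ∈ K)) := by
    intro ω g hg
    obtain ⟨h, hh⟩ := QuotientGroup.mk_out_eq_mul H g
    rw [← hg, hh]
    exact ⟨hPH1 g h h.2, hPT1 g h h.2⟩
  have hω0X : ω0 ∈ X := by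
    obtain ⟨h1, h2⟩ := hrep ω0 1 rfl
    constructor
    · rw [h1]; simpa using huH
    · rw [h2]; simpa using huK
  -- X minus the base coset
  let X' : Set (G ⧸ H) := X \ {ω0}
  have hX'even : Even X'.ncard := by
    apply even_ncard_of_no_fixed (R := P) hP X'
    · -- invariance
      rintro r ω ⟨hω, hω0⟩
      have h1 : r.1 • ω = ((r.1 * ω.out : G) : G ⧸ H) := by
        conv_lhs => rw [← QuotientGroup.out_eq' ω]
        rfl
      refine ⟨?_, ?_⟩
      · obtain ⟨e1, e2⟩ := hrep (r.1 • ω) (r.1 * ω.out) h1.symm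
        change (r.1 • ω).out⁻¹ * u * (r.1 • ω).out ∈ H ∧ (r.1 • ω).out⁻¹ * u * (r.1 • ω).out ∉ K
        rw [e1, e2, hPT2 _ _ (hPu r.1 r.2)]
        exact hω
      · intro hcontra
        apply hω0
        rw [Set.mem_singleton_iff] at hcontra ⊢
        have h2 : r.1 • ω0 = ω0 := by
          change r.1 • ((1 : G) : G ⧸ H) = ((1 : G) : G ⧸ H)
          rw [MulAction.Quotient.smul_mk, QuotientGroup.eq, smul_eq_mul, mul_one, mul_one]
          exact H.inv_mem (hPH r.2)
        have h3 : r.1 • ω = r.1 • ω0 := by rw [h2]; exact hcontra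
        exact smul_left_cancel r.1 h3
    · -- no fixed points
      rintro ω ⟨hω, hω0⟩
      by_contra hall
      push Not at hall
      set g := ω.out with hg
      have hωg : ω = ((g : G) : G ⧸ H) := (QuotientGroup.out_eq' ω).symm
      have hgH : g ∉ H := by
        intro hgH
        apply hω0
        rw [Set.mem_singleton_iff, hωg]
        change ((g : G) : G ⧸ H) = ((1 : G) : G ⧸ H)
        rw [QuotientGroup.eq, mul_one]
        exact H.inv_mem hgH
      obtain ⟨p, hp, hpH⟩ := hcon g hgH hω.1 hω.2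
      apply hpH
      have h1 := hall ⟨p, hp⟩
      change p • ω = ω at h1
      rw [hωg, MulAction.Quotient.smul_mk, eq_comm, QuotientGroup.eq, smul_eq_mul] at h1
      rw [← mul_assoc] at h1
      exact h1
  -- conclusion: |X| = |X'| + 1 is odd
  have hcardX : X.ncard = X'.ncard + 1 := by
    have := Set.ncard_sdiff_singleton_add_one hω0X (Set.toFinite X)
    exact this.symm
  rw [hcardX] at hXeven
  have := hX'even.add_one
  exact (Nat.not_even_iff_odd.mpr this) hXeven

end Cfsg.Agent.Lib.Helper4.TI
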