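import Mathlib
import Cfsg.Agent.Lib.Helper4.LargeExtraP
import Cfsg.Agent.Lib.Helper4.TransferInv
import Cfsg.Agent.Lib.Helper29.ExtraTwo

set_option autoImplicit false

/-!
Large extraspecial subgroups and normal subgroups of index two of the centralizer:
generic lemmas.
-/

namespace Cfsg.Agent.Lib.Helper4.EI

open Cfsg Cfsg.Agent.Lib.Helper4.LXF Cfsg.Agent.Lib.Helper29

variable {G : Type*} [Group G]

theorem mul_mem_iff_of_relIndex_two {K H : Subgroup G} (h : K.relIndex H = 2) {a b : G}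
    (ha : a ∈ H) (hb : b ∈ H) : a * b ∈ K ↔ (a ∈ K ↔ b ∈ K) := by
  have := Subgroup.mul_mem_iff_of_index_two (H := K.subgroupOf H) h (a := ⟨a, ha⟩) (b := ⟨b, hb⟩)
  simpa [Subgroup.mem_subgroupOf] using this

theorem inv_mul_mem_of_relIndex_two {K H : Subgroup G} (h : K.relIndex H = 2) {a b : G}
    (ha : a ∈ H) (hb : b ∈ H) (haK : a ∉ K) (hbK : b ∉ K) : a⁻¹ * b ∈ K := by
  rw [mul_mem_iff_of_relIndex_two h (H.inv_mem ha) hb, inv_mem_iff]
  exact ⟨fun h' => absurd h' haK, fun h' => absurd h' hbK⟩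

theorem comm_mem_of_relIndex_two {K H : Subgroup G} (h : K.relIndex H = 2) {a b : G}
    (ha : a ∈ H) (hb : b ∈ H) : a * b * a⁻¹ * b⁻¹ ∈ K := by
  have e : a * b * a⁻¹ * b⁻¹ = (a * b) * (a⁻¹ * b⁻¹) := by group
  rw [e, mul_mem_iff_of_relIndex_two h (H.mul_mem ha hb)
    (H.mul_mem (H.inv_mem ha) (H.inv_mem hb)),
    mul_mem_iff_of_relIndex_two h ha hb,
    mul_mem_iff_of_relIndex_two h (H.inv_mem ha) (H.inv_mem hb), inv_mem_iff, inv_mem_iff]

/-- twisting a commutator by commuting factors -/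
theorem comm_twist {a b e f : G} (hea : e * a = a * e) (heb : e * b = b * e)
    (hfa : f * a = a * f) (hfb : f * b = b * f) (hef : e * f = f * e) :
    (e * a) * (f * b) * (e * a)⁻¹ * (f * b)⁻¹ = a * b * a⁻¹ * b⁻¹ := by
  have c1 : Commute (e * f) a := Commute.mul_left hea hfa
  have c2 : Commute (e * f) b := Commute.mul_left heb hfb
  have cX : Commute (e * f) (a * b * a⁻¹ * b⁻¹) :=
    ((c1.mul_right c2).mul_right c1.inv_right).mul_right c2.inv_right
  have heb' : e⁻¹ * b⁻¹ = b⁻¹ * e⁻¹ := by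
    have : Commute e b := heb
    exact (this.inv_inv).eq
  calc (e * a) * (f * b) * (e * a)⁻¹ * (f * b)⁻¹
      = e * (a * f) * b * a⁻¹ * (e⁻¹ * b⁻¹) * f⁻¹ := by group
    _ = e * (f * a) * b * a⁻¹ * (b⁻¹ * e⁻¹) * f⁻¹ := by rw [hfa, heb']
    _ = (e * f) * (a * b * a⁻¹ * b⁻¹) * e⁻¹ * f⁻¹ := by group
    _ = (a * b * a⁻¹ * b⁻¹) * (e * f) * e⁻¹ * f⁻¹ := by rw [cX.eq]
    _ = (a * b * a⁻¹ * b⁻¹) * (f * e) * e⁻¹ * f⁻¹ := by rw [hef]
    _ = a * b * a⁻¹ * b⁻¹ := by group

/-- the centralizer of a non-commuting pair in a large extraspecial group is nonabelian -/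
theorem exists_not_comm_pairCent {P : Type*} [Group P] [Finite P] {z : P} (h : IsE2 P z)
    (hc : 32 ≤ Nat.card P) {s t : P} (hst : s * t ≠ t * s) :
    ∃ a b : P, a ∈ pairCent s t ∧ b ∈ pairCent s t ∧ a * b ≠ b * a := by
  by_contra hcon
  push Not at hcon
  have hE := h.pairCent_isE2 hst
  have hall : ∀ w : pairCent s t, w = 1 ∨ w = ⟨z, h.z_mem_pairCent s t⟩ := by
    intro w
    apply hE.all
    rw [Subgroup.mem_center_iff]
    intro g
    apply Subtype.ext
    exact hcon g.1 w.1 g.2 w.2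
  have hsub : ((pairCent s t : Subgroup P) : Set P) ⊆ ({1, z} : Set P) := by
    intro w hw
    rcases hall ⟨w, hw⟩ with e | e
    · left; exact congrArg Subtype.val e
    · right; exact congrArg Subtype.val e
  have h1 : Nat.card (pairCent s t) ≤ 2 := by
    have e : Nat.card (pairCent s t) = ((pairCent s t : Subgroup P) : Set P).ncard := rfl
    rw [e]
    calc ((pairCent s t : Subgroup P) : Set P).ncard ≤ ({1, z} : Set P).ncard :=
          Set.ncard_le_ncard hsub (Set.toFinite _)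
      _ ≤ 2 := by
        have := Set.ncard_insert_le (1 : P) ({z} : Set P)
        rw [Set.ncard_singleton] at this
        exact this
  have h2 := h.card_eq_four_mul hst
  omega

/-- an element of order four in the centralizer of a non-commuting pair -/
theorem exists_sq_pairCent {P : Type*} [Group P] [Finite P] {z : P} (h : IsE2 P z)
    (hc : 32 ≤ Nat.card P) {s t : P} (hst : s * t ≠ t * s) :
    ∃ y : P, y ∈ pairCent s t ∧ y * y = z := by
  obtain ⟨a, b, ha, hb, hab⟩ := exists_not_comm_pairCent h hc hst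
  rcases h.sq_cases a with ea | ea
  · rcases h.sq_cases b with eb | eb
    · refine ⟨a * b, (pairCent s t).mul_mem ha hb, ?_⟩
      rw [h.mul_sq_of_not_comm hab, ea, eb]
      group
    · exact ⟨b, hb, eb⟩
  · exact ⟨a, ha, ea⟩

end Cfsg.Agent.Lib.Helper4.EI
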