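import Mathlib
import Cfsg.Agent.Lib.Helper4.ExtraInv

set_option autoImplicit false
set_option maxHeartbeats 1000000

/-!
Large extraspecial `E = O_2(C_G(z))` (order at least `32`, `C_G(E) ≤ E`) in a group `G = O^2(G)`
lies in every normal subgroup of index two of `C_G(z)`.
-/

namespace Cfsg.Agent.Lib.Helper4.EI

open Cfsg Cfsg.Agent.Lib.Helper4.LXF Cfsg.Agent.Lib.Helper29
open scoped commutatorElement

variable {G : Type*} [Group G]

theorem le_index_two [Finite G] (hres : Cfsg.pResidual 2 G = ⊤) (z : G) (hz : orderOf z = 2)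
    (E : Subgroup G)
    (hEn : Subgroup.centralizer ({z} : Set G) ≤ Subgroup.normalizer (E : Set G))
    (hEz : ∀ q ∈ E, q * z = z * q)
    (hext : Cfsg.IsExtraspecial 2 ↥E) (hcent : Subgroup.centralizer (E : Set G) ≤ E)
    (hcard : 32 ≤ Nat.card ↥E)
    (K : Subgroup G) (hKH : K ≤ Subgroup.centralizer ({z} : Set G))
    (hKn : ∀ h ∈ Subgroup.centralizer ({z} : Set G), ∀ k ∈ K, h * k * h⁻¹ ∈ K)
    (hKi : K.relIndex (Subgroup.centralizer ({z} : Set G)) = 2) : E ≤ K := by
  classical
  set H := Subgroup.centralizer ({z} : Set G) with hH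
  have memH : ∀ g : G, g ∈ H ↔ g * z = z * g := by
    intro g; rw [hH, Subgroup.mem_centralizer_singleton_iff]
  set Q := famOf E z with hQdef
  have hQ : Fam Q := famOf_fam E z hEn hEz
  have hQz : Q z = E := famOf_self E z hEn
  have hLE : LE Q z := LE.of_hyp hQ hz (by rw [hQz]; exact hext) (by rw [hQz]; exact hcent)
  have hzE : z ∈ E := by have := hLE.mem; rwa [hQz] at this
  have hzz : z * z = 1 := hLE.sq
  have hz1 : z ≠ 1 := hLE.ne
  have hzinv : z⁻¹ = z := hLE.inv_eq
  have hcomm : ∀ a ∈ E, ∀ b ∈ E, a * b * a⁻¹ * b⁻¹ = 1 ∨ a * b * a⁻¹ * b⁻¹ = z := by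
    intro a ha b hb
    exact hLE.comm a (by rw [hQz]; exact ha) b (by rw [hQz]; exact hb)
  have hsqr : ∀ a ∈ E, a * a = 1 ∨ a * a = z := by
    intro a ha
    exact hLE.sqr a (by rw [hQz]; exact ha)
  have hcen : ∀ a : G, (∀ b ∈ E, a * b = b * a) → a = 1 ∨ a = z := by
    intro a ha
    exact hLE.cent a (by intro b hb; rw [hQz] at hb; exact ha b hb)
  have hEH : E ≤ H := fun q hq => (memH q).2 (hEz q hq)
  have hnorm : ∀ h ∈ H, ∀ e ∈ E, h * e * h⁻¹ ∈ E := by
    intro h hh e he
    have := hEn hh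
    rw [Subgroup.mem_normalizer_iff] at this
    exact (this e).1 he
  have hzH : z ∈ H := hEH hzE
  -- commutator alternatives
  have hcomm' : ∀ a ∈ E, ∀ b ∈ E, a * b ≠ b * a → a * b * a⁻¹ * b⁻¹ = z := by
    intro a ha b hb hne
    rcases hcomm a ha b hb with e | e
    · exfalso; apply hne
      calc a * b = (a * b * a⁻¹ * b⁻¹) * (b * a) := by group
        _ = b * a := by rw [e, one_mul]
    · exact e
  -- IsE2 structure on E
  have hE2 : IsE2 ↥E ⟨z, hzE⟩ := by
    have hcenE : (⟨z, hzE⟩ : ↥E) ∈ Subgroup.center ↥E := by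
      rw [Subgroup.mem_center_iff]
      intro b
      apply Subtype.ext
      exact hEz b.1 b.2
    refine ⟨hcenE, fun e => hz1 (congrArg Subtype.val e), ?_, ?_⟩
    · intro w hw
      have : ∀ b ∈ E, (w : G) * b = b * w := by
        intro b hb
        have := Subgroup.mem_center_iff.1 hw ⟨b, hb⟩
        exact (congrArg Subtype.val this).symm
      rcases hcen w this with e | e
      · left; exact Subtype.ext e
      · right; exact Subtype.ext e
    · rw [commutator_def, Subgroup.commutator_le]
      intro g1 _ g2 _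
      have e : ⁅g1, g2⁆ = g1 * g2 * g1⁻¹ * g2⁻¹ := commutatorElement_def g1 g2
      rcases hcomm g1 g1.2 g2 g2.2 with e' | e'
      · have : ⁅g1, g2⁆ = 1 := by rw [e]; exact Subtype.ext e'
        rw [this]; exact Subgroup.one_mem _
      · have : ⁅g1, g2⁆ = ⟨z, hzE⟩ := by rw [e]; exact Subtype.ext e'
        rw [this]; exact hcenE
  -- start of the argument
  intro x hxE
  by_contra hxK
  have hxH : x ∈ H := hEH hxE
  -- z lies in K
  have hzK : z ∈ K := by
    have hx1 : x ≠ 1 := fun e => hxK (by rw [e]; exact K.one_mem)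
    by_cases hxz : x = z
    · -- then use another element: E has more than two elements
      exfalso
      -- there is an element of E outside {1, z}
      have : ∃ y ∈ E, y ≠ 1 ∧ y ≠ z := by
        by_contra hno
        push Not at hno
        have hsub : ((E : Subgroup G) : Set G) ⊆ ({1, z} : Set G) := by
          intro w hw
          by_cases h1 : w = 1
          · left; exact h1
          · right; exact hno w hw h1
        have e : Nat.card ↥E = ((E : Subgroup G) : Set G).ncard := rfl
        have h2 : ((E : Subgroup G) : Set G).ncard ≤ 2 := by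
          calc ((E : Subgroup G) : Set G).ncard ≤ ({1, z} : Set G).ncard :=
                Set.ncard_le_ncard hsub (Set.toFinite _)
            _ ≤ 2 := by
              have := Set.ncard_insert_le (1 : G) ({z} : Set G)
              rw [Set.ncard_singleton] at this
              exact this
        omega
      obtain ⟨y, hyE, hy1, hyz⟩ := this
      have : ¬ ∀ b ∈ E, y * b = b * y := by
        intro hall
        rcases hcen y hall with e | e
        · exact hy1 e
        · exact hyz e
      push Not at this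
      obtain ⟨b, hbE, hb⟩ := this
      have hc := hcomm' y hyE b hbE hb
      have := comm_mem_of_relIndex_two hKi (hEH hyE) (hEH hbE)
      rw [hc] at this
      apply hxK; rw [hxz]; exact this
    · have : ¬ ∀ b ∈ E, x * b = b * x := by
        intro hall
        rcases hcen x hall with e | e
        · exact hx1 e
        · exact hxz e
      push Not at this
      obtain ⟨b, hbE, hb⟩ := this
      have hc := hcomm' x hxE b hbE hb
      have := comm_mem_of_relIndex_two hKi hxH (hEH hbE)
      rwa [hc] at this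
  -- the element v
  have hU : E ⊓ K ≤ Q z := by rw [hQz]; exact inf_le_left
  obtain ⟨v, hvQ, hvU, hvx⟩ := hLE.exists_cent_move hQ (E ⊓ K) hU
    (Subgroup.mem_inf.2 ⟨hzE, hzK⟩) (by rw [hQz]; exact hxE)
    (fun h => hxK (Subgroup.mem_inf.1 h).2)
  have hvE : v ∈ E := by rwa [hQz] at hvQ
  have hvx' : v * x ≠ x * v := by
    intro e
    apply hz1
    calc z = v * x * v⁻¹ * x⁻¹ := hvx.symm
      _ = (x * v) * v⁻¹ * x⁻¹ := by rw [e]
      _ = 1 := by group
  -- membership in K for elements of E is commutation with v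
  have hv4 : ∀ y ∈ E, (y ∈ K ↔ y * v = v * y) := by
    intro y hy
    constructor
    · intro hyK
      exact hvU y (Subgroup.mem_inf.2 ⟨hy, hyK⟩)
    · intro hyv
      by_contra hyK
      have h1 := inv_mul_mem_of_relIndex_two hKi hxH (hEH hy) hxK hyK
      have h2 := hvU (x⁻¹ * y) (Subgroup.mem_inf.2 ⟨E.mul_mem (E.inv_mem hxE) hy, h1⟩)
      apply hvx'
      have hc1 : Commute y v := hyv
      have hc2 : Commute (x⁻¹ * y) v := h2
      have hc3 : Commute (y * (x⁻¹ * y)⁻¹) v := hc1.mul_left hc2.inv_left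
      have e : y * (x⁻¹ * y)⁻¹ = x := by group
      rw [e] at hc3
      exact hc3.eq.symm
  -- every element of E is in K or in x K
  have hsplit : ∀ y ∈ E, ∀ w : G, (∀ e ∈ E ⊓ K, w * e = e * w) → w * x = x * w → w * y = y * w := by
    intro y hy w hw hwx
    by_cases hyK : y ∈ K
    · exact hw y (Subgroup.mem_inf.2 ⟨hy, hyK⟩)
    · have h1 := inv_mul_mem_of_relIndex_two hKi hxH (hEH hy) hxK hyK
      have h2 := hw (x⁻¹ * y) (Subgroup.mem_inf.2 ⟨E.mul_mem (E.inv_mem hxE) hy, h1⟩)
      have hc1 : Commute w x := hwx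
      have hc2 : Commute w (x⁻¹ * y) := h2
      have hc3 : Commute w (x * (x⁻¹ * y)) := hc1.mul_right hc2
      have e : x * (x⁻¹ * y) = y := by group
      rw [e] at hc3
      exact hc3.eq
  -- H-invariance of {v, v z}
  have hv5 : ∀ h ∈ H, h * v * h⁻¹ = v ∨ h * v * h⁻¹ = v * z := by
    intro h hh
    have hwE : h * v * h⁻¹ ∈ E := hnorm h hh v hvE
    have hhinv : h⁻¹ ∈ H := H.inv_mem hh
    have hwU : ∀ e ∈ E ⊓ K, (h * v * h⁻¹) * e = e * (h * v * h⁻¹) := by
      intro e he
      have he' : h⁻¹ * e * h ∈ E ⊓ K := by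
        have h1 := hnorm h⁻¹ hhinv e (Subgroup.mem_inf.1 he).1
        have h2 := hKn h⁻¹ hhinv e (Subgroup.mem_inf.1 he).2
        rw [inv_inv] at h1 h2
        exact Subgroup.mem_inf.2 ⟨h1, h2⟩
      have := hvU _ he'
      calc (h * v * h⁻¹) * e = h * (v * (h⁻¹ * e * h)) * h⁻¹ := by group
        _ = h * ((h⁻¹ * e * h) * v) * h⁻¹ := by rw [this]
        _ = e * (h * v * h⁻¹) := by group
    by_cases hwx : (h * v * h⁻¹) * x = x * (h * v * h⁻¹)
    · exfalso
      have hall : ∀ b ∈ E, (h * v * h⁻¹) * b = b * (h * v * h⁻¹) :=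
        fun b hb => hsplit b hb _ hwU hwx
      have hvz : v = 1 ∨ v = z := by
        rcases hcen _ hall with e | e
        · left
          calc v = h⁻¹ * (h * v * h⁻¹) * h := by group
            _ = 1 := by rw [e]; group
        · right
          have hhz := (memH h).1 hh
          calc v = h⁻¹ * (h * v * h⁻¹) * h := by group
            _ = h⁻¹ * z * h := by rw [e]
            _ = h⁻¹ * (z * h) := by group
            _ = h⁻¹ * (h * z) := by rw [hhz]
            _ = z := by group
      rcases hvz with e | e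
      · apply hvx'; rw [e]; group
      · apply hvx'; rw [e]; exact (hEz x hxE).symm
    · have hcw := hcomm' _ hwE x hxE hwx
      -- t = v⁻¹ w commutes with x
      have htx : (v⁻¹ * (h * v * h⁻¹)) * x = x * (v⁻¹ * (h * v * h⁻¹)) := by
        have e1 : (h * v * h⁻¹) * x = z * x * (h * v * h⁻¹) := by
          calc (h * v * h⁻¹) * x
              = ((h * v * h⁻¹) * x * (h * v * h⁻¹)⁻¹ * x⁻¹) * x * (h * v * h⁻¹) := by group
            _ = z * x * (h * v * h⁻¹) := by rw [hcw]
        have e2 : v * x = z * x * v := by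
          calc v * x = (v * x * v⁻¹ * x⁻¹) * x * v := by group
            _ = z * x * v := by rw [hvx]
        have e3 : v⁻¹ * (z * x) = x * v⁻¹ := by
          calc v⁻¹ * (z * x) = v⁻¹ * (z * x * v) * v⁻¹ := by group
            _ = v⁻¹ * (v * x) * v⁻¹ := by rw [e2]
            _ = x * v⁻¹ := by group
        calc (v⁻¹ * (h * v * h⁻¹)) * x = v⁻¹ * ((h * v * h⁻¹) * x) := by group
          _ = v⁻¹ * (z * x * (h * v * h⁻¹)) := by rw [e1]
          _ = (v⁻¹ * (z * x)) * (h * v * h⁻¹) := by group
          _ = (x * v⁻¹) * (h * v * h⁻¹) := by rw [e3]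
          _ = x * (v⁻¹ * (h * v * h⁻¹)) := by group
      have htU : ∀ e ∈ E ⊓ K, (v⁻¹ * (h * v * h⁻¹)) * e = e * (v⁻¹ * (h * v * h⁻¹)) := by
        intro e he
        have c1 : Commute (h * v * h⁻¹) e := hwU e he
        have c2 : Commute v e := (hvU e he).symm
        exact (c2.inv_left.mul_left c1).eq
      have hall : ∀ b ∈ E, (v⁻¹ * (h * v * h⁻¹)) * b = b * (v⁻¹ * (h * v * h⁻¹)) :=
        fun b hb => hsplit b hb _ htU htx
      rcases hcen _ hall with e | e
      · left
        calc h * v * h⁻¹ = v * (v⁻¹ * (h * v * h⁻¹)) := by group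
          _ = v := by rw [e, mul_one]
      · right
        calc h * v * h⁻¹ = v * (v⁻¹ * (h * v * h⁻¹)) := by group
          _ = v * z := by rw [e]
  -- an involution u of E outside K
  have hu : ∃ u ∈ E, u * u = 1 ∧ u ∉ K := by
    rcases hsqr x hxE with e | e
    · exact ⟨x, hxE, e, hxK⟩
    · have hne : (⟨x, hxE⟩ : ↥E) * ⟨v, hvE⟩ ≠ ⟨v, hvE⟩ * ⟨x, hxE⟩ := by
        intro e'
        apply hvx'
        exact (congrArg Subtype.val e').symm
      obtain ⟨y, hy, hyy⟩ := exists_sq_pairCent hE2 hcard hne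
      obtain ⟨hy1, hy2⟩ := mem_pairCent.mp hy
      have hyx : (y : G) * x = x * y := congrArg Subtype.val hy1
      have hyv : (y : G) * v = v * y := congrArg Subtype.val hy2
      have hyy' : (y : G) * y = z := congrArg Subtype.val hyy
      have hyK : (y : G) ∈ K := (hv4 y y.2).2 hyv
      refine ⟨x * y, E.mul_mem hxE y.2, ?_, ?_⟩
      · calc x * y * (x * y) = x * (y * x) * y := by group
          _ = x * (x * y) * y := by rw [hyx]
          _ = (x * x) * (y * y) := by group
          _ = 1 := by rw [e, hyy', hzz]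
      · intro hmem
        apply hxK
        have := K.mul_mem hmem (K.inv_mem hyK)
        have e' : x * y * (y : G)⁻¹ = x := by group
        rwa [e'] at this
  obtain ⟨u, huE, huu, huK⟩ := hu
  have huH : u ∈ H := hEH huE
  have huv : u * v ≠ v * u := fun e => huK ((hv4 u huE).2 e)
  have hu1 : u ≠ 1 := fun e => huK (by rw [e]; exact K.one_mem)
  have huz : u ≠ z := fun e => huK (by rw [e]; exact hzK)
  have huinv : u⁻¹ = u := inv_eq_of_mul_eq_one_right huu
  -- non-commuting a, b in C_E(u)
  have hab : ∃ a ∈ E, ∃ b ∈ E, a * u = u * a ∧ b * u = u * b ∧ a * b * a⁻¹ * b⁻¹ = z := by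
    have hne : (⟨u, huE⟩ : ↥E) * ⟨v, hvE⟩ ≠ ⟨v, hvE⟩ * ⟨u, huE⟩ := by
      intro e'
      apply huv
      exact congrArg Subtype.val e'
    obtain ⟨a, b, ha, hb, hab⟩ := exists_not_comm_pairCent hE2 hcard hne
    obtain ⟨ha1, _⟩ := mem_pairCent.mp ha
    obtain ⟨hb1, _⟩ := mem_pairCent.mp hb
    refine ⟨a, a.2, b, b.2, congrArg Subtype.val ha1, congrArg Subtype.val hb1, ?_⟩
    apply hcomm' a a.2 b b.2
    intro e'
    apply hab
    exact Subtype.ext e'
  obtain ⟨a, haE, b, hbE, hau, hbu, habz⟩ := hab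
  -- apply the transfer lemma
  set P : Subgroup G := E ⊓ Subgroup.centralizer ({u} : Set G) with hPdef
  have hPmem : ∀ p : G, p ∈ P ↔ p ∈ E ∧ p * u = u * p := by
    intro p
    rw [hPdef, Subgroup.mem_inf, Subgroup.mem_centralizer_singleton_iff]
  have hPp : IsPGroup 2 ↥P := hext.1.1.to_le inf_le_left
  obtain ⟨k, hkH, htH, htK, hkP⟩ := TI.exists_fixed_coset hres H K hKH hKn hKi u huu huH huK P hPp
    (fun p hp => hEH ((hPmem p).1 hp).1) (fun p hp => ((hPmem p).1 hp).2)
  -- z' = k z k⁻¹
  have hz'P : ∀ p ∈ P, p * (k * z * k⁻¹) = (k * z * k⁻¹) * p := by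
    intro p hp
    have := (memH _).1 (hkP p hp)
    calc p * (k * z * k⁻¹) = k * ((k⁻¹ * p * k) * z) * k⁻¹ := by group
      _ = k * (z * (k⁻¹ * p * k)) * k⁻¹ := by rw [this]
      _ = (k * z * k⁻¹) * p := by group
  have hzP : z ∈ P := (hPmem z).2 ⟨hzE, (hEz u huE).symm⟩
  have hz'H : k * z * k⁻¹ ∈ H := (memH _).2 (hz'P z hzP).symm
  have hz'ne : k * z * k⁻¹ ≠ z := by
    intro e
    apply hkH
    rw [memH]
    calc k * z = (k * z * k⁻¹) * k := by group
      _ = z * k := by rw [e]
  have hz'1 : k * z * k⁻¹ ≠ 1 := by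
    intro e
    apply hz1
    calc z = k⁻¹ * (k * z * k⁻¹) * k := by group
      _ = 1 := by rw [e]; group
  -- an element g of E moving u
  have hg : ∃ g ∈ E, g * u * g⁻¹ * u⁻¹ = z := by
    have : ¬ ∀ b ∈ E, u * b = b * u := by
      intro hall
      rcases hcen u hall with e | e
      · exact hu1 e
      · exact huz e
    push Not at this
    obtain ⟨g, hgE, hg⟩ := this
    exact ⟨g, hgE, hcomm' g hgE u huE (fun e => hg e.symm)⟩
  obtain ⟨g, hgE, hgu⟩ := hg
  have hgu' : g * u = z * u * g := by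
    calc g * u = (g * u * g⁻¹ * u⁻¹) * u * g := by group
      _ = z * u * g := by rw [hgu]
  -- every element of E is in P or in g P
  have hsplitP : ∀ w : G, (∀ p ∈ P, w * p = p * w) → w * g = g * w → ∀ e ∈ E, w * e = e * w := by
    intro w hwP hwg e he
    by_cases heu : e * u = u * e
    · exact hwP e ((hPmem e).2 ⟨he, heu⟩)
    · have hc := hcomm' e he u huE heu
      have heu' : e * u = z * u * e := by
        calc e * u = (e * u * e⁻¹ * u⁻¹) * u * e := by group
          _ = z * u * e := by rw [hc]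
      have hgeP : g⁻¹ * e ∈ P := by
        rw [hPmem]
        refine ⟨E.mul_mem (E.inv_mem hgE) he, ?_⟩
        have e1 : g⁻¹ * (z * u) = u * g⁻¹ := by
          calc g⁻¹ * (z * u) = g⁻¹ * (z * u * g) * g⁻¹ := by group
            _ = g⁻¹ * (g * u) * g⁻¹ := by rw [hgu']
            _ = u * g⁻¹ := by group
        calc g⁻¹ * e * u = g⁻¹ * (e * u) := by group
          _ = g⁻¹ * (z * u * e) := by rw [heu']
          _ = (g⁻¹ * (z * u)) * e := by group
          _ = (u * g⁻¹) * e := by rw [e1]
          _ = u * (g⁻¹ * e) := by group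
      have c1 : Commute w g := hwg
      have c2 : Commute w (g⁻¹ * e) := hwP _ hgeP
      have c3 : Commute w (g * (g⁻¹ * e)) := c1.mul_right c2
      have e' : g * (g⁻¹ * e) = e := by group
      rw [e'] at c3
      exact c3.eq
  -- z' is u or u z
  have hz'cases : k * z * k⁻¹ = u ∨ k * z * k⁻¹ = u * z := by
    set h := k * z * k⁻¹ with hh
    have hg'E : h * g * h⁻¹ ∈ E := hnorm h hz'H g hgE
    -- s = g⁻¹ g' centralizes P
    have hconjp : ∀ p ∈ P, h * p * h⁻¹ = p := by
      intro p hp
      have := hz'P p hp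
      calc h * p * h⁻¹ = (p * h) * h⁻¹ := by rw [this]
        _ = p := by group
    have hhz : h * z * h⁻¹ = z := hconjp z hzP
    have hsP : ∀ p ∈ E, p * u = u * p → p * (g⁻¹ * (h * g * h⁻¹)) = (g⁻¹ * (h * g * h⁻¹)) * p := by
      intro p hpE hpu
      have hpP : p ∈ P := (hPmem p).2 ⟨hpE, hpu⟩
      -- conjugating the commutator of g and p by h
      have e1 : (h * g * h⁻¹) * p * (h * g * h⁻¹)⁻¹ * p⁻¹ = g * p * g⁻¹ * p⁻¹ := by
        have hph : p * h = h * p := hz'P p hpP
        have e0' : h⁻¹ * p * h = p := by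
          calc h⁻¹ * p * h = h⁻¹ * (p * h) := by group
            _ = h⁻¹ * (h * p) := by rw [hph]
            _ = p := by group
        have e0'' : p * h⁻¹ * p⁻¹ = h⁻¹ := by
          calc p * h⁻¹ * p⁻¹ = h⁻¹ * (h * p) * h⁻¹ * p⁻¹ := by group
            _ = h⁻¹ * (p * h) * h⁻¹ * p⁻¹ := by rw [hph]
            _ = h⁻¹ := by group
        calc (h * g * h⁻¹) * p * (h * g * h⁻¹)⁻¹ * p⁻¹
            = h * g * (h⁻¹ * p * h) * g⁻¹ * h⁻¹ * p⁻¹ := by group
          _ = h * g * p * g⁻¹ * h⁻¹ * p⁻¹ := by rw [e0']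
          _ = h * (g * p * g⁻¹ * p⁻¹) * (p * h⁻¹ * p⁻¹) := by group
          _ = h * (g * p * g⁻¹ * p⁻¹) * h⁻¹ := by rw [e0'']
          _ = g * p * g⁻¹ * p⁻¹ := by
            rcases hcomm g hgE p hpE with e | e
            · rw [e]; group
            · rw [e]; exact hhz
      have e2 : (h * g * h⁻¹) * p * (h * g * h⁻¹)⁻¹ = g * p * g⁻¹ := by
        calc (h * g * h⁻¹) * p * (h * g * h⁻¹)⁻¹
            = ((h * g * h⁻¹) * p * (h * g * h⁻¹)⁻¹ * p⁻¹) * p := by group
          _ = (g * p * g⁻¹ * p⁻¹) * p := by rw [e1]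
          _ = g * p * g⁻¹ := by group
      calc p * (g⁻¹ * (h * g * h⁻¹)) = g⁻¹ * (g * p * g⁻¹) * (h * g * h⁻¹) := by group
        _ = g⁻¹ * ((h * g * h⁻¹) * p * (h * g * h⁻¹)⁻¹) * (h * g * h⁻¹) := by rw [e2]
        _ = (g⁻¹ * (h * g * h⁻¹)) * p := by group
    have hsE : g⁻¹ * (h * g * h⁻¹) ∈ E := E.mul_mem (E.inv_mem hgE) hg'E
    have hdc := hLE.double_cent hQ (z2 := u) (by rw [hQz]; exact huE) hu1 huz
      (y := g⁻¹ * (h * g * h⁻¹)) (by rw [hQz]; exact hsE)
      (by intro s hs hsu; rw [hQz] at hs; exact hsP s hs hsu)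
    rw [huinv] at hdc
    -- squares
    have hsq : (h * g * h⁻¹) * (h * g * h⁻¹) = g * g := by
      have : (h * g * h⁻¹) * (h * g * h⁻¹) = h * (g * g) * h⁻¹ := by group
      rw [this]
      rcases hsqr g hgE with e | e
      · rw [e]; group
      · rw [e]; exact hhz
    have hguu : (g * u) * (g * u) = z * (g * g) := by
      calc (g * u) * (g * u) = g * u * (g * u) := rfl
        _ = g * u * (z * u * g) := by rw [hgu']
        _ = g * (u * z) * u * g := by group
        _ = g * (z * u) * u * g := by rw [hEz u huE]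
        _ = (g * z) * (u * u) * g := by group
        _ = (z * g) * (u * u) * g := by rw [hEz g hgE]
        _ = z * (g * g) := by rw [huu]; group
    have hgsq : g * g * z ≠ g * g := by
      intro e
      apply hz1
      calc z = (g * g)⁻¹ * (g * g * z) := by group
        _ = 1 := by rw [e]; group
    have hcase : g⁻¹ * (h * g * h⁻¹) = 1 ∨ g⁻¹ * (h * g * h⁻¹) = z := by
      rcases hdc with e | e | e | e
      · exact Or.inl e
      · exact Or.inr e
      · exfalso
        have hg' : h * g * h⁻¹ = g * u := by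
          calc h * g * h⁻¹ = g * (g⁻¹ * (h * g * h⁻¹)) := by group
            _ = g * u := by rw [e]
        rw [hg', hguu] at hsq
        apply hgsq
        rw [hEz (g * g) (E.mul_mem hgE hgE)]
        exact hsq
      · exfalso
        have hg' : h * g * h⁻¹ = g * (z * u) := by
          calc h * g * h⁻¹ = g * (g⁻¹ * (h * g * h⁻¹)) := by group
            _ = g * (z * u) := by rw [e]
        have e3 : (g * (z * u)) * (g * (z * u)) = z * (g * g) := by
          calc (g * (z * u)) * (g * (z * u)) = (g * z) * u * (g * z) * u := by group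
            _ = (z * g) * u * (z * g) * u := by rw [hEz g hgE]
            _ = z * (g * (u * z) * g * u) := by group
            _ = z * (g * (z * u) * g * u) := by rw [hEz u huE]
            _ = z * ((g * z) * ((u * g) * u)) := by group
            _ = z * ((z * g) * ((u * g) * u)) := by rw [hEz g hgE]
            _ = (z * z) * ((g * u) * (g * u)) := by group
            _ = z * (g * g) := by rw [hzz, hguu]; group
        rw [hg', e3] at hsq
        apply hgsq
        rw [hEz (g * g) (E.mul_mem hgE hgE)]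
        exact hsq
    rcases hcase with e | e
    · -- h commutes with g, hence centralizes E
      exfalso
      have hhg : h * g = g * h := by
        have : h * g * h⁻¹ = g := by
          calc h * g * h⁻¹ = g * (g⁻¹ * (h * g * h⁻¹)) := by group
            _ = g := by rw [e, mul_one]
        calc h * g = (h * g * h⁻¹) * h := by group
          _ = g * h := by rw [this]
      have hall := hsplitP h (fun p hp => (hz'P p hp).symm) hhg
      rcases hcen h hall with e' | e'
      · exact hz'1 e'
      · exact hz'ne e'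
    · -- u h commutes with g
      have hhg : h * g * h⁻¹ = g * z := by
        calc h * g * h⁻¹ = g * (g⁻¹ * (h * g * h⁻¹)) := by group
          _ = g * z := by rw [e]
      have hug : u * g = z * g * u := by
        -- from g u = z u g
        calc u * g = z * (z * u * g) := by rw [← mul_assoc, ← mul_assoc, hzz, one_mul]
          _ = z * (g * u) := by rw [hgu']
          _ = z * g * u := by group
      have huhg : (u * h) * g = g * (u * h) := by
        calc (u * h) * g = u * (h * g * h⁻¹) * h := by group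
          _ = u * (g * z) * h := by rw [hhg]
          _ = (u * g) * z * h := by group
          _ = (z * g * u) * z * h := by rw [hug]
          _ = z * g * (u * z) * h := by group
          _ = z * g * (z * u) * h := by rw [hEz u huE]
          _ = (z * g) * z * (u * h) := by group
          _ = (g * z) * z * (u * h) := by rw [hEz g hgE]
          _ = g * (z * z) * (u * h) := by group
          _ = g * (u * h) := by rw [hzz, mul_one]
      have huhP : ∀ p ∈ P, (u * h) * p = p * (u * h) := by
        intro p hp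
        have c1 : Commute u p := ((hPmem p).1 hp).2.symm
        have c2 : Commute h p := (hz'P p hp).symm
        exact (c1.mul_left c2).eq
      have hall := hsplitP (u * h) huhP huhg
      rcases hcen (u * h) hall with e' | e'
      · left
        calc h = u⁻¹ * (u * h) := by group
          _ = u := by rw [e', mul_one, huinv]
      · right
        calc h = u⁻¹ * (u * h) := by group
          _ = u * z := by rw [e', huinv]
  -- the case z' = u is impossible
  have hz'uz : k * z * k⁻¹ = u * z := by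
    rcases hz'cases with e | e
    · exfalso
      apply htK
      have : k⁻¹ * u * k = z := by
        rw [← e]; group
      rw [this]; exact hzK
    · exact e
  -- z'' = k⁻¹ z k lies in E but not in K
  have hz''K : k⁻¹ * z * k ∉ K := by
    intro hmem
    apply htK
    have e : k⁻¹ * u * k = z * (k⁻¹ * z * k) := by
      have hu' : u = (k * z * k⁻¹) * z := by
        rw [hz'uz, mul_assoc, hzz, mul_one]
      calc k⁻¹ * u * k = k⁻¹ * ((k * z * k⁻¹) * z) * k := by rw [← hu']
        _ = z * (k⁻¹ * z * k) := by group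
    rw [e]
    exact K.mul_mem hzK hmem
  have hz''E : k⁻¹ * z * k ∈ E := by
    have hLE' : LE Q (k * z * k⁻¹) := hLE.conj hQ k
    have hc : Nat.card (Q (k * z * k⁻¹)) ≤ Nat.card (Q z) := le_of_eq (card_Q_conj hQ k z)
    have h21 : k * z * k⁻¹ ∈ Q z := by
      rw [hQz, hz'uz]; exact E.mul_mem huE hzE
    have := hLE.symm_mem hQ hLE' hc h21
    rw [mem_Q_conj_iff hQ, hQz] at this
    exact this
  have hz''v : (k⁻¹ * z * k) * v ≠ v * (k⁻¹ * z * k) := fun e => hz''K ((hv4 _ hz''E).2 e)
  -- v' = k v k⁻¹ does not commute with z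
  have hzv' : z * (k * v * k⁻¹) ≠ (k * v * k⁻¹) * z := by
    intro e
    apply hz''v
    calc (k⁻¹ * z * k) * v = k⁻¹ * (z * (k * v * k⁻¹)) * k := by group
      _ = k⁻¹ * ((k * v * k⁻¹) * z) * k := by rw [e]
      _ = v * (k⁻¹ * z * k) := by group
  -- conjugation of a, b by v'
  have htw : ∀ c ∈ E, c * u = u * c → ∃ ε : G, (ε = 1 ∨ ε = u * z) ∧
      (k * v * k⁻¹)⁻¹ * c * (k * v * k⁻¹) = ε * c := by
    intro c hcE hcu
    have hcP : c ∈ P := (hPmem c).2 ⟨hcE, hcu⟩
    rcases hv5 _ (hkP c hcP) with e | e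
    · refine ⟨1, Or.inl rfl, ?_⟩
      have e' : c * (k * v * k⁻¹) = (k * v * k⁻¹) * c := by
        calc c * (k * v * k⁻¹) = k * ((k⁻¹ * c * k) * v * (k⁻¹ * c * k)⁻¹) * k⁻¹ * c := by group
          _ = (k * v * k⁻¹) * c := by rw [e]
      calc (k * v * k⁻¹)⁻¹ * c * (k * v * k⁻¹) = (k * v * k⁻¹)⁻¹ * (c * (k * v * k⁻¹)) := by group
        _ = (k * v * k⁻¹)⁻¹ * ((k * v * k⁻¹) * c) := by rw [e']
        _ = 1 * c := by group
    · refine ⟨u * z, Or.inr rfl, ?_⟩
      have e' : c * (k * v * k⁻¹) = (k * v * k⁻¹) * (u * z) * c := by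
        calc c * (k * v * k⁻¹) = k * ((k⁻¹ * c * k) * v * (k⁻¹ * c * k)⁻¹) * k⁻¹ * c := by group
          _ = k * (v * z) * k⁻¹ * c := by rw [e]
          _ = (k * v * k⁻¹) * (k * z * k⁻¹) * c := by group
          _ = (k * v * k⁻¹) * (u * z) * c := by rw [hz'uz]
      calc (k * v * k⁻¹)⁻¹ * c * (k * v * k⁻¹) = (k * v * k⁻¹)⁻¹ * (c * (k * v * k⁻¹)) := by group
        _ = (k * v * k⁻¹)⁻¹ * ((k * v * k⁻¹) * (u * z) * c) := by rw [e']
        _ = u * z * c := by group
  obtain ⟨εa, hεa, hεa'⟩ := htw a haE hau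
  obtain ⟨εb, hεb, hεb'⟩ := htw b hbE hbu
  have huza : (u * z) * a = a * (u * z) := by
    have c1 : Commute u a := hau.symm
    have c2 : Commute z a := (hEz a haE).symm
    exact (c1.mul_left c2).eq
  have huzb : (u * z) * b = b * (u * z) := by
    have c1 : Commute u b := hbu.symm
    have c2 : Commute z b := (hEz b hbE).symm
    exact (c1.mul_left c2).eq
  have hεaa : εa * a = a * εa := by rcases hεa with e | e <;> rw [e] <;> [group; exact huza]
  have hεab : εa * b = b * εa := by rcases hεa with e | e <;> rw [e] <;> [group; exact huzb]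
  have hεba : εb * a = a * εb := by rcases hεb with e | e <;> rw [e] <;> [group; exact huza]
  have hεbb : εb * b = b * εb := by rcases hεb with e | e <;> rw [e] <;> [group; exact huzb]
  have hεε : εa * εb = εb * εa := by
    rcases hεa with e | e <;> rcases hεb with e' | e' <;> rw [e, e'] <;> simp
  apply hzv'
  have key : (k * v * k⁻¹)⁻¹ * z * (k * v * k⁻¹) = z := by
    calc (k * v * k⁻¹)⁻¹ * z * (k * v * k⁻¹)
        = (k * v * k⁻¹)⁻¹ * (a * b * a⁻¹ * b⁻¹) * (k * v * k⁻¹) := by rw [habz]
      _ = ((k * v * k⁻¹)⁻¹ * a * (k * v * k⁻¹)) * ((k * v * k⁻¹)⁻¹ * b * (k * v * k⁻¹))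
          * ((k * v * k⁻¹)⁻¹ * a * (k * v * k⁻¹))⁻¹
          * ((k * v * k⁻¹)⁻¹ * b * (k * v * k⁻¹))⁻¹ := by group
      _ = (εa * a) * (εb * b) * (εa * a)⁻¹ * (εb * b)⁻¹ := by rw [hεa', hεb']
      _ = a * b * a⁻¹ * b⁻¹ := comm_twist hεaa hεab hεba hεbb hεε
      _ = z := habz
  calc z * (k * v * k⁻¹) = (k * v * k⁻¹) * ((k * v * k⁻¹)⁻¹ * z * (k * v * k⁻¹)) := by group
    _ = (k * v * k⁻¹) * z := by rw [key]

end Cfsg.Agent.Lib.Helper4.EI
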