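import Cfsg.Agent.Lib.Helper6.FH.BDefs

/-! # FH-B4 (helper4): the trace of a Hecke operator is the normalised cell sum of the character -/

set_option autoImplicit false

namespace Cfsg.Agent.Lib.Helper6.FH

open Cfsg Cfsg.Agent.Lib.Helper6 Cfsg.Agent.Lib.Helper6.St Cfsg.Agent.S0320 Cfsg.Agent.Lib.Helper6.Exch

section B
variable {G : Type*} [Group G] [Fintype G] (P : Cfsg.BNPair G)
variable {V : Type*} [AddCommGroup V] [Module ℂ V] (ρ : Representation ℂ G V)

theorem trace_hop [FiniteDimensional ℂ V] (w : Wg P) :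
    LinearMap.trace ℂ V (hop P ρ w) = fz P ρ.character w := by
  classical
  unfold hop fz
  rw [map_smul, map_sum, smul_eq_mul]
  congr 1
  refine Finset.sum_congr rfl fun g _ => ?_
  split_ifs with hg
  · rfl
  · exact map_zero _

end B

end Cfsg.Agent.Lib.Helper6.FH
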