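import Cfsg.Agent.Lib.Helper6.FH.BDefs
import Cfsg.Agent.Lib.Helper80.FH_A0
import Cfsg.Agent.Lib.Helper97.FH_W1
import Cfsg.Agent.Lib.Helper97.FH_W2

/-! # FH-G1 (helper4): indices of the cells of alternating words in a rank 2 (B,N)-pair -/

set_option autoImplicit false

namespace Cfsg.Agent.Lib.Helper6.FH

open Cfsg Cfsg.Agent.Lib.Helper6 Cfsg.Agent.Lib.Helper6.St Cfsg.Agent.S0320 Cfsg.Agent.Lib.Helper6.Exch

section G2
variable {G : Type*} [Group G] [Fintype G] {P : Cfsg.BNPair G} {s₁ s₂ : P.S}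

theorem qidx_altP (hr : Rank2 P s₁ s₂) {l : ℕ} (hl : l ≤ orderOf (sig P s₁ * sig P s₂)) :
    qidx P (altP l (sig P s₁) (sig P s₂)) = altP l (qidx P (sig P s₁)) (qidx P (sig P s₂)) ∧
    qidx P (altP l (sig P s₂) (sig P s₁)) = altP l (qidx P (sig P s₂)) (qidx P (sig P s₁)) := by
  induction l with
  | zero => exact ⟨by simpa using qidx_one P, by simpa using qidx_one P⟩
  | succ l ih =>
    have ih' := ih (Nat.le_of_succ_le hl)
    have e1 := ell_altP (exSys_sig P) hr.hall hr.hne hl
    have e0 := ell_altP (exSys_sig P) hr.hall hr.hne (Nat.le_of_succ_le hl)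
    constructor
    · rw [altP_succ, altP_succ]
      have hlt : ell (sig P) (altP l (sig P s₂) (sig P s₁)) <
          ell (sig P) (sig P s₁ * altP l (sig P s₂) (sig P s₁)) := by
        have := e1.1
        rw [altP_succ] at this
        rw [this, e0.2]
        exact Nat.lt_succ_self l
      rw [qidx_sig_mul P s₁ _ hlt, ih'.2]
    · rw [altP_succ, altP_succ]
      have hlt : ell (sig P) (altP l (sig P s₁) (sig P s₂)) <
          ell (sig P) (sig P s₂ * altP l (sig P s₁) (sig P s₂)) := by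
        have := e1.2
        rw [altP_succ] at this
        rw [this, e0.1]
        exact Nat.lt_succ_self l
      rw [qidx_sig_mul P s₂ _ hlt, ih'.1]

theorem qidx_eq_of_odd (hr : Rank2 P s₁ s₂) (hodd : Odd (orderOf (sig P s₁ * sig P s₂))) :
    qidx P (sig P s₁) = qidx P (sig P s₂) := by
  obtain ⟨k, hk⟩ := hodd
  have hb := altP_braid_of_orderOf ((exSys_sig P).sq s₁) ((exSys_sig P).sq s₂)
  have hq := qidx_altP hr (le_refl (orderOf (sig P s₁ * sig P s₂)))
  have h1 := hq.1
  rw [hb, hq.2, hk, altP_two_mul_add_one, altP_two_mul_add_one] at h1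
  have hpos : 0 < (qidx P (sig P s₂) * qidx P (sig P s₁)) ^ k :=
    pow_pos (Nat.mul_pos (qidx_pos P _) (qidx_pos P _)) k
  rw [mul_comm (qidx P (sig P s₁)) (qidx P (sig P s₂))] at h1
  exact (Nat.eq_of_mul_eq_mul_left hpos h1).symm

end G2

end Cfsg.Agent.Lib.Helper6.FH
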