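import Cfsg.Agent.Lib.Helper6.FH.BDefs
import Cfsg.Agent.Lib.Helper80.FH_A0
import Cfsg.Agent.Lib.Helper4.FH_B4
import Cfsg.Agent.Lib.Helper97.FH_W1
import Cfsg.Agent.Lib.Helper97.FH_W2
import Cfsg.Agent.Lib.Helper48.FH_B1
import Cfsg.Agent.Lib.Helper39.FH_B2
import Cfsg.Agent.Lib.Helper39.FH_B3
import Cfsg.Agent.Lib.Helper68.FH_B6
import Cfsg.Agent.Lib.Helper34.FH_B5

/-! # FH-G2 (helper4): the Hecke representation attached to an irreducible character of a finite group with a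
(B,N)-pair of rank 2 (glue of FH-B1 .. FH-B6, FH-W1, FH-W2) -/

set_option autoImplicit false

namespace Cfsg.Agent.Lib.Helper6.FH

open Cfsg Cfsg.Agent.Lib.Helper6 Cfsg.Agent.Lib.Helper6.St Cfsg.Agent.S0320 Cfsg.Agent.Lib.Helper6.Exch
open Matrix

section G2
variable {G : Type*} [Group G] [Fintype G] {P : Cfsg.BNPair G} {s₁ s₂ : P.S}

/-- the compressed Hecke operators of alternating words are the alternating products -/
theorem g2_altP_map (hr : Rank2 P s₁ s₂) {V : Type*} [AddCommGroup V] [Module ℂ V] (ρ : Representation ℂ G V)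
    {m : ℕ} (φ : Module.End ℂ V →ₗ[ℂ] Matrix (Fin m) (Fin m) ℂ) (hφe : φ (hop P ρ 1) = 1)
    (hmul : ∀ T T' : Module.End ℂ V, hop P ρ 1 * T = T → T * hop P ρ 1 = T → hop P ρ 1 * T' = T' →
      T' * hop P ρ 1 = T' → φ (T * T') = φ T * φ T')
    {l : ℕ} (hl : l ≤ orderOf (sig P s₁ * sig P s₂)) :
    φ (hop P ρ (altP l (sig P s₁) (sig P s₂))) = altP l (φ (hop P ρ (sig P s₁))) (φ (hop P ρ (sig P s₂))) ∧
    φ (hop P ρ (altP l (sig P s₂) (sig P s₁))) = altP l (φ (hop P ρ (sig P s₂))) (φ (hop P ρ (sig P s₁))) := by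
  induction l with
  | zero => exact ⟨by simpa using hφe, by simpa using hφe⟩
  | succ l ih =>
    have ih' := ih (Nat.le_of_succ_le hl)
    have e1 := ell_altP (exSys_sig P) hr.hall hr.hne hl
    have e0 := ell_altP (exSys_sig P) hr.hall hr.hne (Nat.le_of_succ_le hl)
    constructor
    · rw [altP_succ, altP_succ]
      have hlt : ell (sig P) (altP l (sig P s₂) (sig P s₁)) <
          ell (sig P) (sig P s₁ * altP l (sig P s₂) (sig P s₁)) := by
        have := e1.1
        rw [altP_succ] at this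
        rw [this, e0.2]
        exact Nat.lt_succ_self l
      rw [← hop_sig_mul P ρ s₁ _ hlt,
        hmul _ _ (hop_one_mul P ρ _) (hop_mul_one P ρ _) (hop_one_mul P ρ _) (hop_mul_one P ρ _), ih'.2]
    · rw [altP_succ, altP_succ]
      have hlt : ell (sig P) (altP l (sig P s₁) (sig P s₂)) <
          ell (sig P) (sig P s₂ * altP l (sig P s₁) (sig P s₂)) := by
        have := e1.2
        rw [altP_succ] at this
        rw [this, e0.1]
        exact Nat.lt_succ_self l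
      rw [← hop_sig_mul P ρ s₂ _ hlt,
        hmul _ _ (hop_one_mul P ρ _) (hop_mul_one P ρ _) (hop_one_mul P ρ _) (hop_mul_one P ρ _), ih'.1]

theorem exists_heckeRep (hr : Rank2 P s₁ s₂) (ζ : Cfsg.IrrCharacter G) :
    ∃ (m : ℕ) (a b : Matrix (Fin m) (Fin m) ℂ),
      HeckeRep (orderOf (sig P s₁ * sig P s₂)) (qidx P (sig P s₁) : ℂ) (qidx P (sig P s₂) : ℂ) a b ∧
      (m : ℂ) = fz P (ζ : G → ℂ) 1 ∧
      ∀ l ≤ orderOf (sig P s₁ * sig P s₂),
        fz P (ζ : G → ℂ) (altP l (sig P s₁) (sig P s₂)) = (altP l a b).trace ∧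
        fz P (ζ : G → ℂ) (altP l (sig P s₂) (sig P s₁)) = (altP l b a).trace := by
  obtain ⟨ζf, d, ρ, hirr, rfl⟩ := ζ
  have he : hop P ρ 1 * hop P ρ 1 = hop P ρ 1 := hop_one_mul P ρ 1
  obtain ⟨m, φ, hφe, hm, hmul, htr, hsimp⟩ := exists_compress (hop P ρ 1) he
  have hL : ∀ w : Wg P, hop P ρ 1 * hop P ρ w = hop P ρ w := hop_one_mul P ρ
  have hR : ∀ w : Wg P, hop P ρ w * hop P ρ 1 = hop P ρ w := hop_mul_one P ρ
  have hquad : ∀ s : P.S, φ (hop P ρ (sig P s)) * φ (hop P ρ (sig P s)) =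
      (qidx P (sig P s) : ℂ) • (1 : Matrix (Fin m) (Fin m) ℂ) +
        ((qidx P (sig P s) : ℂ) - 1) • φ (hop P ρ (sig P s)) := by
    intro s
    rw [← hmul _ _ (hL _) (hR _) (hL _) (hR _), hop_sig_sq P ρ s, map_add, map_smul, map_smul, hφe]
  have hmap := fun {l : ℕ} (hl : l ≤ orderOf (sig P s₁ * sig P s₂)) => g2_altP_map hr ρ φ hφe hmul hl
  refine ⟨m, φ (hop P ρ (sig P s₁)), φ (hop P ρ (sig P s₂)), ⟨hquad s₁, hquad s₂, ?_, ?_⟩, ?_, ?_⟩
  · -- braid
    have h := hmap (le_refl _)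
    rw [← h.1, ← h.2, altP_braid_of_orderOf ((exSys_sig P).sq s₁) ((exSys_sig P).sq s₂)]
  · -- simple
    intro U' ha hb
    refine hsimp {hop P ρ (sig P s₁), hop P ρ (sig P s₂)} ?_ ?_ U' ?_
    · intro T hT
      rcases hT with rfl | rfl
      · exact ⟨hL _, hR _⟩
      · exact ⟨hL _, hR _⟩
    · intro U hU hinv
      refine hop_simple P ρ hirr U hU ?_
      intro s x hx
      rcases hr.hall s with rfl | rfl
      · exact hinv _ (Or.inl rfl) x hx
      · exact hinv _ (Or.inr rfl) x hx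
    · intro T hT x hx
      rcases hT with rfl | rfl
      · exact ha x hx
      · exact hb x hx
  · -- multiplicity
    rw [hm, trace_hop P ρ 1]
  · intro l hl
    have h := hmap hl
    constructor
    · rw [← h.1, htr _ (hL _) (hR _), trace_hop P ρ]
    · rw [← h.2, htr _ (hL _) (hR _), trace_hop P ρ]

end G2

end Cfsg.Agent.Lib.Helper6.FH
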