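import Mathlib
import Cfsg.Prelude.Def_Involutions
import Cfsg.Agent.Lib.Helper4.Dihedral

set_option autoImplicit false

namespace Cfsg.Agent.Lib.Helper4

theorem mem_map_conj_iff {G : Type*} [Group G] (H : Subgroup G) (g x : G) :
    x ∈ H.map (MulAut.conj g).toMonoidHom ↔ g⁻¹ * x * g ∈ H := by
  constructor
  · rintro ⟨h, hh, rfl⟩
    simp only [MulEquiv.toMonoidHom_eq_coe, MonoidHom.coe_coe, MulAut.conj_apply]
    have : g⁻¹ * (g * h * g⁻¹) * g = h := by simp [mul_assoc]
    rw [this]
    exact hh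
  · intro h
    refine ⟨g⁻¹ * x * g, h, ?_⟩
    simp [mul_assoc]

/-- A finite subgroup has odd order iff it contains no involution. -/
theorem odd_card_iff_no_involution {G : Type*} [Group G] (K : Subgroup G) [Finite K] :
    Odd (Nat.card K) ↔ ∀ s : G, orderOf s = 2 → s ∈ K → False := by
  haveI : Fact (Nat.Prime 2) := ⟨Nat.prime_two⟩
  constructor
  · intro hodd s hs hsK
    have h := orderOf_dvd_natCard (⟨s, hsK⟩ : K)
    rw [Subgroup.orderOf_mk, hs] at h
    exact (Nat.not_even_iff_odd.2 hodd) (even_iff_two_dvd.2 h)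
  · intro h
    rw [← Nat.not_even_iff_odd, even_iff_two_dvd]
    intro h2
    obtain ⟨u, hu⟩ := exists_prime_orderOf_dvd_card' 2 h2
    exact h (u : G) (by rw [Subgroup.orderOf_coe, hu]) u.2

/-- Reformulation of strong embedding in terms of involutions. -/
theorem stronglyEmbedded_iff {G : Type*} [Group G] [Finite G] (H : Subgroup G) :
    Cfsg.IsStronglyEmbedded H ↔ H ≠ ⊤ ∧ Even (Nat.card H) ∧
      ∀ g : G, g ∉ H → ∀ s : G, orderOf s = 2 → s ∈ H → g⁻¹ * s * g ∈ H → False := by
  unfold Cfsg.IsStronglyEmbedded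
  refine and_congr Iff.rfl (and_congr Iff.rfl ?_)
  refine forall_congr' fun g => forall_congr' fun _ => ?_
  rw [odd_card_iff_no_involution]
  refine forall_congr' fun s => forall_congr' fun _ => ?_
  rw [Subgroup.mem_inf, mem_map_conj_iff]
  tauto

end Cfsg.Agent.Lib.Helper4
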