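import Mathlib
import Cfsg.Agent.Lib.Helper4.Dihedral
import Cfsg.Agent.Lib.Helper4.StronglyEmbedded
import Cfsg.Agent.Lib.Helper4.ClassCount
import Cfsg.Agent.Lib.Helper4.Conj
import Cfsg.Agent.S0208
import Cfsg.Agent.S0209
import Cfsg.Agent.S0172

set_option autoImplicit false

namespace Cfsg.Agent.Lib.Helper4.FC

open Subgroup

variable {G : Type*} [Group G]

def Hyp (G : Type*) [Group G] : Prop :=
  ∀ t : G, orderOf t = 2 →
    Nat.card (centralizer ({t} : Set G)) = 4 ∧ ∀ c ∈ centralizer ({t} : Set G), c ^ 2 = 1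

theorem mem_cent {t c : G} : c ∈ centralizer ({t} : Set G) ↔ c * t = t * c := by
  rw [mem_centralizer_singleton_iff]

theorem comm_of_sq_one {H : Subgroup G} (h : ∀ c ∈ H, c ^ 2 = 1) {a b : G} (ha : a ∈ H) (hb : b ∈ H) :
    a * b = b * a := by
  have h1 := h a ha
  have h2 := h b hb
  have h3 := h (a * b) (H.mul_mem ha hb)
  have ia : a⁻¹ = a := by rw [inv_eq_iff_mul_eq_one, ← pow_two, h1]
  have ib : b⁻¹ = b := by rw [inv_eq_iff_mul_eq_one, ← pow_two, h2]
  have : (a * b)⁻¹ = a * b := by rw [inv_eq_iff_mul_eq_one, ← pow_two, h3]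
  rw [mul_inv_rev, ia, ib] at this
  exact this.symm

theorem eq_one_of_odd_of_sq {c : G} (hodd : Odd (orderOf c)) (h : c ^ 2 = 1) : c = 1 := by
  have h1 : orderOf c ∣ 2 := orderOf_dvd_of_pow_eq_one h
  rcases (Nat.dvd_prime Nat.prime_two).1 h1 with h2 | h2
  · exact orderOf_eq_one_iff.1 h2
  · rw [h2] at hodd; exact absurd hodd (by decide)

theorem eq_one_of_commute_inv (hyp : Hyp G) {t c : G} (ht : orderOf t = 2) (hodd : Odd (orderOf c))
    (hc : c * t = t * c) : c = 1 :=
  eq_one_of_odd_of_sq hodd ((hyp t ht).2 c (mem_cent.2 hc))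

theorem commute_or_odd [Finite G] (hyp : Hyp G) {a b : G} (ha : orderOf a = 2) (hb : orderOf b = 2) :
    a * b = b * a ∨ Odd (orderOf (a * b)) := by
  by_cases hodd : Odd (orderOf (a * b))
  · exact Or.inr hodd
  · left
    rw [Nat.not_odd_iff_even] at hodd
    obtain ⟨hw, hwa, hwb⟩ := Cfsg.Agent.S0209.result a b ha hb hodd
    set w := (a * b) ^ (orderOf (a * b) / 2) with hwdef
    have h1 : a ∈ centralizer ({w} : Set G) := mem_cent.2 hwa.eq.symm
    have h2 : b ∈ centralizer ({w} : Set G) := mem_cent.2 hwb.eq.symm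
    exact comm_of_sq_one (hyp w hw).2 h1 h2

theorem odd_orderOf_of_mem {M : Subgroup G} [Finite M] (hM : Odd (Nat.card M)) {d : G} (hd : d ∈ M) :
    Odd (orderOf d) := by
  have h := orderOf_dvd_natCard (⟨d, hd⟩ : M)
  rw [Subgroup.orderOf_mk] at h
  exact hM.of_dvd_nat h

/-- an involution normalizing an odd order subgroup inverts it -/
theorem inverts_all [Finite G] (hyp : Hyp G) {t : G} (ht : orderOf t = 2) (M : Subgroup G)
    (hM : Odd (Nat.card M)) (hn : ∀ d ∈ M, t * d * t⁻¹ ∈ M) :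
    ∀ d ∈ M, t * d * t⁻¹ = d⁻¹ := by
  have tt : t * t = 1 := mul_self_of_orderOf_two ht
  have ti : t⁻¹ = t := inv_eq_self_of_orderOf_two ht
  let ψ : M → M := fun d => ⟨(d : G)⁻¹ * (t * d * t⁻¹), M.mul_mem (M.inv_mem d.2) (hn d d.2)⟩
  have hinj : Function.Injective ψ := by
    intro d e hde
    have h1 : (d : G)⁻¹ * (t * d * t⁻¹) = (e : G)⁻¹ * (t * e * t⁻¹) := congrArg Subtype.val hde
    -- f = e d⁻¹ commutes with t
    have h2 : (e : G) * (d : G)⁻¹ * t = t * ((e : G) * (d : G)⁻¹) := by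
      have h3 : (e : G) * (d : G)⁻¹ = (t * e * t⁻¹) * (t * d * t⁻¹)⁻¹ := by
        have : (e : G) * ((d : G)⁻¹ * (t * d * t⁻¹)) = t * e * t⁻¹ := by
          rw [h1]; group
        calc (e : G) * (d : G)⁻¹ = (e : G) * ((d : G)⁻¹ * (t * d * t⁻¹)) * (t * d * t⁻¹)⁻¹ := by group
          _ = (t * e * t⁻¹) * (t * d * t⁻¹)⁻¹ := by rw [this]
      have h4 : (t * e * t⁻¹) * (t * d * t⁻¹)⁻¹ = t * ((e : G) * (d : G)⁻¹) * t⁻¹ := by group
      rw [h4] at h3
      calc (e : G) * (d : G)⁻¹ * t = t * ((e : G) * (d : G)⁻¹) * t⁻¹ * t := by rw [← h3]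
        _ = t * ((e : G) * (d : G)⁻¹) := by group
    have h5 : (e : G) * (d : G)⁻¹ = 1 :=
      eq_one_of_commute_inv hyp ht (odd_orderOf_of_mem hM (M.mul_mem e.2 (M.inv_mem d.2))) h2
    apply Subtype.ext
    have : (e : G) = d := by
      have := mul_inv_eq_one.1 h5
      exact this
    exact this.symm
  have hsurj : Function.Surjective ψ := Finite.surjective_of_injective hinj
  intro d hd
  obtain ⟨e, he⟩ := hsurj ⟨d, hd⟩
  have h1 : (e : G)⁻¹ * (t * e * t⁻¹) = d := congrArg Subtype.val he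
  rw [← h1]
  have e1 : t * ((e : G)⁻¹ * (t * e * t⁻¹)) * t⁻¹ = t * (e : G)⁻¹ * t * e * (t * t)⁻¹ := by group
  have e2 : ((e : G)⁻¹ * (t * e * t⁻¹))⁻¹ = t * (e : G)⁻¹ * t⁻¹ * e := by group
  rw [e1, e2, tt, ti, inv_one, mul_one]


/-- `c` is a nonidentity element of odd order inverted by the involution `a` -/
structure Inv (c a : G) : Prop where
  hodd : Odd (orderOf c)
  hne : c ≠ 1
  ha : orderOf a = 2
  hinv : a * c * a⁻¹ = c⁻¹

theorem Inv.odd_card [Finite G] (hyp : Hyp G) {c a : G} (h : Inv c a) :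
    Odd (Nat.card (centralizer ({c} : Set G))) := by
  rw [odd_card_iff_no_involution]
  intro s hs hsM
  have h1 : s * c = c * s := mem_cent.1 hsM
  exact h.hne (eq_one_of_commute_inv hyp hs h.hodd h1.symm)

theorem Inv.normalizes {c a : G} (h : Inv c a) : ∀ d ∈ centralizer ({c} : Set G),
    a * d * a⁻¹ ∈ centralizer ({c} : Set G) := by
  intro d hd
  have h1 : d * c = c * d := mem_cent.1 hd
  have ai : a⁻¹ = a := inv_eq_self_of_orderOf_two h.ha
  have aa : a * a = 1 := mul_self_of_orderOf_two h.ha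
  rw [mem_cent]
  have hc : c = a * c⁻¹ * a⁻¹ := by
    have := h.hinv
    have h2 : a * c⁻¹ * a⁻¹ = (a * c * a⁻¹)⁻¹ := by group
    rw [h2, this, inv_inv]
  have h3 : d * c⁻¹ = c⁻¹ * d := by
    have : c⁻¹ * (d * c) * c⁻¹ = c⁻¹ * (c * d) * c⁻¹ := by rw [h1]
    have e1 : c⁻¹ * (d * c) * c⁻¹ = c⁻¹ * d := by group
    have e2 : c⁻¹ * (c * d) * c⁻¹ = d * c⁻¹ := by group
    rw [e1, e2] at this
    exact this.symm
  calc a * d * a⁻¹ * c = a * d * a⁻¹ * (a * c⁻¹ * a⁻¹) := by rw [← hc]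
    _ = a * (d * c⁻¹) * a⁻¹ := by group
    _ = a * (c⁻¹ * d) * a⁻¹ := by rw [h3]
    _ = (a * c⁻¹ * a⁻¹) * (a * d * a⁻¹) := by group
    _ = c * (a * d * a⁻¹) := by rw [← hc]

theorem Inv.inverts [Finite G] (hyp : Hyp G) {c a : G} (h : Inv c a) :
    ∀ d ∈ centralizer ({c} : Set G), a * d * a⁻¹ = d⁻¹ :=
  inverts_all hyp h.ha _ (h.odd_card hyp) h.normalizes

theorem Inv.comm [Finite G] (hyp : Hyp G) {c a : G} (h : Inv c a) {d e : G}
    (hd : d ∈ centralizer ({c} : Set G)) (he : e ∈ centralizer ({c} : Set G)) : d * e = e * d := by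
  have h1 := h.inverts hyp d hd
  have h2 := h.inverts hyp e he
  have h3 := h.inverts hyp (d * e) (mul_mem hd he)
  have h4 : a * (d * e) * a⁻¹ = (a * d * a⁻¹) * (a * e * a⁻¹) := by group
  rw [h4, h1, h2] at h3
  have h5 : (d⁻¹ * e⁻¹)⁻¹ = ((d * e)⁻¹)⁻¹ := by rw [h3]
  rw [inv_inv, mul_inv_rev, inv_inv, inv_inv] at h5
  exact h5.symm

theorem Inv.of_mem [Finite G] (hyp : Hyp G) {c a : G} (h : Inv c a) {d : G}
    (hd : d ∈ centralizer ({c} : Set G)) (hd1 : d ≠ 1) : Inv d a :=
  ⟨odd_orderOf_of_mem (h.odd_card hyp) hd, hd1, h.ha, h.inverts hyp d hd⟩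

theorem Inv.cent_eq [Finite G] (hyp : Hyp G) {c a : G} (h : Inv c a) {d : G}
    (hd : d ∈ centralizer ({c} : Set G)) (hd1 : d ≠ 1) :
    centralizer ({d} : Set G) = centralizer ({c} : Set G) := by
  have h' := h.of_mem hyp hd hd1
  have hc : c ∈ centralizer ({d} : Set G) := mem_cent.2 (mem_cent.1 hd).symm
  apply le_antisymm
  · intro e he
    exact mem_cent.2 (h'.comm hyp he hc)
  · intro e he
    exact mem_cent.2 (h.comm hyp he hd)

/-- the involutions inverting `c` are exactly `a * d`, `d ∈ C(c)` -/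
theorem Inv.mul_mem_cent {c a a' : G} (h : Inv c a) (h' : Inv c a') :
    a * a' ∈ centralizer ({c} : Set G) := by
  rw [mem_cent]
  have ai : a⁻¹ = a := inv_eq_self_of_orderOf_two h.ha
  have ai' : a'⁻¹ = a' := inv_eq_self_of_orderOf_two h'.ha
  have h1 : a' * c = c⁻¹ * a' := by
    have := h'.hinv
    calc a' * c = a' * c * a'⁻¹ * a' := by group
      _ = c⁻¹ * a' := by rw [this]
  have h2 : a * c⁻¹ = c * a := by
    have := h.hinv
    have h3 : a * c⁻¹ * a⁻¹ = (a * c * a⁻¹)⁻¹ := by group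
    rw [this, inv_inv] at h3
    calc a * c⁻¹ = a * c⁻¹ * a⁻¹ * a := by group
      _ = c * a := by rw [h3]
  calc a * a' * c = a * (a' * c) := by group
    _ = a * (c⁻¹ * a') := by rw [h1]
    _ = (a * c⁻¹) * a' := by group
    _ = c * a * a' := by rw [h2]
    _ = c * (a * a') := by group

theorem Inv.mul_inv [Finite G] (hyp : Hyp G) {c a : G} (h : Inv c a) {d : G}
    (hd : d ∈ centralizer ({c} : Set G)) : Inv c (a * d) := by
  have ai : a⁻¹ = a := inv_eq_self_of_orderOf_two h.ha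
  have aa : a * a = 1 := mul_self_of_orderOf_two h.ha
  have h1 := h.inverts hyp d hd
  have hda : a * d = d⁻¹ * a := by
    calc a * d = a * d * a⁻¹ * a := by group
      _ = d⁻¹ * a := by rw [h1]
  refine ⟨h.hodd, h.hne, ?_, ?_⟩
  · rw [orderOf_two_iff]
    constructor
    · intro h2
      -- d = a⁻¹ = a has order 2, contradiction with odd order
      have h3 : d = a := by
        have : d = a⁻¹ := eq_inv_of_mul_eq_one_right h2
        rw [this, ai]
      have := odd_orderOf_of_mem (h.odd_card hyp) hd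
      rw [h3, h.ha] at this
      exact absurd this (by decide)
    · calc a * d * (a * d) = a * d * (d⁻¹ * a) := by rw [← hda]
        _ = a * a := by group
        _ = 1 := aa
  · have h2 : d * c * d⁻¹ = c := by
      have := mem_cent.1 hd
      calc d * c * d⁻¹ = c * d * d⁻¹ := by rw [this]
        _ = c := by group
    calc a * d * c * (a * d)⁻¹ = a * (d * c * d⁻¹) * a⁻¹ := by group
      _ = a * c * a⁻¹ := by rw [h2]
      _ = c⁻¹ := h.hinv


theorem Inv.conj {c a : G} (h : Inv c a) (g : G) : Inv (g * c * g⁻¹) (g * a * g⁻¹) := by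
  refine ⟨?_, ?_, ?_, ?_⟩
  · rw [orderOf_conj]; exact h.hodd
  · intro h1
    apply h.hne
    have : c = g⁻¹ * (g * c * g⁻¹) * g := by group
    rw [this, h1]; group
  · rw [orderOf_conj]; exact h.ha
  · have : g * a * g⁻¹ * (g * c * g⁻¹) * (g * a * g⁻¹)⁻¹ = g * (a * c * a⁻¹) * g⁻¹ := by group
    rw [this, h.hinv]; group

theorem exists_sq_eq {M : Subgroup G} [Finite M] (hM : Odd (Nat.card M)) {d : G} (hd : d ∈ M) :
    ∃ e ∈ M, e * e = d := by
  obtain ⟨j, hj⟩ := hM
  refine ⟨d ^ (j + 1), M.pow_mem hd _, ?_⟩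
  have h1 : d ^ (Nat.card M) = 1 := by
    have := pow_card_eq_one' (G := M) (x := ⟨d, hd⟩)
    have h2 := congrArg Subtype.val this
    simp only [SubmonoidClass.coe_pow, OneMemClass.coe_one] at h2
    exact h2
  rw [← pow_add]
  have : j + 1 + (j + 1) = Nat.card M + 1 := by omega
  rw [this, pow_succ, h1, one_mul]

theorem Inv.normalizer [Finite G] (hyp : Hyp G) {c a : G} (h : Inv c a) {g : G}
    (hg : ∀ d, d ∈ centralizer ({c} : Set G) ↔ g * d * g⁻¹ ∈ centralizer ({c} : Set G)) :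
    g ∈ centralizer ({c} : Set G) ∨ a * g ∈ centralizer ({c} : Set G) := by
  have ai : a⁻¹ = a := inv_eq_self_of_orderOf_two h.ha
  have aa : a * a = 1 := mul_self_of_orderOf_two h.ha
  have hcM : c ∈ centralizer ({c} : Set G) := mem_cent.2 rfl
  -- c' = g⁻¹ c g ∈ M
  have hc' : g⁻¹ * c * g ∈ centralizer ({c} : Set G) := by
    rw [hg]
    have : g * (g⁻¹ * c * g) * g⁻¹ = c := by group
    rw [this]; exact hcM
  have hc'1 : g⁻¹ * c * g ≠ 1 := by
    intro h1
    apply h.hne
    have : c = g * (g⁻¹ * c * g) * g⁻¹ := by group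
    rw [this, h1]; group
  have h1 : Inv (g⁻¹ * c * g) a := h.of_mem hyp hc' hc'1
  have h2 := h1.conj g
  have e1 : g * (g⁻¹ * c * g) * g⁻¹ = c := by group
  rw [e1] at h2
  -- d = a * a' ∈ M
  have hd := h.mul_mem_cent h2
  obtain ⟨e, he, hee⟩ := exists_sq_eq (h.odd_card hyp) hd
  have hinve := h.inverts hyp e he
  -- e⁻¹ a e = a e e
  have h3 : e⁻¹ * a * e = g * a * g⁻¹ := by
    have h4 : e⁻¹ * a = a * e := by
      have : a * e * a⁻¹ = e⁻¹ := hinve
      calc e⁻¹ * a = a * e * a⁻¹ * a := by rw [this]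
        _ = a * e := by group
    calc e⁻¹ * a * e = a * e * e := by rw [h4]
      _ = a * (e * e) := by group
      _ = a * (a * (g * a * g⁻¹)) := by rw [hee]
      _ = (a * a) * (g * a * g⁻¹) := by group
      _ = g * a * g⁻¹ := by rw [aa, one_mul]
  -- u = e g commutes with a
  have hu : (e * g) * a = a * (e * g) := by
    have : e * (e⁻¹ * a * e) * e⁻¹ = a := by group
    rw [h3] at this
    calc e * g * a = e * (g * a * g⁻¹) * e⁻¹ * (e * g) := by group
      _ = a * (e * g) := by rw [this]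
  have hu2 : (e * g) ^ 2 = 1 := (hyp a h.ha).2 _ (mem_cent.2 hu)
  have hunorm : ∀ d ∈ centralizer ({c} : Set G), (e * g) * d * (e * g)⁻¹ ∈ centralizer ({c} : Set G) := by
    intro d hd
    have : e * g * d * (e * g)⁻¹ = e * (g * d * g⁻¹) * e⁻¹ := by group
    rw [this]
    exact mul_mem (mul_mem he ((hg d).1 hd)) (inv_mem he)
  by_cases hu1 : e * g = 1
  · left
    have : g = e⁻¹ := eq_inv_of_mul_eq_one_right hu1
    rw [this]; exact inv_mem he
  · right
    have huo : orderOf (e * g) = 2 := by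
      rw [orderOf_two_iff]
      exact ⟨hu1, by rw [← pow_two]; exact hu2⟩
    have hinvu := inverts_all hyp huo _ (h.odd_card hyp) hunorm
    have h5 : Inv c (e * g) := ⟨h.hodd, h.hne, huo, hinvu c hcM⟩
    have h6 := h.mul_mem_cent h5
    -- a * g = e * (a * (e*g))
    have h7 : a * e⁻¹ = e * a := by
      have := h.inverts hyp e⁻¹ (inv_mem he)
      rw [inv_inv] at this
      calc a * e⁻¹ = a * e⁻¹ * a⁻¹ * a := by group
        _ = e * a := by rw [this]
    have : a * g = e * (a * (e * g)) := by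
      calc a * g = (a * e⁻¹) * (e * g) := by group
        _ = e * a * (e * g) := by rw [h7]
        _ = e * (a * (e * g)) := by group
    rw [this]
    exact mul_mem he h6

/-- fusion in `M = C(c)` is controlled by `a` -/
theorem Inv.conj_in_cent [Finite G] (hyp : Hyp G) {c a : G} (h : Inv c a) {d g : G}
    (hd : d ∈ centralizer ({c} : Set G)) (hd1 : d ≠ 1)
    (hd' : g * d * g⁻¹ ∈ centralizer ({c} : Set G)) :
    g * d * g⁻¹ = d ∨ g * d * g⁻¹ = d⁻¹ := by
  have hd'1 : g * d * g⁻¹ ≠ 1 := by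
    intro h1
    apply hd1
    have : d = g⁻¹ * (g * d * g⁻¹) * g := by group
    rw [this, h1]; group
  have hM1 := h.cent_eq hyp hd hd1
  have hM2 := h.cent_eq hyp hd' hd'1
  have hg : ∀ e, e ∈ centralizer ({c} : Set G) ↔ g * e * g⁻¹ ∈ centralizer ({c} : Set G) := by
    intro e
    constructor
    · intro he
      rw [← hM1, mem_cent] at he
      rw [← hM2, mem_cent]
      calc g * e * g⁻¹ * (g * d * g⁻¹) = g * (e * d) * g⁻¹ := by group
        _ = g * (d * e) * g⁻¹ := by rw [he]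
        _ = g * d * g⁻¹ * (g * e * g⁻¹) := by group
    · intro he
      rw [← hM2, mem_cent] at he
      rw [← hM1, mem_cent]
      have : g⁻¹ * (g * e * g⁻¹ * (g * d * g⁻¹)) * g = g⁻¹ * (g * d * g⁻¹ * (g * e * g⁻¹)) * g := by
        rw [he]
      have e1 : g⁻¹ * (g * e * g⁻¹ * (g * d * g⁻¹)) * g = e * d := by group
      have e2 : g⁻¹ * (g * d * g⁻¹ * (g * e * g⁻¹)) * g = d * e := by group
      rw [e1, e2] at this
      exact this
  rcases h.normalizer hyp hg with h1 | h1
  · left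
    have := h.comm hyp h1 hd
    calc g * d * g⁻¹ = d * g * g⁻¹ := by rw [this]
      _ = d := by group
  · right
    have h2 := h.comm hyp h1 hd
    have ai : a⁻¹ = a := inv_eq_self_of_orderOf_two h.ha
    have aa : a * a = 1 := mul_self_of_orderOf_two h.ha
    have h3 : g = a * (a * g) := by rw [← mul_assoc, aa, one_mul]
    have h4 := h.inverts hyp d hd
    calc g * d * g⁻¹ = a * ((a * g) * d) * (a * g)⁻¹ * a⁻¹ := by
          conv_lhs => rw [h3]
          group
      _ = a * (d * (a * g)) * (a * g)⁻¹ * a⁻¹ := by rw [h2]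
      _ = a * d * a⁻¹ := by group
      _ = d⁻¹ := h4


section Count

variable [Fintype G]

open Classical in
/-- the involutions -/
noncomputable def invs (G : Type*) [Group G] [Fintype G] : Finset G :=
  Finset.univ.filter (fun t => orderOf t = 2)

open Classical in
/-- the strongly real elements of odd order -/
noncomputable def RR (G : Type*) [Group G] [Fintype G] : Finset G :=
  Finset.univ.filter (fun c => ∃ a, Inv c a)

theorem mem_invs {t : G} : t ∈ invs G ↔ orderOf t = 2 := by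
  classical
  simp [invs]

theorem mem_RR {c : G} : c ∈ RR G ↔ ∃ a, Inv c a := by
  classical
  simp [RR]

open Classical in
theorem card_filter_mem (M : Subgroup G) :
    (Finset.univ.filter (fun d => d ∈ M)).card = Nat.card M := by
  rw [Nat.card_eq_fintype_card, Fintype.card_subtype]

open Classical in
theorem card_commuting (hyp : Hyp G) {a : G} (ha : a ∈ invs G) :
    ((invs G).filter (fun b => a * b = b * a)).card = 3 := by
  have ha' := mem_invs.1 ha
  have h1 : (invs G).filter (fun b => a * b = b * a) =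
      (Finset.univ.filter (fun d => d ∈ centralizer ({a} : Set G))).erase 1 := by
    ext b
    simp only [Finset.mem_filter, Finset.mem_erase, Finset.mem_univ, true_and, mem_invs, mem_cent]
    constructor
    · rintro ⟨h1, h2⟩
      exact ⟨ne_one_of_orderOf_two h1, h2.symm⟩
    · rintro ⟨h1, h2⟩
      refine ⟨?_, h2.symm⟩
      rw [orderOf_two_iff]
      refine ⟨h1, ?_⟩
      rw [← pow_two]
      exact (hyp a ha').2 b (mem_cent.2 h2)
  rw [h1, Finset.card_erase_of_mem, card_filter_mem, (hyp a ha').1]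
  simp

theorem inv_of_not_commute (hyp : Hyp G) {a b : G} (ha : orderOf a = 2) (hb : orderOf b = 2)
    (hab : a * b ≠ b * a) : Inv (a * b) a := by
  have ai : a⁻¹ = a := inv_eq_self_of_orderOf_two ha
  have bi : b⁻¹ = b := inv_eq_self_of_orderOf_two hb
  have aa : a * a = 1 := mul_self_of_orderOf_two ha
  refine ⟨?_, ?_, ha, ?_⟩
  · rcases commute_or_odd hyp ha hb with h | h
    · exact absurd h hab
    · exact h
  · intro h1
    apply hab
    have : b = a⁻¹ := eq_inv_of_mul_eq_one_right h1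
    rw [this]; group
  · calc a * (a * b) * a⁻¹ = (a * a) * b * a⁻¹ := by group
      _ = b * a := by rw [aa, one_mul, ai]
      _ = b⁻¹ * a⁻¹ := by rw [ai, bi]
      _ = (a * b)⁻¹ := by group


open Classical in
theorem card_fiber (hyp : Hyp G) {c a₀ : G} (h₀ : Inv c a₀) :
    ((((invs G) ×ˢ (invs G)).filter (fun p => p.1 * p.2 ≠ p.2 * p.1)).filter
      (fun p => p.1 * p.2 = c)).card = Nat.card (centralizer ({c} : Set G)) := by
  rw [← card_filter_mem]
  have a0i : a₀⁻¹ = a₀ := inv_eq_self_of_orderOf_two h₀.ha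
  have a0a0 : a₀ * a₀ = 1 := mul_self_of_orderOf_two h₀.ha
  apply Finset.card_bij (fun p _ => a₀ * p.1)
  · intro p hp
    simp only [Finset.mem_filter, Finset.mem_product, mem_invs, Finset.mem_univ, true_and] at hp ⊢
    obtain ⟨⟨⟨ha, hb⟩, hab⟩, hc⟩ := hp
    have := inv_of_not_commute hyp ha hb hab
    rw [hc] at this
    exact h₀.mul_mem_cent this
  · intro p hp q hq hpq
    simp only [Finset.mem_filter, Finset.mem_product, mem_invs, Finset.mem_univ, true_and] at hp hq
    have h1 : p.1 = q.1 := mul_left_cancel hpq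
    have h2 : p.2 = q.2 := by
      have : p.1 * p.2 = p.1 * q.2 := by rw [hp.2, h1, hq.2]
      exact mul_left_cancel this
    exact Prod.ext h1 h2
  · intro d hd
    simp only [Finset.mem_filter, Finset.mem_univ, true_and] at hd
    have h1 := h₀.mul_inv hyp hd
    have ai : (a₀ * d)⁻¹ = a₀ * d := inv_eq_self_of_orderOf_two h1.ha
    have aa : (a₀ * d) * (a₀ * d) = 1 := mul_self_of_orderOf_two h1.ha
    have hne : a₀ * d * c ≠ 1 := by
      intro h2
      have h3 : c = (a₀ * d)⁻¹ := eq_inv_of_mul_eq_one_right h2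
      rw [ai] at h3
      have := h₀.hodd
      rw [h3, h1.ha] at this
      exact absurd this (by decide)
    have hsq : a₀ * d * c * (a₀ * d * c) = 1 := by
      have e : a₀ * d * c * (a₀ * d) = c⁻¹ := by
        have := h1.hinv
        rw [ai] at this
        exact this
      calc a₀ * d * c * (a₀ * d * c) = (a₀ * d * c * (a₀ * d)) * c := by group
        _ = 1 := by rw [e]; group
    refine ⟨(a₀ * d, a₀ * d * c), ?_, ?_⟩
    · simp only [Finset.mem_filter, Finset.mem_product, mem_invs, Finset.mem_univ, true_and]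
      refine ⟨⟨⟨h1.ha, (orderOf_two_iff _).2 ⟨hne, hsq⟩⟩, ?_⟩, ?_⟩
      · intro h2
        -- a' commutes with a' c, hence with c
        have h3 : (a₀ * d) * c = c * (a₀ * d) := by
          have : (a₀ * d) * ((a₀ * d) * (a₀ * d * c)) = (a₀ * d) * ((a₀ * d * c) * (a₀ * d)) := by
            rw [h2]
          have e1 : (a₀ * d) * ((a₀ * d) * (a₀ * d * c)) = ((a₀ * d) * (a₀ * d)) * ((a₀ * d) * c) := by
            group
          have e2 : (a₀ * d) * ((a₀ * d * c) * (a₀ * d)) = ((a₀ * d) * (a₀ * d)) * (c * (a₀ * d)) := by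
            group
          rw [e1, e2, aa, one_mul, one_mul] at this
          exact this
        exact h₀.hne (eq_one_of_commute_inv hyp h1.ha h₀.hodd h3.symm)
      · calc a₀ * d * (a₀ * d * c) = ((a₀ * d) * (a₀ * d)) * c := by group
          _ = c := by rw [aa, one_mul]
    · calc a₀ * (a₀ * d) = (a₀ * a₀) * d := by group
        _ = d := by rw [a0a0, one_mul]

open Classical in
theorem sum_card_cent (hyp : Hyp G) :
    ∑ c ∈ RR G, Nat.card (centralizer ({c} : Set G)) = (invs G).card * ((invs G).card - 3) := by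
  have h1 : (((invs G) ×ˢ (invs G)).filter (fun p => p.1 * p.2 ≠ p.2 * p.1)).card =
      (invs G).card * ((invs G).card - 3) := by
    have : (((invs G) ×ˢ (invs G)).filter (fun p => p.1 * p.2 ≠ p.2 * p.1)).card =
        ∑ a ∈ invs G, ((invs G).filter (fun b => a * b ≠ b * a)).card := by
      rw [Finset.card_filter, Finset.sum_product]
      apply Finset.sum_congr rfl
      intro a _
      rw [Finset.card_filter]
    rw [this]
    have h2 : ∀ a ∈ invs G, ((invs G).filter (fun b => a * b ≠ b * a)).card = (invs G).card - 3 := by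
      intro a ha
      have := Finset.card_filter_add_card_filter_not (s := invs G) (fun b => a * b = b * a)
      rw [card_commuting hyp ha] at this
      simp only [ne_eq]
      omega
    rw [Finset.sum_congr rfl h2, Finset.sum_const, smul_eq_mul]
  have h2 : (((invs G) ×ˢ (invs G)).filter (fun p => p.1 * p.2 ≠ p.2 * p.1)).card =
      ∑ c ∈ RR G, ((((invs G) ×ˢ (invs G)).filter (fun p => p.1 * p.2 ≠ p.2 * p.1)).filter
        (fun p => p.1 * p.2 = c)).card := by
    apply Finset.card_eq_sum_card_fiberwise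
    intro p hp
    rw [Finset.mem_coe] at hp
    simp only [Finset.mem_filter, Finset.mem_product, mem_invs] at hp
    rw [Finset.mem_coe, mem_RR]
    exact ⟨p.1, inv_of_not_commute hyp hp.1.1 hp.1.2 hp.2⟩
  have h3 : ∀ c ∈ RR G, ((((invs G) ×ˢ (invs G)).filter (fun p => p.1 * p.2 ≠ p.2 * p.1)).filter
        (fun p => p.1 * p.2 = c)).card = Nat.card (centralizer ({c} : Set G)) := by
    intro c hc
    obtain ⟨a₀, h₀⟩ := mem_RR.1 hc
    exact card_fiber hyp h₀
  rw [← h1, h2, Finset.sum_congr rfl h3]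


open Classical in
/-- the elements conjugate into `C(c) \ {1}` -/
noncomputable def TT (c : G) : Finset G :=
  Finset.univ.filter (fun y => y ≠ 1 ∧ ∃ g, g * y * g⁻¹ ∈ centralizer ({c} : Set G))

theorem mem_TT {c y : G} : y ∈ TT c ↔ y ≠ 1 ∧ ∃ g, g * y * g⁻¹ ∈ centralizer ({c} : Set G) := by
  classical
  simp [TT]

theorem conj_ne_one {y g : G} (hy : y ≠ 1) : g * y * g⁻¹ ≠ 1 := by
  intro h1
  apply hy
  have : y = g⁻¹ * (g * y * g⁻¹) * g := by group
  rw [this, h1]; group

theorem TT_inv (hyp : Hyp G) {c a : G} (h : Inv c a) {y : G} (hy : y ∈ TT c) :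
    (∃ a', Inv y a') ∧ Nat.card (centralizer ({y} : Set G)) = Nat.card (centralizer ({c} : Set G)) := by
  obtain ⟨hy1, g, hg⟩ := mem_TT.1 hy
  have h1 : Inv (g * y * g⁻¹) a := h.of_mem hyp hg (conj_ne_one hy1)
  have h2 := h1.conj g⁻¹
  have e1 : g⁻¹ * (g * y * g⁻¹) * g⁻¹⁻¹ = y := by group
  rw [e1] at h2
  refine ⟨⟨_, h2⟩, ?_⟩
  rw [← h.cent_eq hyp hg (conj_ne_one hy1), Cfsg.Agent.S0172.card_centralizer_conj]

theorem self_mem_TT {c a : G} (h : Inv c a) : c ∈ TT c := by
  rw [mem_TT]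
  refine ⟨h.hne, 1, ?_⟩
  rw [mem_cent]; group

theorem TT_subset (hyp : Hyp G) {c a : G} (h : Inv c a) : TT c ⊆ RR G := by
  intro y hy
  exact mem_RR.2 (TT_inv hyp h hy).1

theorem TT_disjoint (hyp : Hyp G) {c a c' a' : G} (h : Inv c a) (h' : Inv c' a') (hc' : c' ∉ TT c) :
    Disjoint (TT c) (TT c') := by
  rw [Finset.disjoint_left]
  intro y hy hy'
  apply hc'
  obtain ⟨hy1, g, hg⟩ := mem_TT.1 hy
  obtain ⟨_, g', hg'⟩ := mem_TT.1 hy'
  -- C(g y g⁻¹) = C(c), C(g' y g'⁻¹) = C(c')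
  have hM := h.cent_eq hyp hg (conj_ne_one hy1)
  have hM' := h'.cent_eq hyp hg' (conj_ne_one hy1)
  rw [mem_TT]
  refine ⟨h'.hne, g * g'⁻¹, ?_⟩
  rw [← hM, mem_cent]
  have hc'M : c' * (g' * y * g'⁻¹) = (g' * y * g'⁻¹) * c' := by
    have : c' ∈ centralizer ({g' * y * g'⁻¹} : Set G) := by
      rw [hM', mem_cent]
    exact mem_cent.1 this
  calc g * g'⁻¹ * c' * (g * g'⁻¹)⁻¹ * (g * y * g⁻¹)
      = g * g'⁻¹ * (c' * (g' * y * g'⁻¹)) * g' * g⁻¹ := by group
    _ = g * g'⁻¹ * ((g' * y * g'⁻¹) * c') * g' * g⁻¹ := by rw [hc'M]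
    _ = g * y * g⁻¹ * (g * g'⁻¹ * c' * (g * g'⁻¹)⁻¹) := by group

open Classical in
theorem card_TT (hyp : Hyp G) {c a : G} (h : Inv c a) :
    2 * (TT c).card * Nat.card (centralizer ({c} : Set G)) =
      (Nat.card (centralizer ({c} : Set G)) - 1) * Fintype.card G := by
  set M := centralizer ({c} : Set G) with hMdef
  set k := Nat.card M with hk
  let t : Finset G := (Finset.univ.filter (fun d => d ∈ M)).erase 1
  have ht : t.card = k - 1 := by
    rw [Finset.card_erase_of_mem, card_filter_mem]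
    simp
  have hmemt : ∀ d, d ∈ t ↔ d ≠ 1 ∧ d ∈ M := by
    intro d; simp [t]
  have key := Finset.sum_card_bipartiteAbove_eq_sum_card_bipartiteBelow (s := TT c) (t := t)
    (fun y d => IsConj d y)
  have hL : ∀ y ∈ TT c, (t.bipartiteAbove (fun y d => IsConj d y) y).card = 2 := by
    intro y hy
    obtain ⟨hy1, g, hg⟩ := mem_TT.1 hy
    set d₀ := g * y * g⁻¹ with hd₀
    have hd₀1 : d₀ ≠ 1 := conj_ne_one hy1
    have hne : d₀ ≠ d₀⁻¹ := by
      intro h1
      apply hd₀1
      apply eq_one_of_odd_of_sq (odd_orderOf_of_mem (h.odd_card hyp) hg)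
      rw [pow_two]
      nth_rewrite 2 [h1]
      group
    have : t.bipartiteAbove (fun y d => IsConj d y) y = {d₀, d₀⁻¹} := by
      ext d
      simp only [Finset.bipartiteAbove, Finset.mem_filter, hmemt, Finset.mem_insert,
        Finset.mem_singleton]
      constructor
      · rintro ⟨⟨hd1, hdM⟩, hconj⟩
        obtain ⟨u, hu⟩ := isConj_iff.1 hconj
        have h1 : (g * u) * d * (g * u)⁻¹ = d₀ := by
          rw [hd₀, ← hu]; group
        have h2 : (g * u) * d * (g * u)⁻¹ ∈ M := by rw [h1]; exact hg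
        rcases h.conj_in_cent hyp hdM hd1 h2 with h3 | h3
        · left; rw [← h3, h1]
        · right; rw [← h1, h3, inv_inv]
      · rintro (rfl | rfl)
        · refine ⟨⟨hd₀1, hg⟩, ?_⟩
          rw [isConj_iff]
          exact ⟨g⁻¹, by rw [hd₀]; group⟩
        · refine ⟨⟨inv_ne_one.2 hd₀1, inv_mem hg⟩, ?_⟩
          rw [isConj_iff]
          refine ⟨g⁻¹ * a, ?_⟩
          have := h.inverts hyp d₀ hg
          have e : a * d₀⁻¹ * a⁻¹ = d₀ := by
            have h5 : a * d₀⁻¹ * a⁻¹ = (a * d₀ * a⁻¹)⁻¹ := by group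
            rw [h5, this, inv_inv]
          calc g⁻¹ * a * d₀⁻¹ * (g⁻¹ * a)⁻¹ = g⁻¹ * (a * d₀⁻¹ * a⁻¹) * g := by group
            _ = y := by rw [e, hd₀]; group
    rw [this, Finset.card_pair hne]
  have hR : ∀ d ∈ t, ((TT c).bipartiteBelow (fun y d => IsConj d y) d).card * k = Fintype.card G := by
    intro d hd
    obtain ⟨hd1, hdM⟩ := (hmemt d).1 hd
    have : (TT c).bipartiteBelow (fun y d => IsConj d y) d = Finset.univ.filter (fun y => IsConj d y) := by
      ext y
      simp only [Finset.bipartiteBelow, Finset.mem_filter, Finset.mem_univ, true_and]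
      constructor
      · exact fun h1 => h1.2
      · intro h1
        refine ⟨?_, h1⟩
        obtain ⟨u, hu⟩ := isConj_iff.1 h1
        rw [mem_TT]
        refine ⟨by rw [← hu]; exact conj_ne_one hd1, u⁻¹, ?_⟩
        have : u⁻¹ * y * u⁻¹⁻¹ = d := by rw [← hu]; group
        rw [this]; exact hdM
    rw [this]
    have h2 := card_conj_mul_card_centralizer d
    rw [h.cent_eq hyp hdM hd1, Nat.card_eq_fintype_card (α := G), Nat.card_eq_fintype_card,
      Fintype.card_subtype] at h2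
    exact h2
  rw [Finset.sum_congr rfl hL, Finset.sum_const, smul_eq_mul] at key
  have : 2 * (TT c).card * k = ∑ d ∈ t, ((TT c).bipartiteBelow (fun y d => IsConj d y) d).card * k := by
    rw [← Finset.sum_mul, ← key]; ring
  rw [this, Finset.sum_congr rfl hR, Finset.sum_const, smul_eq_mul, ht]


omit [Fintype G] in
theorem arith2 (k₁ k₂ : ℕ) (h1 : 3 ≤ k₁) (h2 : 3 ≤ k₂) (d1 : k₁ ∣ 2 * k₂ - 1) (d2 : k₂ ∣ 2 * k₁ - 1) :
    k₁ + k₂ = 8 := by
  have key : ∀ a b : ℕ, 3 ≤ a → 3 ≤ b → a ≤ b → a ∣ 2 * b - 1 → b ∣ 2 * a - 1 → a + b = 8 := by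
    intro a b ha hb hab da db
    obtain ⟨j, hj⟩ := db
    have hj1 : j = 1 := by
      rcases j with _ | _ | j
      · omega
      · rfl
      · exfalso
        have : b * (j + 1 + 1) ≥ 2 * b := by nlinarith
        omega
    subst hj1
    have hb' : b = 2 * a - 1 := by omega
    have h3 : 2 * b - 1 = 4 * a - 3 := by omega
    rw [h3] at da
    have h4 : a ∣ 3 := by
      have h5 : a ∣ 4 * a := dvd_mul_left a 4
      have h6 : 4 * a = (4 * a - 3) + 3 := by omega
      rw [h6] at h5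
      exact (Nat.dvd_add_right da).1 h5
    have h7 : a ≤ 3 := Nat.le_of_dvd (by norm_num) h4
    omega
  rcases le_total k₁ k₂ with h | h
  · exact key k₁ k₂ h1 h2 h d1 d2
  · have := key k₂ k₁ h2 h1 h d2 d1
    omega

theorem type_facts (hyp : Hyp G) {c a : G} (h : Inv c a) {n : ℕ} (hG : Fintype.card G = 4 * n) :
    3 ≤ Nat.card (centralizer ({c} : Set G)) ∧ Odd (Nat.card (centralizer ({c} : Set G))) ∧
    Nat.card (centralizer ({c} : Set G)) ∣ 4 * n ∧
    (TT c).card * Nat.card (centralizer ({c} : Set G)) =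
      2 * n * (Nat.card (centralizer ({c} : Set G)) - 1) ∧
    ∑ y ∈ TT c, Nat.card (centralizer ({y} : Set G)) =
      2 * n * (Nat.card (centralizer ({c} : Set G)) - 1) ∧
    4 * n ≤ 3 * (TT c).card := by
  have hodd := h.odd_card hyp
  have hcard := card_TT hyp h
  set k := Nat.card (centralizer ({c} : Set G)) with hk
  have hk2 : 2 ≤ k := by
    rw [hk]
    have : Nontrivial (centralizer ({c} : Set G)) := by
      refine ⟨⟨⟨c, mem_cent.2 rfl⟩, 1, ?_⟩⟩
      intro h1
      exact h.hne (congrArg Subtype.val h1)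
    exact Finite.one_lt_card
  have hk3 : 3 ≤ k := by
    obtain ⟨j, hj⟩ := hodd
    omega
  have hdvd : k ∣ 4 * n := by
    rw [← hG, ← Nat.card_eq_fintype_card]
    exact Subgroup.card_subgroup_dvd_card _
  have hT : (TT c).card * k = 2 * n * (k - 1) := by
    rw [hG] at hcard
    have : 2 * ((TT c).card * k) = 2 * (2 * n * (k - 1)) := by
      calc 2 * ((TT c).card * k) = 2 * (TT c).card * k := by ring
        _ = (k - 1) * (4 * n) := hcard
        _ = 2 * (2 * n * (k - 1)) := by ring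
    exact Nat.eq_of_mul_eq_mul_left (by norm_num) this
  refine ⟨hk3, hodd, hdvd, hT, ?_, ?_⟩
  · rw [← hT]
    rw [Finset.sum_congr rfl (fun y hy => (TT_inv hyp h hy).2), Finset.sum_const, smul_eq_mul]
  · have h1 : 3 * (TT c).card * k = 6 * n * (k - 1) := by
      calc 3 * (TT c).card * k = 3 * ((TT c).card * k) := by ring
        _ = 6 * n * (k - 1) := by rw [hT]; ring
    have h2 : 4 * n * k ≤ 3 * (TT c).card * k := by
      rw [h1]
      obtain ⟨j, hj⟩ : ∃ j, k = j + 3 := ⟨k - 3, by omega⟩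
      rw [hj]
      have : j + 3 - 1 = j + 2 := by omega
      rw [this]
      nlinarith
    exact Nat.le_of_mul_le_mul_right h2 (by omega)

open Classical in
theorem card_eq (hyp : Hyp G) (hconj : ∀ s t : G, orderOf s = 2 → orderOf t = 2 → IsConj s t)
    (x : G) (hx : orderOf x = 2) :
    (Fintype.card G = 12 ∧ (invs G).card = 3) ∨ (Fintype.card G = 60 ∧ (invs G).card = 15) := by
  set n := (invs G).card with hn
  have hxI : x ∈ invs G := mem_invs.2 hx
  have hG : Fintype.card G = 4 * n := by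
    have h1 := card_conj_mul_card_centralizer x
    rw [(hyp x hx).1, Nat.card_eq_fintype_card (α := G), Nat.card_eq_fintype_card,
      Fintype.card_subtype] at h1
    have : Finset.univ.filter (fun v => IsConj x v) = invs G := by
      ext v
      simp only [Finset.mem_filter, Finset.mem_univ, true_and, mem_invs]
      constructor
      · intro h2
        rw [← orderOf_of_isConj h2, hx]
      · intro h2
        exact hconj x v hx h2
    rw [this] at h1
    rw [← h1, hn]; ring
  have hn3 : 3 ≤ n := by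
    rw [← card_commuting hyp hxI]
    exact Finset.card_filter_le _ _
  have E1 := sum_card_cent hyp
  rw [← hn] at E1
  have E2 : (RR G).card + n + 1 ≤ 4 * n := by
    have hd : Disjoint (RR G) (insert 1 (invs G)) := by
      rw [Finset.disjoint_left]
      intro c hc hc'
      obtain ⟨a, ha⟩ := mem_RR.1 hc
      rw [Finset.mem_insert, mem_invs] at hc'
      rcases hc' with h1 | h1
      · exact ha.hne h1
      · have := ha.hodd
        rw [h1] at this
        exact absurd this (by decide)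
    have h1 : (RR G ∪ insert 1 (invs G)).card ≤ Fintype.card G := Finset.card_le_univ _
    rw [Finset.card_union_of_disjoint hd, Finset.card_insert_of_notMem, hG] at h1
    · omega
    · rw [mem_invs, orderOf_one]; norm_num
  by_cases h0 : RR G = ∅
  · left
    rw [h0, Finset.sum_empty] at E1
    have : n - 3 = 0 := by
      rcases Nat.eq_zero_or_pos (n - 3) with h | h
      · exact h
      · exfalso
        have : 0 < n * (n - 3) := Nat.mul_pos (by omega) h
        omega
    have hn' : n = 3 := by omega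
    exact ⟨by rw [hG, hn'], hn'⟩
  obtain ⟨c₁, hc₁⟩ := Finset.nonempty_iff_ne_empty.2 h0
  obtain ⟨a₁, hi₁⟩ := mem_RR.1 hc₁
  obtain ⟨hk₁, hodd₁, hdvd₁, hT₁, hS₁, hB₁⟩ := type_facts hyp hi₁ hG
  have hsub₁ := TT_subset hyp hi₁
  set k₁ := Nat.card (centralizer ({c₁} : Set G)) with hk₁def
  by_cases h1 : RR G \ TT c₁ = ∅
  · exfalso
    have hR : RR G = TT c₁ := Finset.Subset.antisymm (Finset.sdiff_eq_empty_iff_subset.1 h1) hsub₁
    rw [hR, hS₁] at E1
    have h2 : n * (2 * (k₁ - 1)) = n * (n - 3) := by rw [← E1]; ring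
    have h3 : 2 * (k₁ - 1) = n - 3 := Nat.eq_of_mul_eq_mul_left (by omega) h2
    have h4 : 4 * n = 8 * k₁ + 4 := by omega
    rw [h4] at hdvd₁
    have h5 : k₁ ∣ 4 := (Nat.dvd_add_right (dvd_mul_left k₁ 8)).1 hdvd₁
    have h6 : k₁ ≤ 4 := Nat.le_of_dvd (by norm_num) h5
    obtain ⟨j, hj⟩ := hodd₁
    have : k₁ = 3 := by omega
    rw [this] at h5
    omega
  obtain ⟨c₂, hc₂⟩ := Finset.nonempty_iff_ne_empty.2 h1
  rw [Finset.mem_sdiff] at hc₂
  obtain ⟨a₂, hi₂⟩ := mem_RR.1 hc₂.1
  obtain ⟨hk₂, hodd₂, hdvd₂, hT₂, hS₂, hB₂⟩ := type_facts hyp hi₂ hG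
  have hsub₂ := TT_subset hyp hi₂
  have hd₁₂ := TT_disjoint hyp hi₁ hi₂ hc₂.2
  set k₂ := Nat.card (centralizer ({c₂} : Set G)) with hk₂def
  by_cases h2 : RR G \ (TT c₁ ∪ TT c₂) = ∅
  · right
    have hR : RR G = TT c₁ ∪ TT c₂ :=
      Finset.Subset.antisymm (Finset.sdiff_eq_empty_iff_subset.1 h2) (Finset.union_subset hsub₁ hsub₂)
    rw [hR, Finset.sum_union hd₁₂, hS₁, hS₂] at E1
    have h3 : n * (2 * (k₁ - 1) + 2 * (k₂ - 1)) = n * (n - 3) := by rw [← E1]; ring
    have h4 : 2 * (k₁ - 1) + 2 * (k₂ - 1) = n - 3 := Nat.eq_of_mul_eq_mul_left (by omega) h3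
    have h5 : 4 * n = 8 * k₁ + 4 * (2 * k₂ - 1) := by omega
    have h6 : 4 * n = 8 * k₂ + 4 * (2 * k₁ - 1) := by omega
    have d1 : k₁ ∣ 2 * k₂ - 1 := by
      rw [h5] at hdvd₁
      have h7 : k₁ ∣ 4 * (2 * k₂ - 1) := (Nat.dvd_add_right (dvd_mul_left k₁ 8)).1 hdvd₁
      have hc : Nat.Coprime k₁ 4 := by
        have : Nat.Coprime k₁ 2 := Nat.coprime_two_right.mpr hodd₁
        exact Nat.Coprime.pow_right 2 this
      exact hc.dvd_of_dvd_mul_left h7
    have d2 : k₂ ∣ 2 * k₁ - 1 := by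
      rw [h6] at hdvd₂
      have h7 : k₂ ∣ 4 * (2 * k₁ - 1) := (Nat.dvd_add_right (dvd_mul_left k₂ 8)).1 hdvd₂
      have hc : Nat.Coprime k₂ 4 := by
        have : Nat.Coprime k₂ 2 := Nat.coprime_two_right.mpr hodd₂
        exact Nat.Coprime.pow_right 2 this
      exact hc.dvd_of_dvd_mul_left h7
    have h8 := arith2 k₁ k₂ hk₁ hk₂ d1 d2
    have hn' : n = 15 := by omega
    exact ⟨by rw [hG, hn'], hn'⟩
  exfalso
  obtain ⟨c₃, hc₃⟩ := Finset.nonempty_iff_ne_empty.2 h2
  rw [Finset.mem_sdiff, Finset.mem_union, not_or] at hc₃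
  obtain ⟨a₃, hi₃⟩ := mem_RR.1 hc₃.1
  obtain ⟨hk₃, hodd₃, hdvd₃, hT₃, hS₃, hB₃⟩ := type_facts hyp hi₃ hG
  have hsub₃ := TT_subset hyp hi₃
  have hd₁₃ := TT_disjoint hyp hi₁ hi₃ hc₃.2.1
  have hd₂₃ := TT_disjoint hyp hi₂ hi₃ hc₃.2.2
  have hle : (TT c₁ ∪ TT c₂ ∪ TT c₃).card ≤ (RR G).card :=
    Finset.card_le_card (Finset.union_subset (Finset.union_subset hsub₁ hsub₂) hsub₃)
  rw [Finset.card_union_of_disjoint (Finset.disjoint_union_left.2 ⟨hd₁₃, hd₂₃⟩),
    Finset.card_union_of_disjoint hd₁₂] at hle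
  omega

end Count

end Cfsg.Agent.Lib.Helper4.FC
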