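import Cfsg.Agent.Lib.Helper4.Dihedral
import Cfsg.Agent.Lib.Helper4.Conj
import Cfsg.Agent.S0206

set_option autoImplicit false

namespace Cfsg.Agent.Lib.Helper4

theorem isPGroup_closure_pair {G : Type*} [Group G] (x y : G) (hx : orderOf x = 2)
    (hy : orderOf y = 2) (k : ℕ) (h : orderOf (x * y) = 2 ^ k) :
    IsPGroup 2 (Subgroup.closure ({x, y} : Set G)) := by
  haveI : Fact (Nat.Prime 2) := ⟨Nat.prime_two⟩
  apply IsPGroup.of_card (n := k + 1)
  rw [Cfsg.Agent.S0206.card_closure_pair x y hx hy, h, pow_succ, mul_comm]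

/-- Two commuting involutions lie in a common Sylow 2-subgroup. -/
theorem exists_sylow_of_commuting_involutions {G : Type*} [Group G] [Finite G] (s z : G)
    (hs : orderOf s = 2) (hz : orderOf z = 2) (hc : Commute s z) :
    ∃ Q : Sylow 2 G, s ∈ (Q : Subgroup G) ∧ z ∈ (Q : Subgroup G) := by
  haveI : Fact (Nat.Prime 2) := ⟨Nat.prime_two⟩
  have hs' := mul_self_of_orderOf_two hs
  have hz' := mul_self_of_orderOf_two hz
  have hsq : (s * z) ^ 2 = 1 := by
    rw [hc.mul_pow, pow_two, pow_two, hs', hz', one_mul]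
  have hdvd : orderOf (s * z) ∣ 2 := orderOf_dvd_of_pow_eq_one hsq
  have hE : IsPGroup 2 (Subgroup.closure ({s, z} : Set G)) := by
    rcases (Nat.dvd_prime Nat.prime_two).1 hdvd with h | h
    · exact isPGroup_closure_pair s z hs hz 0 (by rw [h, pow_zero])
    · exact isPGroup_closure_pair s z hs hz 1 (by rw [h, pow_one])
  obtain ⟨Q, hQ⟩ := hE.exists_le_sylow
  exact ⟨Q, hQ (Subgroup.subset_closure (by simp)), hQ (Subgroup.subset_closure (by simp))⟩

/-- An involution lies in some Sylow 2-subgroup. -/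
theorem exists_sylow_of_involution {G : Type*} [Group G] [Finite G] (s : G)
    (hs : orderOf s = 2) : ∃ Q : Sylow 2 G, s ∈ (Q : Subgroup G) := by
  obtain ⟨Q, hQ, _⟩ := exists_sylow_of_commuting_involutions s s hs hs (Commute.refl s)
  exact ⟨Q, hQ⟩

end Cfsg.Agent.Lib.Helper4
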