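import Mathlib
import Cfsg.Prelude.Def_Transfer
import Cfsg.Prelude.Def_Solvable
import Cfsg.Agent.Lib.Helper87.PCore
import Cfsg.Agent.Lib.Helper29.ExtraTwo
import Cfsg.Agent.Lib.Helper29.DualityDC

set_option autoImplicit false

namespace Cfsg.Agent.Lib.Helper4.LX

open Cfsg Cfsg.Agent.Lib.Helper29

variable {G : Type*} [Group G]

/-- `Q x = O_2(C_G(x))` for all `x`. -/
def Spec (Q : G → Subgroup G) : Prop :=
  ∀ x : G, Q x = (Cfsg.pCore 2 ↥(Subgroup.centralizer ({x} : Set G))).map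
    (Subgroup.centralizer ({x} : Set G)).subtype

theorem cent_map_conj (g x : G) :
    (Subgroup.centralizer ({x} : Set G)).map (MulAut.conj g).toMonoidHom =
      Subgroup.centralizer ({g * x * g⁻¹} : Set G) := by
  ext y
  simp only [Subgroup.mem_map, Subgroup.mem_centralizer_iff, Set.mem_singleton_iff, forall_eq,
    MulEquiv.coe_toMonoidHom, MulAut.conj_apply]
  constructor
  · rintro ⟨c, hc, rfl⟩
    calc g * x * g⁻¹ * (g * c * g⁻¹) = g * (x * c) * g⁻¹ := by group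
      _ = g * (c * x) * g⁻¹ := by rw [hc]
      _ = g * c * g⁻¹ * (g * x * g⁻¹) := by group
  · intro hy
    refine ⟨g⁻¹ * y * g, ?_, by group⟩
    calc x * (g⁻¹ * y * g) = g⁻¹ * (g * x * g⁻¹ * y) * g := by group
      _ = g⁻¹ * (y * (g * x * g⁻¹)) * g := by rw [hy]
      _ = g⁻¹ * y * g * x := by group

variable {Q : G → Subgroup G}

theorem Q_conj (hQ : Spec Q) (g x : G) :
    (Q x).map (MulAut.conj g).toMonoidHom = Q (g * x * g⁻¹) := by
  rw [hQ x, hQ (g * x * g⁻¹)]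
  exact Cfsg.Agent.Lib.Helper87.pCore_map_subtype_equiv (p := 2) (MulAut.conj g) _ _
    (cent_map_conj g x)

theorem mem_Q_conj (hQ : Spec Q) (g : G) {x y : G} (hy : y ∈ Q x) :
    g * y * g⁻¹ ∈ Q (g * x * g⁻¹) := by
  rw [← Q_conj hQ g x]
  exact ⟨y, hy, by simp⟩

theorem mem_Q_conj_iff (hQ : Spec Q) (g x y : G) :
    y ∈ Q (g * x * g⁻¹) ↔ g⁻¹ * y * g ∈ Q x := by
  constructor
  · intro hy
    have h := mem_Q_conj hQ g⁻¹ hy
    have e : g⁻¹ * (g * x * g⁻¹) * g⁻¹⁻¹ = x := by group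
    rw [e] at h
    simpa using h
  · intro hy
    have h := mem_Q_conj hQ g hy
    have e : g * (g⁻¹ * y * g) * g⁻¹ = y := by group
    rwa [e] at h

theorem Q_comm (hQ : Spec Q) {x y : G} (hy : y ∈ Q x) : y * x = x * y := by
  rw [hQ x] at hy
  obtain ⟨c, -, rfl⟩ := hy
  have := c.2
  rw [Subgroup.mem_centralizer_iff] at this
  exact (this x rfl).symm

theorem Q_normal (hQ : Spec Q) {x c y : G} (hc : c * x = x * c) (hy : y ∈ Q x) :
    c * y * c⁻¹ ∈ Q x := by
  have h := mem_Q_conj hQ c hy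
  have e : c * x * c⁻¹ = x := by rw [hc]; group
  rwa [e] at h

theorem Q_normal' (hQ : Spec Q) {x c y : G} (hc : c * x = x * c) (hy : y ∈ Q x) :
    c⁻¹ * y * c ∈ Q x := by
  have hc' : c⁻¹ * x = x * c⁻¹ := by
    calc c⁻¹ * x = c⁻¹ * (x * c) * c⁻¹ := by group
      _ = c⁻¹ * (c * x) * c⁻¹ := by rw [hc]
      _ = x * c⁻¹ := by group
  simpa using Q_normal hQ hc' hy

theorem card_Q_conj [Finite G] (hQ : Spec Q) (g x : G) :
    Nat.card (Q (g * x * g⁻¹)) = Nat.card (Q x) := by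
  rw [← Q_conj hQ g x]
  exact Subgroup.card_map_of_injective (MulAut.conj g).injective

/-- The element-level description of "`Q x` is extraspecial with centre `⟨x⟩` and
self-centralizing". -/
structure LE (Q : G → Subgroup G) (x : G) : Prop where
  ne : x ≠ 1
  sq : x * x = 1
  mem : x ∈ Q x
  comm : ∀ a ∈ Q x, ∀ b ∈ Q x, a * b * a⁻¹ * b⁻¹ = 1 ∨ a * b * a⁻¹ * b⁻¹ = x
  sqr : ∀ a ∈ Q x, a * a = 1 ∨ a * a = x
  cent : ∀ a : G, (∀ b ∈ Q x, a * b = b * a) → a = 1 ∨ a = x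

theorem LE.of_hyp (hQ : Spec Q) {z : G} (hz : orderOf z = 2)
    (hE : Cfsg.IsExtraspecial 2 ↥(Q z))
    (hC : Subgroup.centralizer ((Q z : Subgroup G) : Set G) ≤ Q z) : LE Q z := by
  have hz1 : z ≠ 1 := by
    intro h; rw [h, orderOf_one] at hz; omega
  have hzz : z * z = 1 := by
    have := pow_orderOf_eq_one z
    rwa [hz, pow_two] at this
  have hzQ : z ∈ Q z := by
    apply hC
    rw [Subgroup.mem_centralizer_iff]
    intro b hb
    exact Q_comm hQ hb
  obtain ⟨⟨_, _, hcomm⟩, hc⟩ := hE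
  obtain ⟨z', hz'⟩ := IsE2.exists_of_card hc hcomm.le
  have hzc : (⟨z, hzQ⟩ : ↥(Q z)) ∈ Subgroup.center ↥(Q z) := by
    rw [Subgroup.mem_center_iff]
    intro b
    apply Subtype.ext
    exact Q_comm hQ b.2
  have hzz' : z' = ⟨z, hzQ⟩ := by
    rcases hz'.all _ hzc with h | h
    · exact absurd (congrArg Subtype.val h) hz1
    · exact h.symm
  subst hzz'
  refine ⟨hz1, hzz, hzQ, ?_, ?_, ?_⟩
  · intro a ha b hb
    rcases hz'.cm_cases ⟨a, ha⟩ ⟨b, hb⟩ with h | h
    · left; exact congrArg Subtype.val h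
    · right; exact congrArg Subtype.val h
  · intro a ha
    rcases hz'.sq_cases ⟨a, ha⟩ with h | h
    · left; exact congrArg Subtype.val h
    · right; exact congrArg Subtype.val h
  · intro a ha
    have haQ : a ∈ Q z := by
      apply hC
      rw [Subgroup.mem_centralizer_iff]
      intro b hb
      exact (ha b hb).symm
    have hac : (⟨a, haQ⟩ : ↥(Q z)) ∈ Subgroup.center ↥(Q z) := by
      rw [Subgroup.mem_center_iff]
      intro b
      apply Subtype.ext
      exact (ha b b.2).symm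
    rcases hz'.all _ hac with h | h
    · left; exact congrArg Subtype.val h
    · right; exact congrArg Subtype.val h

theorem LE.conj (hQ : Spec Q) {x : G} (h : LE Q x) (g : G) : LE Q (g * x * g⁻¹) := by
  have key : ∀ a, a ∈ Q (g * x * g⁻¹) ↔ g⁻¹ * a * g ∈ Q x := mem_Q_conj_iff hQ g x
  refine ⟨?_, ?_, mem_Q_conj hQ g h.mem, ?_, ?_, ?_⟩
  · intro e
    apply h.ne
    calc x = g⁻¹ * (g * x * g⁻¹) * g := by group
      _ = 1 := by rw [e]; group
  · calc g * x * g⁻¹ * (g * x * g⁻¹) = g * (x * x) * g⁻¹ := by group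
      _ = 1 := by rw [h.sq]; group
  · intro a ha b hb
    rcases h.comm _ ((key a).1 ha) _ ((key b).1 hb) with e | e
    · left
      calc a * b * a⁻¹ * b⁻¹
          = g * (g⁻¹ * a * g * (g⁻¹ * b * g) * (g⁻¹ * a * g)⁻¹ * (g⁻¹ * b * g)⁻¹) * g⁻¹ := by group
        _ = 1 := by rw [e]; group
    · right
      calc a * b * a⁻¹ * b⁻¹
          = g * (g⁻¹ * a * g * (g⁻¹ * b * g) * (g⁻¹ * a * g)⁻¹ * (g⁻¹ * b * g)⁻¹) * g⁻¹ := by group
        _ = g * x * g⁻¹ := by rw [e]
  · intro a ha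
    rcases h.sqr _ ((key a).1 ha) with e | e
    · left
      calc a * a = g * (g⁻¹ * a * g * (g⁻¹ * a * g)) * g⁻¹ := by group
        _ = 1 := by rw [e]; group
    · right
      calc a * a = g * (g⁻¹ * a * g * (g⁻¹ * a * g)) * g⁻¹ := by group
        _ = g * x * g⁻¹ := by rw [e]
  · intro a ha
    have : ∀ b ∈ Q x, g⁻¹ * a * g * b = b * (g⁻¹ * a * g) := by
      intro b hb
      have hb' : g * b * g⁻¹ ∈ Q (g * x * g⁻¹) := mem_Q_conj hQ g hb
      have e := ha _ hb'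
      calc g⁻¹ * a * g * b = g⁻¹ * (a * (g * b * g⁻¹)) * g := by group
        _ = g⁻¹ * (g * b * g⁻¹ * a) * g := by rw [e]
        _ = b * (g⁻¹ * a * g) := by group
    rcases h.cent _ this with e | e
    · left
      calc a = g * (g⁻¹ * a * g) * g⁻¹ := by group
        _ = 1 := by rw [e]; group
    · right
      calc a = g * (g⁻¹ * a * g) * g⁻¹ := by group
        _ = g * x * g⁻¹ := by rw [e]

end Cfsg.Agent.Lib.Helper4.LX
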