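import Mathlib
import Cfsg.Agent.Lib.Helper4.LargeExtra

set_option autoImplicit false

namespace Cfsg.Agent.Lib.Helper4.LX

open Cfsg

variable {G : Type*} [Group G] {Q : G → Subgroup G}

theorem LE.inv_eq {x : G} (h : LE Q x) : x⁻¹ = x := inv_eq_of_mul_eq_one_right h.sq

/-- A noncentral element of `Q z1` is moved by some `q0 ∈ Q z1`. -/
theorem LE.exists_move {z1 z2 : G} (h1 : LE Q z1) (h21 : z2 ∈ Q z1) (hne1 : z2 ≠ 1)
    (hne : z2 ≠ z1) : ∃ q0 ∈ Q z1, q0 * z2 * q0⁻¹ * z2⁻¹ = z1 := by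
  by_contra hcon
  push Not at hcon
  have : ∀ b ∈ Q z1, z2 * b = b * z2 := by
    intro b hb
    rcases h1.comm b hb z2 h21 with e | e
    · calc z2 * b = (b * z2 * b⁻¹ * z2⁻¹)⁻¹ * (b * z2) := by group
        _ = b * z2 := by rw [e]; group
    · exact absurd e (hcon b hb)
  rcases h1.cent z2 this with e | e
  · exact hne1 e
  · exact hne e

/-- Double centralizer in `Q z1` of a noncentral element `z2`. -/
theorem LE.double_cent (hQ : Spec Q) {z1 z2 : G} (h1 : LE Q z1) (h21 : z2 ∈ Q z1)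
    (hne1 : z2 ≠ 1) (hne : z2 ≠ z1) {y : G} (hy : y ∈ Q z1)
    (hys : ∀ s ∈ Q z1, s * z2 = z2 * s → s * y = y * s) :
    y = 1 ∨ y = z1 ∨ y = z2⁻¹ ∨ y = z1 * z2⁻¹ := by
  obtain ⟨q0, hq0, hq0z⟩ := h1.exists_move h21 hne1 hne
  have hz1y : y * z1 = z1 * y := Q_comm hQ hy
  have hz1z2 : z2 * z1 = z1 * z2 := Q_comm hQ h21
  have hz1q0 : q0 * z1 = z1 * q0 := Q_comm hQ hq0
  -- any q' not commuting with z2 differs from q0 by an element commuting with z2
  have hcoset : ∀ q' ∈ Q z1, q' * z2 ≠ z2 * q' → (q0⁻¹ * q') * z2 = z2 * (q0⁻¹ * q') := by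
    intro q' hq' hne'
    have e' : q' * z2 * q'⁻¹ * z2⁻¹ = z1 := by
      rcases h1.comm q' hq' z2 h21 with e | e
      · exfalso; apply hne'
        calc q' * z2 = (q' * z2 * q'⁻¹ * z2⁻¹) * (z2 * q') := by group
          _ = z2 * q' := by rw [e]; group
      · exact e
    have e2 : q' * z2 * q'⁻¹ = q0 * z2 * q0⁻¹ := by
      calc q' * z2 * q'⁻¹ = (q' * z2 * q'⁻¹ * z2⁻¹) * z2 := by group
        _ = (q0 * z2 * q0⁻¹ * z2⁻¹) * z2 := by rw [e', hq0z]
        _ = q0 * z2 * q0⁻¹ := by group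
    calc (q0⁻¹ * q') * z2 = q0⁻¹ * (q' * z2 * q'⁻¹) * q' := by group
      _ = q0⁻¹ * (q0 * z2 * q0⁻¹) * q' := by rw [e2]
      _ = z2 * (q0⁻¹ * q') := by group
  by_cases hcy : q0 * y = y * q0
  · -- y is central
    have hall : ∀ b ∈ Q z1, y * b = b * y := by
      intro b hb
      by_cases hb2 : b * z2 = z2 * b
      · exact (hys b hb hb2).symm
      · have hs := hcoset b hb hb2
        have hs' := hys (q0⁻¹ * b) ((Q z1).mul_mem ((Q z1).inv_mem hq0) hb) hs
        calc y * b = y * q0 * (q0⁻¹ * b) := by group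
          _ = q0 * y * (q0⁻¹ * b) := by rw [hcy]
          _ = q0 * (y * (q0⁻¹ * b)) := by group
          _ = q0 * ((q0⁻¹ * b) * y) := by rw [hs']
          _ = b * y := by group
    rcases h1.cent y hall with e | e
    · exact Or.inl e
    · exact Or.inr (Or.inl e)
  · -- y * z2 is central
    have hcm : q0 * y * q0⁻¹ * y⁻¹ = z1 := by
      rcases h1.comm q0 hq0 y hy with e | e
      · exfalso; apply hcy
        calc q0 * y = (q0 * y * q0⁻¹ * y⁻¹) * (y * q0) := by group
          _ = y * q0 := by rw [e]; group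
      · exact e
    have hq0w : q0 * (y * z2) = (y * z2) * q0 := by
      have e1 : q0 * y = z1 * y * q0 := by
        calc q0 * y = (q0 * y * q0⁻¹ * y⁻¹) * y * q0 := by group
          _ = z1 * y * q0 := by rw [hcm]
      have e2 : q0 * z2 = z1 * z2 * q0 := by
        calc q0 * z2 = (q0 * z2 * q0⁻¹ * z2⁻¹) * z2 * q0 := by group
          _ = z1 * z2 * q0 := by rw [hq0z]
      calc q0 * (y * z2) = (q0 * y) * z2 := by group
        _ = z1 * y * q0 * z2 := by rw [e1]
        _ = z1 * y * (q0 * z2) := by group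
        _ = z1 * y * (z1 * z2 * q0) := by rw [e2]
        _ = z1 * (y * z1) * z2 * q0 := by group
        _ = z1 * (z1 * y) * z2 * q0 := by rw [hz1y]
        _ = (z1 * z1) * y * z2 * q0 := by group
        _ = (y * z2) * q0 := by rw [h1.sq]; group
    have hall : ∀ b ∈ Q z1, (y * z2) * b = b * (y * z2) := by
      intro b hb
      have hcomm_s : ∀ s ∈ Q z1, s * z2 = z2 * s → (y * z2) * s = s * (y * z2) := by
        intro s hs hs2
        have := hys s hs hs2
        calc (y * z2) * s = y * (z2 * s) := by group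
          _ = y * (s * z2) := by rw [hs2]
          _ = (y * s) * z2 := by group
          _ = (s * y) * z2 := by rw [this]
          _ = s * (y * z2) := by group
      by_cases hb2 : b * z2 = z2 * b
      · exact hcomm_s b hb hb2
      · have hs := hcoset b hb hb2
        have hs' := hcomm_s (q0⁻¹ * b) ((Q z1).mul_mem ((Q z1).inv_mem hq0) hb) hs
        calc (y * z2) * b = (y * z2) * q0 * (q0⁻¹ * b) := by group
          _ = q0 * (y * z2) * (q0⁻¹ * b) := by rw [hq0w]
          _ = q0 * ((y * z2) * (q0⁻¹ * b)) := by group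
          _ = q0 * ((q0⁻¹ * b) * (y * z2)) := by rw [hs']
          _ = b * (y * z2) := by group
    rcases h1.cent (y * z2) hall with e | e
    · right; right; left
      calc y = (y * z2) * z2⁻¹ := by group
        _ = z2⁻¹ := by rw [e]; group
    · right; right; right
      calc y = (y * z2) * z2⁻¹ := by group
        _ = z1 * z2⁻¹ := by rw [e]

end Cfsg.Agent.Lib.Helper4.LX
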