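import Mathlib
import Cfsg.Agent.Lib.Helper4.LargeExtra3

set_option autoImplicit false

namespace Cfsg.Agent.Lib.Helper4.LX

open Cfsg

variable {G : Type*} [Group G] {Q : G → Subgroup G}

/-- For two distinct mutually orthogonal singular elements, `Q u1 ∩ Q u2 ≤ Q (u1 u2)`. -/
theorem LE.inter_le_mul (hQ : Spec Q) {u1 u2 : G} (h1 : LE Q u1) (h2 : LE Q u2)
    (h12 : u1 ∈ Q u2) (h21 : u2 ∈ Q u1) (hne : u1 ≠ u2) {y : G} (hy1 : y ∈ Q u1)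
    (hy2 : y ∈ Q u2) : y ∈ Q (u1 * u2) := by
  obtain ⟨b, hb, hbu⟩ := h2.exists_move h12 h1.ne hne
  have hcomm : u1 * u2 = u2 * u1 := Q_comm hQ h12
  have e1 : b * u1 * b⁻¹ = u1 * u2 := by
    calc b * u1 * b⁻¹ = (b * u1 * b⁻¹ * u1⁻¹) * u1 := by group
      _ = u2 * u1 := by rw [hbu]
      _ = u1 * u2 := hcomm.symm
  have hy' : b⁻¹ * y * b ∈ Q u1 := by
    have e : b⁻¹ * y * b = y * (y⁻¹ * b⁻¹ * y⁻¹⁻¹ * b⁻¹⁻¹) := by group
    rw [e]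
    apply (Q u1).mul_mem hy1
    rcases h2.comm y⁻¹ ((Q u2).inv_mem hy2) b⁻¹ ((Q u2).inv_mem hb) with e' | e'
    · rw [e']; exact (Q u1).one_mem
    · rw [e']; exact h21
  have := mem_Q_conj hQ b hy'
  rw [e1] at this
  have e : b * (b⁻¹ * y * b) * b⁻¹ = y := by group
  rwa [e] at this

end Cfsg.Agent.Lib.Helper4.LX
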