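import Mathlib
import Cfsg.Agent.Lib.Helper4.LargeExtra4

set_option autoImplicit false

namespace Cfsg.Agent.Lib.Helper4.LX

open Cfsg Cfsg.Agent.Lib.Helper29
open scoped commutatorElement

variable {G : Type*} [Group G] {Q : G → Subgroup G}

theorem LE.isE2 (hQ : Spec Q) {u : G} (h : LE Q u) : IsE2 ↥(Q u) ⟨u, h.mem⟩ := by
  have hcen : (⟨u, h.mem⟩ : ↥(Q u)) ∈ Subgroup.center ↥(Q u) := by
    rw [Subgroup.mem_center_iff]
    intro b
    apply Subtype.ext
    exact Q_comm hQ b.2
  refine ⟨hcen, fun e => h.ne (congrArg Subtype.val e), ?_, ?_⟩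
  · intro w hw
    have : ∀ b ∈ Q u, (w : G) * b = b * w := by
      intro b hb
      have := Subgroup.mem_center_iff.1 hw ⟨b, hb⟩
      exact (congrArg Subtype.val this).symm
    rcases h.cent w this with e | e
    · left; exact Subtype.ext e
    · right; exact Subtype.ext e
  · rw [commutator_def, Subgroup.commutator_le]
    intro g1 _ g2 _
    have e : ⁅g1, g2⁆ = g1 * g2 * g1⁻¹ * g2⁻¹ := commutatorElement_def g1 g2
    rcases h.comm g1 g1.2 g2 g2.2 with e' | e'
    · have : ⁅g1, g2⁆ = 1 := by rw [e]; exact Subtype.ext e'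
      rw [this]; exact Subgroup.one_mem _
    · have : ⁅g1, g2⁆ = ⟨u, h.mem⟩ := by rw [e]; exact Subtype.ext e'
      rw [this]; exact hcen

/-- Double centralizer consequence: an element of `Q u` outside a subgroup `U ∋ u` of `Q u`
is moved by an element of `Q u` centralizing `U`. -/
theorem LE.exists_cent_move [Finite G] (hQ : Spec Q) {u : G} (h : LE Q u) (U : Subgroup G)
    (hUle : U ≤ Q u) (huU : u ∈ U) {x : G} (hx : x ∈ Q u) (hxU : x ∉ U) :
    ∃ g ∈ Q u, (∀ v ∈ U, v * g = g * v) ∧ g * x * g⁻¹ * x⁻¹ = u := by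
  have hE := h.isE2 hQ
  let D : Subgroup ↥(Q u) := U.subgroupOf (Q u)
  have hcenD : Subgroup.center ↥(Q u) ≤ D := by
    intro w hw
    rcases hE.all w hw with e | e
    · rw [e]; exact D.one_mem
    · rw [e]; exact Subgroup.mem_subgroupOf.2 huU
  by_contra hcon
  push Not at hcon
  apply hxU
  have hxD : (⟨x, hx⟩ : ↥(Q u)) ∈ D := by
    refine mem_of_commute_centralizer (p := 2) hE.card_center
      (fun a q => pairHom hE.comm a q) ?_ ?_ ?_ D hcenD ⟨x, hx⟩ ?_
    · intro a b q; exact pairHom_mul hE.comm a b q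
    · intro a q q'; exact map_mul (pairHom hE.comm a) q q'
    · intro a q; exact pairHom_eq_one_iff hE.comm a q
    · intro y hy
      by_contra hne
      have hyc : ∀ v ∈ U, v * (y : G) = y * v := by
        intro v hv
        have := hy ⟨v, hUle hv⟩ (Subgroup.mem_subgroupOf.2 hv)
        exact (congrArg Subtype.val this).symm
      apply hcon y y.2 hyc
      rcases h.comm y y.2 x hx with e | e
      · exfalso; apply hne
        apply Subtype.ext
        show x * (y : G) = y * x
        calc x * (y : G) = ((y : G) * x * (y : G)⁻¹ * x⁻¹)⁻¹ * (y * x) := by group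
          _ = y * x := by rw [e]; group
      · exact e
  exact Subgroup.mem_subgroupOf.1 hxD

end Cfsg.Agent.Lib.Helper4.LX
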