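import Cfsg.Agent.Lib.Helper4.LcDefs

set_option autoImplicit false
open Matrix

namespace Cfsg.Agent.Lib.Helper4.Lc

variable {Λ : AddSubgroup V}

theorem lcbase_dot_single (v : V) (i : Fin 24) (s : ℤ) : dot v (Pi.single i s) = v i * s := by
  unfold dot
  rw [Finset.sum_eq_single i]
  · simp
  · intro j _ hj; simp [Pi.single_eq_of_ne hj]
  · intro hi; exact absurd (Finset.mem_univ i) hi

theorem lcbase_dot_add (v a b : V) : dot v (a + b) = dot v a + dot v b := by
  unfold dot
  rw [← Finset.sum_add_distrib]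
  apply Finset.sum_congr rfl
  intro i _
  simp [mul_add]

theorem lcbase_sq_single (i : Fin 24) (s : ℤ) : sq (Pi.single i s : V) = s ^ 2 := by
  unfold sq
  rw [Finset.sum_eq_single i]
  · simp
  · intro j _ hj; simp [Pi.single_eq_of_ne hj]
  · intro hi; exact absurd (Finset.mem_univ i) hi

theorem fr_e44s (h : Fr Λ) (i j : Fin 24) (hij : i ≠ j) (s t : ℤ) (hs : s = 4 ∨ s = -4)
    (ht : t = 4 ∨ t = -4) : (Pi.single i s + Pi.single j t : V) ∈ Λ := by
  have h0 := h.e44 i j hij
  have hi := h.e8 i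
  have hj := h.e8 j
  have e1 : (Pi.single i (-4) + Pi.single j 4 : V) = (Pi.single i 4 + Pi.single j 4) - Pi.single i 8 := by
    funext k
    by_cases hk : k = i
    · subst hk; simp [Pi.single_eq_of_ne hij]
    · simp [Pi.single_eq_of_ne hk]
  have e2 : (Pi.single i 4 + Pi.single j (-4) : V) = (Pi.single i 4 + Pi.single j 4) - Pi.single j 8 := by
    funext k
    by_cases hk : k = j
    · subst hk; simp [Pi.single_eq_of_ne (Ne.symm hij)]
    · simp [Pi.single_eq_of_ne hk]
  have e3 : (Pi.single i (-4) + Pi.single j (-4) : V) = -(Pi.single i 4 + Pi.single j 4) := by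
    funext k
    simp only [Pi.add_apply, Pi.neg_apply]
    by_cases hk : k = i
    · subst hk; simp [Pi.single_eq_of_ne hij]
    · by_cases hk' : k = j
      · subst hk'; simp [Pi.single_eq_of_ne hk]
      · simp [Pi.single_eq_of_ne hk, Pi.single_eq_of_ne hk']
  rcases hs with rfl | rfl <;> rcases ht with rfl | rfl
  · exact h0
  · rw [e2]; exact Λ.sub_mem h0 hj
  · rw [e1]; exact Λ.sub_mem h0 hi
  · rw [e3]; exact Λ.neg_mem h0

theorem fr_parity (h : Fr Λ) {v : V} (hv : v ∈ Λ) (i j : Fin 24) : (2 : ℤ) ∣ v i - v j := by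
  by_cases hij : i = j
  · subst hij; simp
  · have hm := fr_e44s h i j hij 4 (-4) (Or.inl rfl) (Or.inr rfl)
    have hd := h.dot8 v hv _ hm
    rw [lcbase_dot_add, lcbase_dot_single, lcbase_dot_single] at hd
    omega

theorem fr_even_or_odd (h : Fr Λ) {v : V} (hv : v ∈ Λ) : AllEven v ∨ AllOdd v := by
  by_cases h0 : (2 : ℤ) ∣ v 0
  · left
    intro i
    have := fr_parity h hv i 0
    omega
  · right
    intro i
    have := fr_parity h hv i 0
    omega

theorem fr_no4 (h : Fr Λ) (k : Fin 24) : (Pi.single k 4 : V) ∉ Λ := by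
  intro hk
  apply h.no16 _ hk
  rw [lcbase_sq_single]
  norm_num

theorem fr_M (h : Fr Λ) (y : V) (hy : (2 : ℤ) ∣ ∑ i, y i) : (fun i => 4 * y i : V) ∈ Λ := by
  obtain ⟨m, hm⟩ := hy
  have key : (fun i => 4 * y i : V) =
      (∑ i ∈ Finset.univ.erase (0 : Fin 24), y i • (Pi.single i 4 + Pi.single 0 (-4) : V))
        + m • (Pi.single 0 8 : V) := by
    funext k
    simp only [Pi.add_apply, Finset.sum_apply, Pi.smul_apply, smul_eq_mul]
    by_cases hk : k = 0
    · subst hk
      have : ∀ i ∈ Finset.univ.erase (0 : Fin 24),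
          y i * ((Pi.single i 4 : V) 0 + (Pi.single 0 (-4) : V) 0) = y i * (-4) := by
        intro i hi
        have hi0 : (0 : Fin 24) ≠ i := fun e => (Finset.ne_of_mem_erase hi) e.symm
        simp [Pi.single_eq_of_ne hi0]
      rw [Finset.sum_congr rfl this, ← Finset.sum_mul]
      have hs : ∑ i ∈ Finset.univ.erase (0 : Fin 24), y i = 2 * m - y 0 := by
        rw [← hm, ← Finset.add_sum_erase Finset.univ y (Finset.mem_univ 0)]
        ring
      rw [hs]
      simp
      ring
    · rw [Finset.sum_eq_single k]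
      · simp [Pi.single_eq_of_ne hk]; ring
      · intro i _ hik
        simp [Pi.single_eq_of_ne (Ne.symm hik), Pi.single_eq_of_ne hk]
      · intro hk'
        exact absurd (Finset.mem_erase.mpr ⟨hk, Finset.mem_univ k⟩) hk'
  rw [key]
  apply Λ.add_mem
  · apply Λ.sum_mem
    intro i hi
    apply Λ.zsmul_mem
    exact fr_e44s h i 0 (Finset.ne_of_mem_erase hi) 4 (-4) (Or.inl rfl) (Or.inr rfl)
  · exact Λ.zsmul_mem (h.e8 0) m

theorem fr_M_conv (h : Fr Λ) (y : V) (hy : (fun i => 4 * y i : V) ∈ Λ) : (2 : ℤ) ∣ ∑ i, y i := by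
  by_contra hodd
  have hs : (2 : ℤ) ∣ ∑ i, (y - (Pi.single 0 1 : V)) i := by
    simp only [Pi.sub_apply, Finset.sum_sub_distrib]
    have : ∑ i : Fin 24, (Pi.single 0 1 : V) i = 1 := by
      rw [Finset.sum_eq_single 0]
      · simp
      · intro j _ hj; simp [Pi.single_eq_of_ne hj]
      · intro hi; exact absurd (Finset.mem_univ _) hi
    rw [this]
    omega
  have h1 := fr_M h _ hs
  have h2 := Λ.sub_mem hy h1
  apply fr_no4 h 0
  convert h2 using 1
  funext k
  by_cases hk : k = 0
  · subst hk; simp; ring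
  · simp [Pi.single_eq_of_ne hk]

end Cfsg.Agent.Lib.Helper4.Lc
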