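import Cfsg.Agent.Lib.Helper4.LcBase
import Cfsg.Agent.Lib.Helper7.LeechBasic
import Cfsg.Agent.Lib.Helper33.LcCORTH
import Cfsg.Agent.Lib.Helper70.LcCNO4
import Cfsg.Agent.Lib.Helper61.LcSELFORTH
import Cfsg.Agent.Lib.Helper68.LcOCT
import Cfsg.Agent.Lib.Helper34.LcSH8
import Cfsg.Agent.Lib.Helper34.LcSHO
import Cfsg.Agent.Lib.Helper23.LcC44
import Cfsg.Agent.Lib.Helper23.LcCOD
import Cfsg.Agent.Lib.Helper99.LcSGN
import Cfsg.Agent.Lib.Helper70.LcCEV
import Cfsg.Agent.Lib.Helper68.LcFLIP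
import Cfsg.Agent.Lib.Helper68.LcLIFT
import Cfsg.Agent.Lib.Helper75.LcEVSUB
import Cfsg.Agent.Lib.Helper75.LcEVSUP
import Cfsg.Agent.Lib.Helper75.LcUMEM
import Cfsg.Agent.Lib.Helper43.LcFRAME
import Cfsg.Agent.Lib.Helper61.LcPARS
import Cfsg.Agent.Lib.Helper43.LcFROF
import Cfsg.Agent.S0375

set_option autoImplicit false
open Matrix

namespace Cfsg.Agent.Lib.Helper4.Lc

open Cfsg.Agent.Lib.Golay.Cross48 (Hyp Qf bf)
open Cfsg.Agent.Lib.Helper7 (mem_leechSet_iff add_mem_leechSet neg_mem_leechSet mem_leechLattice_iff)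

variable {Λ : AddSubgroup V}

/-- the finiteness of the set of vectors of sum of squares 32 -/
theorem lcglue_finite32 : {v : V | sq v = 32}.Finite := by
  have : {v : V | sq v = 32} ⊆ Set.pi Set.univ (fun _ : Fin 24 => Set.Icc (-6 : ℤ) 6) := by
    intro v hv i _
    simp only [Set.mem_ofPred_eq, sq] at hv
    have h1 : v i ^ 2 ≤ ∑ j, v j ^ 2 :=
      Finset.single_le_sum (f := fun j => v j ^ 2) (fun j _ => sq_nonneg _) (Finset.mem_univ i)
    rw [Set.mem_Icc]
    constructor <;> nlinarith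
  exact Set.Finite.subset (Set.Finite.pi fun _ => Set.finite_Icc _ _) this

theorem lcglue_card_code_le (h : Fr Λ) : Nat.card (code Λ) ≤ 4096 := by
  have h1 := finrank_le_of_self_orth (code Λ) (code_orth h)
  have h2 : Nat.card (code Λ) = 2 ^ Module.finrank (ZMod 2) (code Λ) := by
    rw [Module.natCard_eq_pow_finrank (K := ZMod 2)]
    simp
  rw [h2]
  calc 2 ^ Module.finrank (ZMod 2) (code Λ) ≤ 2 ^ 12 := Nat.pow_le_pow_right (by norm_num) h1
    _ = 4096 := by norm_num

theorem lcglue_count (h : Fr Λ) : (∃ u ∈ Λ, AllOdd u) ∧ 4096 ≤ Nat.card (code Λ) := by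
  have hfin : {v : V | v ∈ Λ ∧ sq v = 32}.Finite :=
    lcglue_finite32.subset (fun v hv => hv.2)
  have hsub : {v : V | v ∈ Λ ∧ sq v = 32} ⊆
      {v : V | v ∈ Λ ∧ sq v = 32 ∧ AllEven v} ∪ {v : V | v ∈ Λ ∧ sq v = 32 ∧ AllOdd v} := by
    intro v hv
    rcases fr_even_or_odd h hv.1 with he | ho
    · exact Or.inl ⟨hv.1, hv.2, he⟩
    · exact Or.inr ⟨hv.1, hv.2, ho⟩
  have hfinE : {v : V | v ∈ Λ ∧ sq v = 32 ∧ AllEven v}.Finite :=
    lcglue_finite32.subset (fun v hv => hv.2.1)
  have hfinO : {v : V | v ∈ Λ ∧ sq v = 32 ∧ AllOdd v}.Finite :=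
    lcglue_finite32.subset (fun v hv => hv.2.1)
  have h1 := Set.ncard_le_ncard hsub (hfinE.union hfinO)
  have h2 := Set.ncard_union_le {v : V | v ∈ Λ ∧ sq v = 32 ∧ AllEven v}
    {v : V | v ∈ Λ ∧ sq v = 32 ∧ AllOdd v}
  have h3 := count_even h
  have h4 := count_odd h
  have h5 := h.cnt
  constructor
  · by_contra hno
    have : {v : V | v ∈ Λ ∧ sq v = 32 ∧ AllOdd v} = ∅ := by
      ext v
      simp only [Set.mem_ofPred_eq, Set.mem_empty_iff_false, iff_false]
      rintro ⟨hv, _, ho⟩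
      exact hno ⟨v, hv, ho⟩
    have he : {v : V | v ∈ Λ ∧ sq v = 32 ∧ AllOdd v}.ncard = 0 := by
      rw [this, Set.ncard_empty]
    omega
  · omega

theorem code_finrank (h : Fr Λ) : Module.finrank (ZMod 2) (code Λ) = 12 := by
  have h1 := finrank_le_of_self_orth (code Λ) (code_orth h)
  have h2 : Nat.card (code Λ) = 2 ^ Module.finrank (ZMod 2) (code Λ) := by
    rw [Module.natCard_eq_pow_finrank (K := ZMod 2)]
    simp
  have h3 := (lcglue_count h).2
  rw [h2] at h3
  by_contra hne
  have hlt : Module.finrank (ZMod 2) (code Λ) ≤ 11 := by omega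
  have : 2 ^ Module.finrank (ZMod 2) (code Λ) ≤ 2 ^ 11 := Nat.pow_le_pow_right (by norm_num) hlt
  omega

/-- in the normalised situation the lattice is the standard one, relabelled -/
theorem fr_norm (e : Fin 24 ≃ Cfsg.GolayPt) (h : Fr Λ)
    (he : ∀ w : Cfsg.GolayPt → ZMod 2, w ∈ Cfsg.golayCode ↔ (fun i => w (e i)) ∈ code Λ)
    (u : V) (hu : u ∈ Λ) (hu4 : ∀ i, u i % 4 = 1) (v : V) :
    v ∈ Λ ↔ (fun p => v (e.symm p)) ∈ Cfsg.leechSet := by
  have humem := u_mem e h u hu hu4
  constructor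
  · intro hv
    rcases fr_even_or_odd h hv with hev | hod
    · exact even_sub e h he u hu hu4 v hv hev
    · have hd : v - u ∈ Λ := Λ.sub_mem hv hu
      have hde : AllEven (v - u) := by
        intro i
        have h1 := hod i
        have h2 := hu4 i
        simp only [Pi.sub_apply]
        omega
      have h1 := even_sub e h he u hu hu4 (v - u) hd hde
      have h2 := add_mem_leechSet h1 humem
      convert h2 using 1
      funext p
      simp
  · intro hw
    by_cases hev : AllEven v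
    · have h1 := even_sup e h he u hu hu4 _ hw (fun p => hev _)
      convert h1 using 1
      funext i
      simp
    · have h3 := add_mem_leechSet hw (neg_mem_leechSet humem)
      have hpar : ∀ p, (2 : ℤ) ∣ ((fun p => v (e.symm p)) + -(fun p => u (e.symm p))) p := by
        obtain ⟨m, hm, -, -⟩ := (mem_leechSet_iff _).mp hw
        simp only [AllEven, not_forall] at hev
        obtain ⟨i0, hi0⟩ := hev
        have hm0 := hm (e i0)
        simp only [Equiv.symm_apply_apply] at hm0
        intro p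
        have hmp := hm p
        have h2 := hu4 (e.symm p)
        simp only [Pi.add_apply, Pi.neg_apply]
        unfold Int.ModEq at hm0 hmp
        omega
      have h4 := even_sup e h he u hu hu4 _ h3 hpar
      have h5 := Λ.add_mem h4 hu
      convert h5 using 1
      funext i
      simp

/-- the abstract theorem: a frame-coordinate lattice is the standard lattice up to relabelling the
coordinates and changing signs -/
theorem fr_main (h : Fr Λ) : ∃ (e : Fin 24 ≃ Cfsg.GolayPt) (s : V), IsSign s ∧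
    ∀ v : V, v ∈ Λ ↔ transp e s v ∈ Cfsg.leechLattice := by
  obtain ⟨⟨u, hu, huo⟩, -⟩ := lcglue_count h
  let s : V := fun i => if u i % 4 = 1 then 1 else -1
  have hs : IsSign s := by
    intro i
    by_cases hi : u i % 4 = 1
    · left; simp [s, hi]
    · right; simp [s, hi]
  have hss : ∀ v : V, flip s (flip s v) = v := by
    intro v
    funext i
    simp only [flip_apply]
    rcases hs i with e1 | e1 <;> rw [e1] <;> ring
  have h' : Fr (Λ.comap (flip s)) := fr_flip h s hs
  have hc : code (Λ.comap (flip s)) = code Λ := code_flip s hs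
  obtain ⟨e, he⟩ := Cfsg.Agent.S0375.result (code Λ) (code_finrank h) (code_orth h) (code_dbl h)
    (code_no4 h)
  have hu' : flip s u ∈ Λ.comap (flip s) := by
    rw [AddSubgroup.mem_comap, hss]
    exact hu
  have hu4 : ∀ i, flip s u i % 4 = 1 := by
    intro i
    simp only [flip_apply, s]
    have := huo i
    by_cases hi : u i % 4 = 1
    · simp [hi]
    · simp only [hi, if_false]
      omega
  refine ⟨e, s, hs, fun v => ?_⟩
  have key := fr_norm e h' (by rw [hc]; exact he) (flip s u) hu' hu4 (flip s v)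
  rw [AddSubgroup.mem_comap, hss] at key
  rw [key, mem_leechLattice_iff]
  rfl

theorem lcglue_sqNorm_transp (e : Fin 24 ≃ Cfsg.GolayPt) (s : V) (hs : IsSign s) (v : V) :
    Cfsg.sqNorm (transp e s v) = sq v := by
  unfold Cfsg.sqNorm sq
  rw [← Equiv.sum_comp e]
  apply Finset.sum_congr rfl
  intro i _
  simp only [transp_apply, Equiv.symm_apply_apply]
  rcases hs i with e1 | e1 <;> rw [e1] <;> ring

theorem lcglue_sq_phi {B : Matrix (Fin 24) (Fin 24) ℤ} (hsymm : B.IsSymm) (e : Fin 24 → V)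
    (he8 : ∀ i, Qf B (e i) = 8) (horth : ∀ i j, i ≠ j → bf B (e i) (e j) = 0) (x : V) :
    sq (phi B e x) = 8 * Qf B x := by
  have := parseval_bf hsymm e he8 horth x x
  unfold sq
  rw [← Cfsg.Agent.Lib.Golay.Cross48.bf_self, ← this]
  apply Finset.sum_congr rfl
  intro i _
  simp only [phi_apply]
  ring

theorem final {B : Matrix (Fin 24) (Fin 24) ℤ} (h : Hyp B) :
    ∃ f : (Fin 24 → ℤ) ≃+ Cfsg.leechLattice, ∀ x : Fin 24 → ℤ,
      Cfsg.sqNorm ((f x : Cfsg.leechLattice) : Cfsg.GolayPt → ℤ) = 8 * (x ⬝ᵥ (B *ᵥ x)) := by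
  obtain ⟨e, he8, horth, hcong⟩ := frame_exists h
  have hFr := fr_of_frame h e he8 horth hcong
  obtain ⟨σ, s, hs, hmem⟩ := fr_main hFr
  have hsq : ∀ x : V, Cfsg.sqNorm (transp σ s (phi B e x)) = 8 * Qf B x := by
    intro x
    rw [lcglue_sqNorm_transp σ s hs, lcglue_sq_phi h.symm e he8 horth]
  have hin : ∀ x : V, transp σ s (phi B e x) ∈ Cfsg.leechLattice := by
    intro x
    exact (hmem _).mp ⟨x, rfl⟩
  let g : V →+ Cfsg.leechLattice :=
    ((transp σ s).comp (phi B e)).codRestrict Cfsg.leechLattice hin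
  have hginj : Function.Injective g := by
    rw [injective_iff_map_eq_zero]
    intro x hx
    by_contra hx0
    have h1 := h.pos x hx0
    have h2 := hsq x
    have h3 : transp σ s (phi B e x) = 0 := congrArg Subtype.val hx
    rw [h3] at h2
    have h4 : Cfsg.sqNorm (0 : Cfsg.GolayPt → ℤ) = 0 := by simp [Cfsg.sqNorm]
    rw [h4] at h2
    have : Qf B x = x ⬝ᵥ (B *ᵥ x) := rfl
    omega
  have hgsurj : Function.Surjective g := by
    rintro ⟨w, hw⟩
    let v : V := fun i => s i * w (σ i)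
    have hv : transp σ s v = w := by
      funext p
      simp only [transp_apply, v, Equiv.apply_symm_apply]
      rcases hs (σ.symm p) with e1 | e1 <;> rw [e1] <;> ring
    have hvΛ : v ∈ AddMonoidHom.range (phi B e) := by
      rw [hmem, hv]; exact hw
    obtain ⟨x, hx⟩ := hvΛ
    refine ⟨x, Subtype.ext ?_⟩
    show transp σ s (phi B e x) = w
    rw [hx, hv]
  refine ⟨AddEquiv.ofBijective g ⟨hginj, hgsurj⟩, fun x => ?_⟩
  exact hsq x

end Cfsg.Agent.Lib.Helper4.Lc
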