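import Mathlib
import Cfsg.Agent.Lib.Helper45.LtCore

set_option autoImplicit false

namespace Cfsg.Agent.Lib.Helper45.Lt

/-- one more factor `Q^a - 1` -/
theorem f4_step {Q A s a : ℕ} (hQ : 1 ≤ Q) (hA : A < Q ^ s) : A * (Q ^ a - 1) < Q ^ (s + a) := by
  rw [pow_add]
  calc A * (Q ^ a - 1) ≤ A * Q ^ a := Nat.mul_le_mul_left _ (Nat.sub_le _ _)
    _ < Q ^ s * Q ^ a := Nat.mul_lt_mul_of_pos_right hA (pow_pos hQ _)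

/-- first factor -/
theorem f4_first {Q a : ℕ} (hQ : 1 ≤ Q) : Q ^ a - 1 < Q ^ a :=
  Nat.sub_lt (pow_pos hQ _) Nat.one_pos

/-- LT-F4 (S1062): `N = 24`, `l = 4`. -/
theorem lt_f4 {p f g : ℕ} (hp : p.Prime) (hf : 1 ≤ f) (hg : 0 < g)
    (hcard : g = (p ^ f) ^ 24 * ((p ^ f) ^ 2 - 1) * ((p ^ f) ^ 6 - 1) * ((p ^ f) ^ 8 - 1) *
      ((p ^ f) ^ 12 - 1)) :
    g < p ^ (3 * g.factorization p) ∧ g ^ 3 < p ^ (8 * g.factorization p) := by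
  have hQ : 1 ≤ p ^ f := pow_pos hp.pos f
  have hd : 1 * g = (p ^ f) ^ 24 * (((p ^ f) ^ 2 - 1) * ((p ^ f) ^ 6 - 1) * ((p ^ f) ^ 8 - 1) *
      ((p ^ f) ^ 12 - 1)) := by
    rw [hcard]; ring
  have hpM : ¬ p ∣ (((p ^ f) ^ 2 - 1) * ((p ^ f) ^ 6 - 1) * ((p ^ f) ^ 8 - 1) *
      ((p ^ f) ^ 12 - 1)) := by
    repeat' apply lt_not_dvd_mul hp
    all_goals exact lt_not_dvd_sub_one hp hf (by norm_num)
  have hM : (((p ^ f) ^ 2 - 1) * ((p ^ f) ^ 6 - 1) * ((p ^ f) ^ 8 - 1) *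
      ((p ^ f) ^ 12 - 1)) < 1 * (p ^ f) ^ (24 + 4) := by
    rw [one_mul]
    exact f4_step hQ (f4_step hQ (f4_step hQ (f4_first hQ)))
  obtain ⟨-, h2, h3⟩ := lt_core hp hf hg hd (by simpa using hp.one_lt.ne') hpM hM (by norm_num)
  exact ⟨h2, h3 (by norm_num)⟩

end Cfsg.Agent.Lib.Helper45.Lt
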