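import Mathlib
import Cfsg.Prelude.Def_ClassicalGeometry
import Cfsg.Agent.Lib.Helper4.NdDefs
import Cfsg.Agent.Lib.Helper33.NdA7
import Cfsg.Agent.Lib.Helper99.NdA8
import Cfsg.Agent.Lib.Helper68.NdA11
import Cfsg.Agent.Lib.Helper97.NdD8
import Cfsg.Agent.Lib.Helper25.NdC
import Cfsg.Agent.Lib.Helper9.NdB1
import Cfsg.Agent.Lib.Helper33.NdB2
import Cfsg.Agent.Lib.Helper8.NdBak
import Cfsg.Agent.Lib.Helper55.NdD5
import Cfsg.Agent.Lib.Helper43.NdT
import Cfsg.Agent.Lib.Helper2.BGMain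

set_option autoImplicit false
open Matrix
open Cfsg.Agent.Lib.Helper99 (Nd dker sympB)

namespace Cfsg.Agent.Lib.Helper4.NdH

universe u

variable {F : Type u} [Field F]

/-- the statement's existence clause is `Good` -/
theorem main_good_iff (d m : ℕ) (A : Matrix (Fin d ⊕ Fin d) (Fin d ⊕ Fin d) F) :
    (∃ W : Submodule F (Fin d ⊕ Fin d → F), Module.finrank F ↥W = m ∧
      (∀ u ∈ W, u ≠ 0 → ∃ v ∈ W, Cfsg.sympForm d F u v ≠ 0) ∧
        W.map (Matrix.toLin' A) ≤ W) ↔ Good (sympB (F := F) d) (Matrix.toLin' A) m := by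
  constructor
  · rintro ⟨W, h1, h2, h3⟩
    refine ⟨W, h1, ?_, ?_⟩
    · intro u hu h
      by_contra hne
      obtain ⟨v, hv, hv'⟩ := h2 u hu hne
      exact hv' (by rw [← Cfsg.Agent.Lib.Helper99.sympB_apply]; exact h v hv)
    · intro w hw
      exact h3 (Submodule.mem_map_of_mem hw)
  · rintro ⟨W, h1, h2, h3⟩
    refine ⟨W, h1, ?_, ?_⟩
    · intro u hu hne
      by_contra hcon
      push Not at hcon
      exact hne (h2 u hu (fun v hv => by rw [Cfsg.Agent.Lib.Helper99.sympB_apply]; exact hcon v hv))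
    · rw [Submodule.map_le_iff_le_comap]
      intro w hw
      exact h3 w hw

theorem main_alt (d : ℕ) : Alt (sympB (F := F) d) := fun v => Cfsg.Agent.Lib.Helper99.sympB_self d v

theorem main_isom (d : ℕ) (x : Matrix.symplecticGroup (Fin d) F) :
    Isom (sympB (F := F) d) (Matrix.toLin' (x : Matrix (Fin d ⊕ Fin d) (Fin d ⊕ Fin d) F)) :=
  fun u v => Cfsg.Agent.Lib.Helper99.sympB_preserved d _ x.2 u v

theorem main_finrank (d : ℕ) : Module.finrank F (Fin d ⊕ Fin d → F) = 2 * d := by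
  rw [Module.finrank_pi, Fintype.card_sum, Fintype.card_fin]
  ring

section scalar

variable {V : Type*} [AddCommGroup V] [Module F V]

theorem main_isom_smul (B : V →ₗ[F] V →ₗ[F] F) (g : V →ₗ[F] V) (hg : Isom B g) (z : F)
    (hz : z * z = 1) : Isom B (z • g) := by
  intro u v
  simp only [LinearMap.smul_apply, map_smul, smul_eq_mul]
  rw [hg u v, ← mul_assoc, hz, one_mul]

theorem main_good_smul (B : V →ₗ[F] V →ₗ[F] F) (g : V →ₗ[F] V) (z : F) (hz : z * z = 1) (m : ℕ) :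
    Good B (z • g) m ↔ Good B g m := by
  constructor
  · rintro ⟨W, h1, h2, h3⟩
    refine ⟨W, h1, h2, fun w hw => ?_⟩
    have := W.smul_mem z (h3 w hw)
    rwa [LinearMap.smul_apply, smul_smul, hz, one_smul] at this
  · rintro ⟨W, h1, h2, h3⟩
    exact ⟨W, h1, h2, fun w hw => W.smul_mem z (h3 w hw)⟩

end scalar


theorem main_two_ne_zero (p : ℕ) [Fact p.Prime] [CharP F p] (hp2 : p ≠ 2) : (2 : F) ≠ 0 := by
  intro h
  have h' : ((2 : ℕ) : F) = 0 := by exact_mod_cast h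
  have := (CharP.cast_eq_zero_iff F p 2).mp h'
  exact hp2 ((Nat.prime_dvd_prime_iff_eq (Fact.out) Nat.prime_two).mp this)

theorem main_two_eq_zero [CharP F 2] : (2 : F) = 0 := by
  have := (CharP.cast_eq_zero_iff F 2 2).mpr dvd_rfl
  exact_mod_cast this

/-- `toLin'` of the `r`-th power of a symplectic matrix -/
theorem main_toLin_pow (d : ℕ) (x : Matrix.symplecticGroup (Fin d) F) (r : ℕ) (z : F)
    (hx : ((x ^ r : Matrix.symplecticGroup (Fin d) F) : Matrix (Fin d ⊕ Fin d) (Fin d ⊕ Fin d) F) =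
      z • (1 : Matrix (Fin d ⊕ Fin d) (Fin d ⊕ Fin d) F)) :
    (Matrix.toLin' (x : Matrix (Fin d ⊕ Fin d) (Fin d ⊕ Fin d) F) : Module.End F _) ^ r =
      z • (1 : Module.End F (Fin d ⊕ Fin d → F)) := by
  rw [← Matrix.toLin'_pow]
  have : ((x : Matrix (Fin d ⊕ Fin d) (Fin d ⊕ Fin d) F)) ^ r = z • 1 := by
    rw [← hx]; rfl
  rw [this, map_smul, Matrix.toLin'_one]
  rfl

/-- if `z² = 1` and `g^r = z`, `r` odd, then `(z g)^r = 1` -/
theorem main_smul_pow {V : Type*} [AddCommGroup V] [Module F V] (g : Module.End F V) (r : ℕ)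
    (hr : Odd r) (z : F) (hz : z * z = 1) (hg : g ^ r = z • (1 : Module.End F V)) :
    (z • g) ^ r = 1 := by
  rw [smul_pow, hg, smul_smul]
  obtain ⟨k, rfl⟩ := hr
  have h2 : z ^ 2 = 1 := by rw [pow_two, hz]
  have : z ^ (2 * k + 1) * z = 1 := by
    rw [pow_succ, pow_mul, h2, one_pow, one_mul, hz]
  rw [this, one_smul]



/-! ### case C -/

theorem main_caseC (p : ℕ) [Fact p.Prime] [CharP F p] (hp2 : p ≠ 2) (d m : ℕ) (hme : Even m)
    (hmd : m ≤ 2 * d) (x : Matrix.symplecticGroup (Fin d) F) (z : F)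
    (hx : ((x ^ 2 : Matrix.symplecticGroup (Fin d) F) : Matrix (Fin d ⊕ Fin d) (Fin d ⊕ Fin d) F) =
      z • (1 : Matrix (Fin d ⊕ Fin d) (Fin d ⊕ Fin d) F)) :
    Good (sympB (F := F) d) (Matrix.toLin' (x : Matrix (Fin d ⊕ Fin d) (Fin d ⊕ Fin d) F)) m := by
  have hpow := main_toLin_pow d x 2 z hx
  refine good_of_sq (main_two_ne_zero p hp2) _ (main_alt d) (Cfsg.Agent.Lib.Helper99.sympB_nd d) _
    (main_isom d x) z ?_ m hme (by rw [main_finrank]; exact hmd)
  intro v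
  have := congrArg (fun f : Module.End F (Fin d ⊕ Fin d → F) => f v) hpow
  simpa [pow_two] using this


/-! ### case B -/

theorem main_caseB_mpr [CharP F 2] (d m : ℕ) (hd : 1 ≤ d) (hme : Even m) (hmd : m ≤ 2 * d)
    (h4 : (2 * d) % 4 = 2 ∨ m % 4 = 0) (x : Matrix.symplecticGroup (Fin d) F) (z : F)
    (hx : ((x ^ 2 : Matrix.symplecticGroup (Fin d) F) : Matrix (Fin d ⊕ Fin d) (Fin d ⊕ Fin d) F) =
      z • (1 : Matrix (Fin d ⊕ Fin d) (Fin d ⊕ Fin d) F)) :
    Good (sympB (F := F) d) (Matrix.toLin' (x : Matrix (Fin d ⊕ Fin d) (Fin d ⊕ Fin d) F)) m := by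
  have h2 : (2 : F) = 0 := main_two_eq_zero
  have hz := sq_eq_one_of_pow_eq_smul d hd x 2 z hx
  have hz1 : z = 1 := by
    have : (z - 1) * (z - 1) = 0 := by
      have : (z - 1) * (z - 1) = z * z - 2 * z + 1 := by ring
      rw [this, hz, h2]; ring_nf; exact h2
    have := mul_self_eq_zero.mp this
    exact sub_eq_zero.mp this
  subst hz1
  have hpow := main_toLin_pow d x 2 1 hx
  refine good_of_invol_char2 h2 _ (main_alt d) (Cfsg.Agent.Lib.Helper99.sympB_nd d) _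
    (main_isom d x) ?_ m hme (by rw [main_finrank]; exact hmd) (by rw [main_finrank]; exact h4)
  intro v
  have := congrArg (fun f : Module.End F (Fin d ⊕ Fin d → F) => f v) hpow
  simpa [pow_two] using this

theorem main_caseB_mp [CharP F 2] (d m : ℕ) (hd : 1 ≤ d) (hme : Even m)
    (hall : ∀ x : Matrix.symplecticGroup (Fin d) F,
      (∃ z : F, ((x ^ 2 : Matrix.symplecticGroup (Fin d) F) : Matrix (Fin d ⊕ Fin d) (Fin d ⊕ Fin d) F) =
        z • (1 : Matrix (Fin d ⊕ Fin d) (Fin d ⊕ Fin d) F)) →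
      (∀ z : F, (x : Matrix (Fin d ⊕ Fin d) (Fin d ⊕ Fin d) F) ≠
        z • (1 : Matrix (Fin d ⊕ Fin d) (Fin d ⊕ Fin d) F)) →
      Good (sympB (F := F) d) (Matrix.toLin' (x : Matrix (Fin d ⊕ Fin d) (Fin d ⊕ Fin d) F)) m) :
    (2 * d) % 4 = 2 ∨ m % 4 = 0 := by
  by_contra hcon
  push Not at hcon
  obtain ⟨k, hk⟩ := hme
  have hde : Even d := by
    rw [Nat.even_iff]; omega
  have hm4 : m % 4 = 2 := by omega
  obtain ⟨x, hxx, hns, hbad⟩ := exists_bad_invol (F := F) main_two_eq_zero d hd hde m hm4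
  refine hbad (hall x ⟨1, ?_⟩ hns)
  rw [pow_two, hxx, one_smul]
  rfl


/-! ### case D -/

theorem main_cOf_pos [Fintype F] (p : ℕ) [Fact p.Prime] [CharP F p] (r : ℕ) [Fact r.Prime]
    (hrp : r ≠ p) : 0 < cOf (orderOf ((Fintype.card F : ℕ) : ZMod r)) := by
  have h := Cfsg.Agent.Lib.Helper2.BG.orderOf_pos_of_ne (F := F) hrp
  unfold cOf
  split_ifs <;> omega

theorem main_caseD_mpr [Fintype F] (p : ℕ) [Fact p.Prime] [CharP F p] (d m : ℕ) (hd : 1 ≤ d)
    (hme : Even m) (hmd : m ≤ 2 * d) (r : ℕ) [Fact r.Prime] (hr2 : r ≠ 2) (hrp : r ≠ p)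
    (hcm : cOf (orderOf ((Fintype.card F : ℕ) : ZMod r)) ≤ m)
    (hmod : m % cOf (orderOf ((Fintype.card F : ℕ) : ZMod r)) ≤
      (2 * d) % cOf (orderOf ((Fintype.card F : ℕ) : ZMod r)))
    (x : Matrix.symplecticGroup (Fin d) F) (z : F)
    (hx : ((x ^ r : Matrix.symplecticGroup (Fin d) F) : Matrix (Fin d ⊕ Fin d) (Fin d ⊕ Fin d) F) =
      z • (1 : Matrix (Fin d ⊕ Fin d) (Fin d ⊕ Fin d) F)) :
    Good (sympB (F := F) d) (Matrix.toLin' (x : Matrix (Fin d ⊕ Fin d) (Fin d ⊕ Fin d) F)) m := by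
  have hz := sq_eq_one_of_pow_eq_smul d hd x r z hx
  have hpow := main_toLin_pow d x r z hx
  have hodd : Odd r := (Fact.out : r.Prime).odd_of_ne_two hr2
  have hyr := main_smul_pow _ r hodd z hz hpow
  have hgood := Cfsg.Agent.Lib.Helper8.NdBak.good_of_ss p (sympB (F := F) d) (main_alt d)
    (Cfsg.Agent.Lib.Helper99.sympB_nd d)
    (z • Matrix.toLin' (x : Matrix (Fin d ⊕ Fin d) (Fin d ⊕ Fin d) F))
    (main_isom_smul _ _ (main_isom d x) z hz) r hr2 hrp hyr m hme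
    (by rw [main_finrank]; exact hmd) (by rw [main_finrank]; exact hmod)
  exact (main_good_smul _ _ z hz m).mp hgood

theorem main_caseD_mp [Fintype F] (p : ℕ) [Fact p.Prime] [CharP F p] (d m : ℕ) (hd : 1 ≤ d)
    (hme : Even m) (hmd : m ≤ 2 * d) (r : ℕ) [Fact r.Prime] (hr2 : r ≠ 2) (hrp : r ≠ p)
    (hrΩ : r ∣ Nat.card {W : Submodule F (Fin d ⊕ Fin d → F) // Module.finrank F ↥W = m ∧
      (∀ u ∈ W, u ≠ 0 → ∃ v ∈ W, Cfsg.sympForm d F u v ≠ 0)})
    (hall : ∀ x : Matrix.symplecticGroup (Fin d) F,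
      (∃ z : F, ((x ^ r : Matrix.symplecticGroup (Fin d) F) : Matrix (Fin d ⊕ Fin d) (Fin d ⊕ Fin d) F) =
        z • (1 : Matrix (Fin d ⊕ Fin d) (Fin d ⊕ Fin d) F)) →
      (∀ z : F, (x : Matrix (Fin d ⊕ Fin d) (Fin d ⊕ Fin d) F) ≠
        z • (1 : Matrix (Fin d ⊕ Fin d) (Fin d ⊕ Fin d) F)) →
      Good (sympB (F := F) d) (Matrix.toLin' (x : Matrix (Fin d ⊕ Fin d) (Fin d ⊕ Fin d) F)) m) :
    cOf (orderOf ((Fintype.card F : ℕ) : ZMod r)) ≤ m ∧
      m % cOf (orderOf ((Fintype.card F : ℕ) : ZMod r)) ≤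
        (2 * d) % cOf (orderOf ((Fintype.card F : ℕ) : ZMod r)) := by
  have hcpos := main_cOf_pos (F := F) p r hrp
  set c := cOf (orderOf ((Fintype.card F : ℕ) : ZMod r)) with hc
  have hodd : Odd r := (Fact.out : r.Prime).odd_of_ne_two hr2
  by_cases hcd : c ≤ 2 * d
  · obtain ⟨y, hy, hyr, hy1, hyk⟩ := Cfsg.Agent.Lib.Helper8.NdBak.exists_isom_ss p (sympB (F := F) d) (main_alt d)
      (Cfsg.Agent.Lib.Helper99.sympB_nd d) r hr2 hrp (by rw [main_finrank]; exact hcd)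
    rw [main_finrank] at hyk
    let x : Matrix.symplecticGroup (Fin d) F :=
      ⟨LinearMap.toMatrix' y, mem_symplectic_of_isom d y hy⟩
    have hxy : Matrix.toLin' (x : Matrix (Fin d ⊕ Fin d) (Fin d ⊕ Fin d) F) = y :=
      Matrix.toLin'_toMatrix' y
    have hxr : ((x ^ r : Matrix.symplecticGroup (Fin d) F) :
        Matrix (Fin d ⊕ Fin d) (Fin d ⊕ Fin d) F) =
        (1 : F) • (1 : Matrix (Fin d ⊕ Fin d) (Fin d ⊕ Fin d) F) := by
      rw [one_smul]
      apply Matrix.toLin'.injective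
      rw [show ((x ^ r : Matrix.symplecticGroup (Fin d) F) :
        Matrix (Fin d ⊕ Fin d) (Fin d ⊕ Fin d) F) =
        (x : Matrix (Fin d ⊕ Fin d) (Fin d ⊕ Fin d) F) ^ r from rfl, Matrix.toLin'_pow, hxy, hyr,
        Matrix.toLin'_one]
      rfl
    have hns : ∀ z : F, (x : Matrix (Fin d ⊕ Fin d) (Fin d ⊕ Fin d) F) ≠
        z • (1 : Matrix (Fin d ⊕ Fin d) (Fin d ⊕ Fin d) F) := by
      intro z hxz
      have hz2 : z * z = 1 := by
        apply sq_eq_one_of_pow_eq_smul d hd x 1 z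
        rw [pow_one]; exact hxz
      have hyz : y = z • (1 : Module.End F (Fin d ⊕ Fin d → F)) := by
        rw [← hxy, hxz, map_smul, Matrix.toLin'_one]; rfl
      have hzr : z ^ r = 1 := by
        have h1 : (z ^ r) • (1 : Module.End F (Fin d ⊕ Fin d → F)) = 1 := by
          have h0 := hyr
          rw [hyz, smul_pow, one_pow] at h0
          exact h0
        have hne : (Pi.single (Sum.inl ⟨0, hd⟩) 1 : Fin d ⊕ Fin d → F) ≠ 0 := by
          intro h
          have := congrFun h (Sum.inl ⟨0, hd⟩)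
          simp at this
        have h2 := congrArg (fun f : Module.End F (Fin d ⊕ Fin d → F) =>
          f (Pi.single (Sum.inl ⟨0, hd⟩) 1)) h1
        simp only [LinearMap.smul_apply, Module.End.one_apply] at h2
        by_contra hzr
        have : (z ^ r - 1) • (Pi.single (Sum.inl ⟨0, hd⟩) 1 : Fin d ⊕ Fin d → F) = 0 := by
          rw [sub_smul, one_smul, h2, sub_self]
        rcases smul_eq_zero.mp this with h | h
        · exact hzr (sub_eq_zero.mp h)
        · exact hne h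
      have hz1 : z = 1 := by
        obtain ⟨k, hk⟩ := hodd
        rw [hk, pow_succ, pow_mul, pow_two, hz2, one_pow, one_mul] at hzr
        exact hzr
      apply hy1
      rw [hyz, hz1, one_smul]
    have hgood := hall x ⟨1, hxr⟩ hns
    rw [hxy] at hgood
    have hle := mod_le_of_good p (sympB (F := F) d) (main_alt d)
      (Cfsg.Agent.Lib.Helper99.sympB_nd d) y hy r hr2 hrp hyr
      (by rw [hyk]; exact Nat.mod_lt _ hcpos) m hgood
    rw [hyk] at hle
    refine ⟨?_, hle⟩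
    by_contra hlt
    push Not at hlt
    rw [Nat.mod_eq_of_lt hlt] at hle
    exact not_dvd_card_nd p d m hme hmd r hr2 hrp hle hrΩ
  · push Not at hcd
    exfalso
    refine not_dvd_card_nd p d m hme hmd r hr2 hrp ?_ hrΩ
    rw [← hc, Nat.mod_eq_of_lt hcd]
    exact hmd


/-! ### case A -/

/-- in characteristic `p`, `(X - 1)^p = X^p - 1` for square matrices -/
theorem main_sub_one_pow (p : ℕ) [Fact p.Prime] [CharP F p] (d : ℕ) (hd : 1 ≤ d)
    (X : Matrix (Fin d ⊕ Fin d) (Fin d ⊕ Fin d) F) : (X - 1) ^ p = X ^ p - 1 := by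
  have : Nonempty (Fin d ⊕ Fin d) := ⟨Sum.inl ⟨0, hd⟩⟩
  have := sub_pow_char_of_commute (p := p) (Commute.one_right X)
  rw [this, one_pow]

theorem main_toLin_sub_one_pow (d : ℕ) (X : Matrix (Fin d ⊕ Fin d) (Fin d ⊕ Fin d) F) (k : ℕ) :
    ((Matrix.toLin' X : Module.End F (Fin d ⊕ Fin d → F)) - 1) ^ k = Matrix.toLin' ((X - 1) ^ k) := by
  rw [Matrix.toLin'_pow, map_sub, Matrix.toLin'_one]
  rfl

theorem main_caseA_mpr (p : ℕ) [Fact p.Prime] [CharP F p] (hp2 : p ≠ 2) (d m : ℕ) (hd : 1 ≤ d)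
    (hpart : ∀ μ : Multiset ℕ, (∀ a ∈ μ, 0 < a ∧ a ≤ p) → (∀ a : ℕ, Odd a → Even (μ.count a)) →
      μ.sum = 2 * d → ∃ ν : Multiset ℕ, ν ≤ μ ∧ ν.sum = m ∧ ∀ a : ℕ, Odd a → Even (ν.count a))
    (x : Matrix.symplecticGroup (Fin d) F) (z : F)
    (hx : ((x ^ p : Matrix.symplecticGroup (Fin d) F) : Matrix (Fin d ⊕ Fin d) (Fin d ⊕ Fin d) F) =
      z • (1 : Matrix (Fin d ⊕ Fin d) (Fin d ⊕ Fin d) F)) :
    Good (sympB (F := F) d) (Matrix.toLin' (x : Matrix (Fin d ⊕ Fin d) (Fin d ⊕ Fin d) F)) m := by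
  have hz := sq_eq_one_of_pow_eq_smul d hd x p z hx
  have hodd : Odd p := (Fact.out : p.Prime).odd_of_ne_two hp2
  have hXp : (z • (x : Matrix (Fin d ⊕ Fin d) (Fin d ⊕ Fin d) F)) ^ p = 1 := by
    have h1 : ((x : Matrix (Fin d ⊕ Fin d) (Fin d ⊕ Fin d) F)) ^ p = z • 1 := by
      rw [← hx]; rfl
    rw [smul_pow, h1, smul_smul]
    obtain ⟨k, hk⟩ := hodd
    have : z ^ p * z = 1 := by
      rw [hk, pow_succ, pow_mul, pow_two, hz, one_pow, one_mul, hz]
    rw [this, one_smul]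
  have hK : ((z • Matrix.toLin' (x : Matrix (Fin d ⊕ Fin d) (Fin d ⊕ Fin d) F) :
      Module.End F (Fin d ⊕ Fin d → F)) - 1) ^ p = 0 := by
    rw [← map_smul, main_toLin_sub_one_pow, main_sub_one_pow p d hd, hXp, sub_self, map_zero]
  obtain ⟨μ, hμ, hadm, hsum, -, hsel⟩ := unip_main (main_two_ne_zero p hp2) (sympB (F := F) d)
    (main_alt d) (Cfsg.Agent.Lib.Helper99.sympB_nd d)
    (z • Matrix.toLin' (x : Matrix (Fin d ⊕ Fin d) (Fin d ⊕ Fin d) F))
    (main_isom_smul _ _ (main_isom d x) z hz) p hK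
  rw [main_finrank] at hsum
  obtain ⟨ν, hν, hνm, hνadm⟩ := hpart μ hμ hadm hsum
  have := hsel ν hν hνadm
  rw [hνm] at this
  exact (main_good_smul _ _ z hz m).mp this


theorem main_card_le_sum (μ : Multiset ℕ) (h : ∀ b ∈ μ, 1 ≤ b) : Multiset.card μ ≤ μ.sum := by
  induction μ using Multiset.induction_on with
  | empty => simp
  | cons a s ih =>
    have h1 := h a (Multiset.mem_cons_self a s)
    have h2 := ih (fun b hb => h b (Multiset.mem_cons_of_mem hb))
    simp only [Multiset.card_cons, Multiset.sum_cons]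
    omega

theorem main_all_one (μ : Multiset ℕ) (h : ∀ b ∈ μ, 1 ≤ b) (hs : μ.sum = Multiset.card μ) :
    ∀ b ∈ μ, b = 1 := by
  induction μ using Multiset.induction_on with
  | empty => simp
  | cons a s ih =>
    have h1 := h a (Multiset.mem_cons_self a s)
    have h2 := main_card_le_sum s (fun b hb => h b (Multiset.mem_cons_of_mem hb))
    simp only [Multiset.card_cons, Multiset.sum_cons] at hs
    intro b hb
    rcases Multiset.mem_cons.mp hb with rfl | hb
    · omega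
    · exact ih (fun b hb => h b (Multiset.mem_cons_of_mem hb)) (by omega) b hb

theorem main_sum_min_one (μ : Multiset ℕ) (h : ∀ b ∈ μ, 1 ≤ b) :
    (μ.map (fun b => min b 1)).sum = Multiset.card μ := by
  induction μ using Multiset.induction_on with
  | empty => simp
  | cons a s ih =>
    have h1 := h a (Multiset.mem_cons_self a s)
    simp only [Multiset.map_cons, Multiset.sum_cons, Multiset.card_cons]
    rw [ih (fun b hb => h b (Multiset.mem_cons_of_mem hb)), min_eq_right h1]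
    omega

theorem main_caseA_mp (p : ℕ) [Fact p.Prime] [CharP F p] (hp2 : p ≠ 2) (d m : ℕ) (hd : 1 ≤ d)
    (hme : Even m) (hmd : m ≤ 2 * d)
    (hall : ∀ x : Matrix.symplecticGroup (Fin d) F,
      (∃ z : F, ((x ^ p : Matrix.symplecticGroup (Fin d) F) : Matrix (Fin d ⊕ Fin d) (Fin d ⊕ Fin d) F) =
        z • (1 : Matrix (Fin d ⊕ Fin d) (Fin d ⊕ Fin d) F)) →
      (∀ z : F, (x : Matrix (Fin d ⊕ Fin d) (Fin d ⊕ Fin d) F) ≠
        z • (1 : Matrix (Fin d ⊕ Fin d) (Fin d ⊕ Fin d) F)) →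
      Good (sympB (F := F) d) (Matrix.toLin' (x : Matrix (Fin d ⊕ Fin d) (Fin d ⊕ Fin d) F)) m)
    (μ : Multiset ℕ) (hμ : ∀ a ∈ μ, 0 < a ∧ a ≤ p) (hadm : ∀ a : ℕ, Odd a → Even (μ.count a))
    (hsum : μ.sum = 2 * d) :
    ∃ ν : Multiset ℕ, ν ≤ μ ∧ ν.sum = m ∧ ∀ a : ℕ, Odd a → Even (ν.count a) := by
  by_cases hμ1 : μ = Multiset.replicate (2 * d) 1
  · refine ⟨Multiset.replicate m 1, ?_, ?_, ?_⟩
    · rw [hμ1]
      exact (Multiset.replicate_le_replicate 1).mpr hmd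
    · simp
    · intro a _
      rw [Multiset.count_replicate]
      split_ifs
      · exact hme
      · exact Even.zero
  · have h2 := main_two_ne_zero (F := F) p hp2
    obtain ⟨u, hu, hK, htype⟩ := exists_isom_of_type h2 (sympB (F := F) d) (main_alt d)
      (Cfsg.Agent.Lib.Helper99.sympB_nd d) p μ hμ hadm (by rw [main_finrank]; exact hsum)
    let x : Matrix.symplecticGroup (Fin d) F :=
      ⟨LinearMap.toMatrix' u, mem_symplectic_of_isom d u hu⟩
    have hxu : Matrix.toLin' (x : Matrix (Fin d ⊕ Fin d) (Fin d ⊕ Fin d) F) = u :=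
      Matrix.toLin'_toMatrix' u
    have hX0 : ((x : Matrix (Fin d ⊕ Fin d) (Fin d ⊕ Fin d) F) - 1) ^ p = 0 := by
      apply Matrix.toLin'.injective
      rw [← main_toLin_sub_one_pow, hxu, hK, map_zero]
    have hxp : ((x ^ p : Matrix.symplecticGroup (Fin d) F) :
        Matrix (Fin d ⊕ Fin d) (Fin d ⊕ Fin d) F) =
        (1 : F) • (1 : Matrix (Fin d ⊕ Fin d) (Fin d ⊕ Fin d) F) := by
      rw [one_smul]
      rw [main_sub_one_pow p d hd] at hX0
      exact sub_eq_zero.mp hX0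
    have hpos1 : ∀ b ∈ μ, 1 ≤ b := fun b hb => (hμ b hb).1
    have hns : ∀ z : F, (x : Matrix (Fin d ⊕ Fin d) (Fin d ⊕ Fin d) F) ≠
        z • (1 : Matrix (Fin d ⊕ Fin d) (Fin d ⊕ Fin d) F) := by
      intro z hxz
      have huz : u = z • (1 : Module.End F (Fin d ⊕ Fin d → F)) := by
        rw [← hxu, hxz, map_smul, Matrix.toLin'_one]; rfl
      have hT : (u - 1 : Module.End F (Fin d ⊕ Fin d → F)) = (z - 1) • 1 := by
        rw [huz, sub_smul (M := Module.End F (Fin d ⊕ Fin d → F)), one_smul]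
      have h1 := htype 1
      rw [main_sum_min_one μ hpos1, hT] at h1
      unfold Cfsg.Agent.Lib.Helper99.dker at h1
      rw [pow_one] at h1
      by_cases hz1 : z = 1
      · rw [hz1, sub_self, zero_smul, LinearMap.ker_zero, finrank_top, main_finrank] at h1
        apply hμ1
        rw [Multiset.eq_replicate]
        exact ⟨h1.symm, main_all_one μ hpos1 (by rw [hsum, h1])⟩
      · have hker : LinearMap.ker ((z - 1) • (1 : Module.End F (Fin d ⊕ Fin d → F))) = ⊥ := by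
          rw [LinearMap.ker_eq_bot']
          intro v hv
          rw [LinearMap.smul_apply, Module.End.one_apply] at hv
          rcases smul_eq_zero.mp hv with h | h
          · exact absurd (sub_eq_zero.mp h) hz1
          · exact h
        rw [hker, finrank_bot] at h1
        have : μ = 0 := Multiset.card_eq_zero.mp h1.symm
        rw [this] at hsum
        simp at hsum
        omega
    have hgood := hall x ⟨1, hxp⟩ hns
    rw [hxu] at hgood
    exact exists_sub_of_good h2 (sympB (F := F) d) (main_alt d) (Cfsg.Agent.Lib.Helper99.sympB_nd d)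
      u hu p hK μ (fun a ha => (hμ a ha).1) htype m hgood

end Cfsg.Agent.Lib.Helper4.NdH
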