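import Cfsg.Agent.Lib.Helper4.RuD
import Cfsg.Agent.Lib.Helper13.RuCJ
import Cfsg.Agent.Lib.Helper24.RuCNT
import Cfsg.Agent.Lib.Helper27.RuALG
import Cfsg.Agent.Lib.Helper27.RuEVEN
import Cfsg.Agent.Lib.Helper27.RuMAPS
import Cfsg.Agent.Lib.Helper42.RuCH
import Cfsg.Agent.Lib.Helper78.RuCK
import Cfsg.Agent.Lib.Helper90.RuPARA
import Cfsg.Agent.Lib.Helper60.RuPARB
import Cfsg.Agent.Lib.Helper67.RuCI
import Cfsg.Agent.Lib.Helper78.RuCS
import Cfsg.Agent.Lib.Helper78.RuCT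
import Cfsg.Agent.Lib.Helper24.RuC0
import Cfsg.Agent.Lib.Helper78.RuC2
import Cfsg.Agent.Lib.Helper24.RuC1

/-! # Ru hive (S1628): the assembly — `ruLattice ≤ Lspan`, no vector of norm `8`, minimum norm `16`. -/

set_option autoImplicit false

namespace Cfsg.Agent.Lib.Helper4.Ru

open Cfsg.Spor


/-! ### pointwise facts -/

theorem asm_F0 (a b : ℤ) (h : (a + b) % 2 = 1) : 1 ≤ a * a + b * b := by
  have h0 : a ≠ 0 ∨ b ≠ 0 := by omega
  rcases h0 with h0 | h0
  · have := mul_self_pos.2 h0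
    have := mul_self_nonneg b
    linarith
  · have := mul_self_pos.2 h0
    have := mul_self_nonneg a
    linarith

theorem asm_F1 (a b : ℤ) (ha : a % 2 = 1) (h : (a + b) % 2 = 0) : 2 ≤ a * a + b * b := by
  have h0 : a ≠ 0 := by omega
  have h1 : b ≠ 0 := by omega
  have := mul_self_pos.2 h0
  have := mul_self_pos.2 h1
  linarith

theorem asm_F2 (a b : ℤ) (ha : a % 2 = 0) (hb : b % 2 = 0) (h : (a / 2 + b / 2) % 2 = 1) :
    4 ≤ a * a + b * b := by
  obtain ⟨a', rfl⟩ : ∃ a', a = 2 * a' := ⟨a / 2, by omega⟩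
  obtain ⟨b', rfl⟩ : ∃ b', b = 2 * b' := ⟨b / 2, by omega⟩
  have e1 : 2 * a' / 2 = a' := by omega
  have e2 : 2 * b' / 2 = b' := by omega
  rw [e1, e2] at h
  have := asm_F0 a' b' h
  nlinarith

theorem asm_F3 (a b : ℤ) (ha : a % 2 = 0) (hb : b % 2 = 0) (h : (a / 2 + b / 2) % 2 = 0)
    (hne : a * a + b * b ≠ 0) : 8 ≤ a * a + b * b := by
  obtain ⟨a', rfl⟩ : ∃ a', a = 2 * a' := ⟨a / 2, by omega⟩
  obtain ⟨b', rfl⟩ : ∃ b', b = 2 * b' := ⟨b / 2, by omega⟩
  have e1 : 2 * a' / 2 = a' := by omega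
  have e2 : 2 * b' / 2 = b' := by omega
  rw [e1, e2] at h
  have key : 2 ≤ a' * a' + b' * b' := by
    by_cases h0 : a' = 0
    · subst h0
      have hb0 : b' ≠ 0 := by
        rintro rfl
        exact hne (by ring)
      have hb2 : 2 ≤ b' ∨ b' ≤ -2 := by omega
      rcases hb2 with hb2 | hb2 <;> nlinarith
    · by_cases h1 : b' = 0
      · subst h1
        have ha2 : 2 ≤ a' ∨ a' ≤ -2 := by omega
        rcases ha2 with ha2 | ha2 <;> nlinarith
      · have := mul_self_pos.2 h0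
        have := mul_self_pos.2 h1
        linarith
  nlinarith

theorem asm_G0 (a b : ℤ) (h : a * a + b * b = 0) : a = 0 ∧ b = 0 := by
  have h1 := mul_self_nonneg a
  have h2 := mul_self_nonneg b
  constructor
  · exact mul_self_eq_zero.1 (by linarith)
  · exact mul_self_eq_zero.1 (by linarith)

theorem asm_G3 (a b : ℤ) (ha : a % 2 = 0) (hb : b % 2 = 0) (h : (a / 2 + b / 2) % 2 = 0)
    (h8 : a * a + b * b = 8) : a % 4 = 2 ∧ b % 4 = 2 := by
  obtain ⟨a', rfl⟩ : ∃ a', a = 2 * a' := ⟨a / 2, by omega⟩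
  obtain ⟨b', rfl⟩ : ∃ b', b = 2 * b' := ⟨b / 2, by omega⟩
  have e1 : 2 * a' / 2 = a' := by omega
  have e2 : 2 * b' / 2 = b' := by omega
  rw [e1, e2] at h
  have key : a' * a' + b' * b' = 2 := by nlinarith
  have ha1 : a' ≤ 1 := by nlinarith [mul_self_nonneg b']
  have ha2 : -1 ≤ a' := by nlinarith [mul_self_nonneg b']
  have hb1 : b' ≤ 1 := by nlinarith [mul_self_nonneg a']
  have hb2 : -1 ≤ b' := by nlinarith [mul_self_nonneg a']
  interval_cases a' <;> interval_cases b' <;> simp_all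



/-- the set of coordinates where `f` is odd -/
def asmOdd (f : RuIdx → ℤ) : Finset RuIdx := Finset.univ.filter (fun p => f p % 2 = 1)

theorem asm_mem_odd (f : RuIdx → ℤ) (p : RuIdx) : p ∈ asmOdd f ↔ f p % 2 = 1 := by
  simp [asmOdd]

theorem asm_odd_empty (f : RuIdx → ℤ) (h : asmOdd f = ∅) (p : RuIdx) : f p % 2 = 0 := by
  have : p ∉ asmOdd f := by rw [h]; exact Finset.notMem_empty p
  rw [asm_mem_odd] at this
  omega

theorem asm_even_card (f : RuIdx → ℤ) (T : Finset RuIdx) (h : (4 : ℤ) ∣ 2 * ∑ p ∈ T, f p) :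
    Even (asmOdd f ∩ T).card := by
  have h2 : (∑ p ∈ T, f p) % 2 = 0 := by
    obtain ⟨c, hc⟩ := h
    omega
  have h3 : (∑ p ∈ T, f p) % 2 = (((asmOdd f ∩ T).card : ℕ) : ℤ) % 2 := by
    rw [Finset.sum_int_mod]
    have : ∀ p ∈ T, f p % 2 = if f p % 2 = 1 then 1 else 0 := by
      intro p _
      split_ifs with hp
      · exact hp
      · omega
    rw [Finset.sum_congr rfl this, Finset.sum_boole]
    congr 2
    congr 1
    ext p
    simp [asmOdd, and_comm]
  rw [h3] at h2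
  rw [Nat.even_iff]
  omega

theorem asm_sum_ge (n : RuIdx → ℕ) (S : Finset RuIdx) (w : ℕ) (hS : ∀ p ∈ S, w ≤ n p) :
    w * S.card ≤ ∑ p, n p := by
  calc w * S.card = S.card • w := by rw [smul_eq_mul, mul_comm]
    _ ≤ ∑ p ∈ S, n p := Finset.card_nsmul_le_sum S n w hS
    _ ≤ ∑ p, n p := Finset.sum_le_sum_of_subset (Finset.subset_univ S)

theorem asm_dvd_two_mul {A B : ℤ} (h1 : (4 : ℤ) ∣ A) (h2 : (4 : ℤ) ∣ A - 2 * B) : (4 : ℤ) ∣ 2 * B := by
  have := dvd_sub h1 h2
  have e : A - (A - 2 * B) = 2 * B := by ring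
  rwa [e] at this

theorem asm_pos_inj (p q : RuIdx) (h : pos p = pos q) : p = q := by
  revert p q
  decide

set_option maxRecDepth 100000 in
theorem asm_W0 : ∀ i < 21, (posSet (W0.getD i [])).card = 8 ∧
    ∃ p0 ∈ posSet (W0.getD i []), pos p0 = P0.getD i 0 := by
  decide +kernel

set_option maxRecDepth 100000 in
theorem asm_W1 : ∀ i < 7, (posSet (W1.getD i [])).card = 4 ∧
    ∃ p0 ∈ posSet (W1.getD i []), pos p0 = P1.getD i 0 := by
  decide +kernel

theorem no_norm8 (x : RuVec) (hx : ∀ k < 56, (4 : ℤ) ∣ ip x (Bv k)) : ruNorm x ≠ 8 := by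
  intro h8
  have H : ∀ C, (4 : ℤ) ∣ ip x (comb C) := dvd_ip_comb 4 x hx
  have hnorm : ∀ p, (x p).norm = (x p).re * (x p).re + (x p).im * (x p).im := by
    intro p
    rw [Zsqrtd.norm_def]
    ring
  obtain ⟨n, hnn⟩ : ∃ n : RuIdx → ℕ, ∀ p, ((n p : ℕ) : ℤ) = (x p).re * (x p).re + (x p).im * (x p).im := by
    refine ⟨fun p => ((x p).re * (x p).re + (x p).im * (x p).im).toNat, fun p => ?_⟩
    exact Int.toNat_of_nonneg (add_nonneg (mul_self_nonneg _) (mul_self_nonneg _))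
  have hsum : ∑ p, n p = 8 := by
    have : ((∑ p, n p : ℕ) : ℤ) = 8 := by
      rw [Nat.cast_sum, ← h8, ruNorm]
      exact Finset.sum_congr rfl (fun p _ => by rw [hnn p, hnorm p])
    exact_mod_cast this
  have hzero : ∀ p, n p = 0 → x p = 0 := by
    intro p hp
    have h1 := hnn p
    rw [hp] at h1
    obtain ⟨h2, h3⟩ := asm_G0 _ _ h1.symm
    exact Zsqrtd.ext h2 h3
  -- level 0
  have E0 : ∀ j < 19, Even (asmOdd (fun p => (x p).re + (x p).im) ∩ posSet (T0.getD j [])).card :=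
    fun j hj => asm_even_card _ _ (asm_dvd_two_mul (H _) (par0 x _ _ (chk0_ok j hj)))
  rcases code0 _ E0 with h0 | h0 | ⟨i, hi, h0⟩
  swap
  · -- more than 8 odd coordinates
    have h1 := asm_sum_ge n (asmOdd (fun p => (x p).re + (x p).im)) 1 (fun p hp => by
      rw [asm_mem_odd] at hp
      have h2 := asm_F0 (x p).re (x p).im hp
      rw [← hnn p] at h2
      exact_mod_cast h2)
    omega
  swap
  · -- a weight 8 word
    obtain ⟨hc, p0, hp0, hpp⟩ := asm_W0 i hi
    have hS : ∀ p ∈ posSet (W0.getD i []), 1 ≤ n p := by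
      intro p hp
      rw [← h0, asm_mem_odd] at hp
      have h2 := asm_F0 (x p).re (x p).im hp
      rw [← hnn p] at h2
      exact_mod_cast h2
    obtain ⟨-, -, hoff⟩ := count_lemma n _ 1 8 one_pos hS (by rw [hsum]) (le_of_eq hc.symm)
    refine killlem0 x (comb (kill0.getD i 0)) (posSet (W0.getD i [])) p0 hp0
      (fun p hp => hzero p (hoff p hp)) ?_ ?_ ?_ (H _)
    · have := hp0
      rw [← h0, asm_mem_odd] at this
      exact this
    · intro q hq hne
      exact (kill0_ok i hi q hq).1 (fun h => hne (asm_pos_inj q p0 (h.trans hpp.symm)))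
    · exact (kill0_ok i hi p0 hp0).2 hpp
  -- all `re + im` even
  have e0 : ∀ p, ((x p).re + (x p).im) % 2 = 0 := asm_odd_empty _ h0
  -- level 1
  have E1 : ∀ j < 18, Even (asmOdd (fun p => (x p).re) ∩ posSet (T1.getD j [])).card :=
    fun j hj => asm_even_card _ _ (asm_dvd_two_mul (H _) (par1 x _ _ e0 (chk1_ok j hj)))
  rcases code1 _ E1 with h1 | h1 | ⟨i, hi, h1⟩
  swap
  · have h2 := asm_sum_ge n (asmOdd (fun p => (x p).re)) 2 (fun p hp => by
      rw [asm_mem_odd] at hp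
      have h2 := asm_F1 (x p).re (x p).im hp (e0 p)
      rw [← hnn p] at h2
      exact_mod_cast h2)
    omega
  swap
  · obtain ⟨hc, p0, hp0, hpp⟩ := asm_W1 i hi
    have hodd : ∀ p ∈ posSet (W1.getD i []), (x p).re % 2 = 1 := by
      intro p hp
      rw [← h1, asm_mem_odd] at hp
      exact hp
    have hS : ∀ p ∈ posSet (W1.getD i []), 2 ≤ n p := by
      intro p hp
      have h2 := asm_F1 (x p).re (x p).im (hodd p hp) (e0 p)
      rw [← hnn p] at h2
      exact_mod_cast h2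
    obtain ⟨-, -, hoff⟩ := count_lemma n _ 2 4 two_pos hS (by rw [hsum]) (le_of_eq hc.symm)
    refine killlem1 x (comb (kill1.getD i 0)) (posSet (W1.getD i [])) p0 hp0
      (fun p hp => hzero p (hoff p hp)) ?_ ?_ ?_ (H _)
    · intro q hq
      have h3 := hodd q hq
      have h4 := e0 q
      omega
    · intro q hq hne
      have h3 := kill1_ok i hi q hq
      rw [if_neg (fun h => hne (asm_pos_inj q p0 (h.trans hpp.symm)))] at h3
      exact h3
    · have h3 := kill1_ok i hi p0 hp0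
      rw [if_pos hpp] at h3
      exact h3
  -- all coordinates even
  have e1 : ∀ p, (x p).re % 2 = 0 ∧ (x p).im % 2 = 0 := by
    intro p
    have h3 := asm_odd_empty _ h1 p
    have h4 := e0 p
    omega
  -- level 2
  have E2 : ∀ j < 10, Even (asmOdd (fun p => (x p).re / 2 + (x p).im / 2) ∩ posSet (T2.getD j [])).card :=
    fun j hj => asm_even_card _ _ (asm_dvd_two_mul (H _) (par2 x _ _ e1 (chk2_ok j hj)))
  rcases code2 _ E2 with h2 | h2
  swap
  · have h3 := asm_sum_ge n (asmOdd (fun p => (x p).re / 2 + (x p).im / 2)) 4 (fun p hp => by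
      rw [asm_mem_odd] at hp
      have h2 := asm_F2 (x p).re (x p).im (e1 p).1 (e1 p).2 hp
      rw [← hnn p] at h2
      exact_mod_cast h2)
    omega
  have e2 : ∀ p, ((x p).re / 2 + (x p).im / 2) % 2 = 0 := asm_odd_empty _ h2
  -- level 3: all norms divisible by 8
  have hS : ∀ p ∈ Finset.univ.filter (fun p => n p ≠ 0), 8 ≤ n p := by
    intro p hp
    rw [Finset.mem_filter] at hp
    have h3 := asm_F3 (x p).re (x p).im (e1 p).1 (e1 p).2 (e2 p) (by
      rw [← hnn p]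
      exact_mod_cast hp.2)
    rw [← hnn p] at h3
    exact_mod_cast h3
  have hne : 1 ≤ (Finset.univ.filter (fun p => n p ≠ 0)).card := by
    rw [Nat.one_le_iff_ne_zero, Ne, Finset.card_eq_zero, Finset.filter_eq_empty_iff]
    intro h3
    have : ∑ p, n p = 0 := Finset.sum_eq_zero (fun p hp => by
      have := h3 hp
      simpa using this)
    omega
  obtain ⟨hc, hon, hoff⟩ := count_lemma n _ 8 1 (by norm_num) hS (by rw [hsum]) hne
  obtain ⟨p0, hp0⟩ := Finset.card_eq_one.1 hc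
  have hp0m : p0 ∈ Finset.univ.filter (fun p => n p ≠ 0) := by
    rw [hp0]
    exact Finset.mem_singleton_self p0
  have h8' : (x p0).re * (x p0).re + (x p0).im * (x p0).im = 8 := by
    rw [← hnn p0, hon p0 hp0m]
    rfl
  refine killlem3 x (comb (kill3.getD (pos p0) 0)) p0 (fun p hp => hzero p (hoff p ?_)) 
    (asm_G3 _ _ (e1 p0).1 (e1 p0).2 (e2 p0) h8') (kill3_ok p0) (H _)
  rw [hp0, Finset.mem_singleton]
  exact hp


/-! ### `ruLattice ≤ Lspan` and the final statements -/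

theorem asm_Bv_mem (k : ℕ) (hk : k < 56) : Bv k ∈ Lspan :=
  AddSubgroup.subset_closure ⟨k, hk, rfl⟩

theorem ruLattice_le : ruLattice ≤ Lspan := by
  refine sInf_le ⟨table_mem, fun v hv => ⟨?_, ?_, ?_, ?_, ?_⟩⟩
  · exact map_mem_Lspan (fun v => gI • v) (fun v w => smul_add gI v w) gI_mem v hv
  · exact map_mem_Lspan ruRj ruRj_add ruRj_mem v hv
  · exact map_mem_Lspan ruRk ruRk_add ruRk_mem v hv
  · exact map_mem_Lspan ruSign ruSign_add ruSign_mem v hv
  · exact map_mem_Lspan ruShift ruShift_add ruShift_mem v hv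

theorem asm_dvd (x : RuVec) (hx : x ∈ ruLattice) : (8 : ℤ) ∣ ruNorm x :=
  norm_dvd_of_mem (ruLattice_le hx)

theorem asm_ne8 (x : RuVec) (hx : x ∈ ruLattice) : ruNorm x ≠ 8 :=
  no_norm8 x (fun k hk => ip_dvd_of_mem (ruLattice_le hx) (asm_Bv_mem k hk))

theorem asm_norm_pos (x : RuVec) (hx : x ≠ 0) : 0 < ruNorm x := by
  have hnorm : ∀ p, (x p).norm = (x p).re * (x p).re + (x p).im * (x p).im := by
    intro p
    rw [Zsqrtd.norm_def]
    ring
  obtain ⟨p, hp⟩ := Function.ne_iff.1 hx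
  refine Finset.sum_pos' (fun q _ => ?_) ⟨p, Finset.mem_univ p, ?_⟩
  · rw [hnorm]
    exact add_nonneg (mul_self_nonneg _) (mul_self_nonneg _)
  · rw [hnorm]
    have h0 : 0 ≤ (x p).re * (x p).re + (x p).im * (x p).im :=
      add_nonneg (mul_self_nonneg _) (mul_self_nonneg _)
    rcases h0.lt_or_eq with h1 | h1
    · exact h1
    · exfalso
      obtain ⟨h2, h3⟩ := asm_G0 _ _ h1.symm
      exact hp (Zsqrtd.ext h2 h3)

theorem asm_ge16 (x : RuVec) (hx : x ∈ ruLattice) (hne : x ≠ 0) : 16 ≤ ruNorm x := by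
  obtain ⟨c, hc⟩ := asm_dvd x hx
  have h1 := asm_ne8 x hx
  have h2 := asm_norm_pos x hne
  omega

set_option maxRecDepth 100000 in
theorem asm_ex16 : ∃ x ∈ ruLattice, ruNorm x = 16 := by
  refine ⟨ruTable.getD 0 0, ?_, by decide +kernel⟩
  rw [ruLattice, AddSubgroup.mem_sInf]
  intro L hL
  exact hL.1 _ (by simp [ruTable])

end Cfsg.Agent.Lib.Helper4.Ru
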