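import Cfsg.Agent.Lib.Helper4.RuDefs

/-! # Ru hive (S1628): leaves RU-D0, RU-D1, RU-D2, RU-D3 — residues of the certificate vectors. -/

set_option autoImplicit false

namespace Cfsg.Agent.Lib.Helper4.Ru

open Cfsg.Spor

set_option maxRecDepth 100000

theorem d_chk0 : ∀ j ∈ List.range 19, ∀ p : RuIdx,
    (comb (chk0.getD j 0) p).re % 4 = (if p ∈ posSet (T0.getD j []) then 2 else 0) ∧
    (comb (chk0.getD j 0) p).im % 4 = (if p ∈ posSet (T0.getD j []) then 2 else 0) := by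
  decide +kernel

theorem d_kill0 : ∀ i ∈ List.range 21, ∀ q ∈ posSet (W0.getD i []),
    (pos q ≠ P0.getD i 0 → (comb (kill0.getD i 0) q).re % 4 = 0 ∧ (comb (kill0.getD i 0) q).im % 4 = 0) ∧
    (pos q = P0.getD i 0 → (comb (kill0.getD i 0) q).re % 4 = 2 ∧ (comb (kill0.getD i 0) q).im % 4 = 2) := by
  decide +kernel

theorem d_chk1 : ∀ j ∈ List.range 18, ∀ p : RuIdx,
    (comb (chk1.getD j 0) p).re % 2 = 0 ∧ (comb (chk1.getD j 0) p).im % 2 = 0 ∧
    ((comb (chk1.getD j 0) p).re + (comb (chk1.getD j 0) p).im) % 4 =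
      (if p ∈ posSet (T1.getD j []) then 2 else 0) := by
  decide +kernel

theorem d_kill1 : ∀ i ∈ List.range 7, ∀ q ∈ posSet (W1.getD i []),
    (comb (kill1.getD i 0) q).re % 2 = 0 ∧ (comb (kill1.getD i 0) q).im % 2 = 0 ∧
    ((comb (kill1.getD i 0) q).re + (comb (kill1.getD i 0) q).im) % 4 =
      (if pos q = P1.getD i 0 then 2 else 0) := by
  decide +kernel

theorem d_chk2 : ∀ j ∈ List.range 10, ∀ p : RuIdx,
    (comb (chk2.getD j 0) p).re % 2 = (if p ∈ posSet (T2.getD j []) then 1 else 0) ∧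
    (comb (chk2.getD j 0) p).im % 2 = (if p ∈ posSet (T2.getD j []) then 1 else 0) := by
  decide +kernel

/-- RU-D0 -/
theorem chk0_ok : ∀ j < 19, ∀ p : RuIdx,
    (comb (chk0.getD j 0) p).re % 4 = (if p ∈ posSet (T0.getD j []) then 2 else 0) ∧
    (comb (chk0.getD j 0) p).im % 4 = (if p ∈ posSet (T0.getD j []) then 2 else 0) :=
  fun j hj => d_chk0 j (List.mem_range.2 hj)

/-- RU-D0 -/
theorem kill0_ok : ∀ i < 21, ∀ q ∈ posSet (W0.getD i []),
    (pos q ≠ P0.getD i 0 → (comb (kill0.getD i 0) q).re % 4 = 0 ∧ (comb (kill0.getD i 0) q).im % 4 = 0) ∧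
    (pos q = P0.getD i 0 → (comb (kill0.getD i 0) q).re % 4 = 2 ∧ (comb (kill0.getD i 0) q).im % 4 = 2) :=
  fun i hi => d_kill0 i (List.mem_range.2 hi)

/-- RU-D1 -/
theorem chk1_ok : ∀ j < 18, ∀ p : RuIdx,
    (comb (chk1.getD j 0) p).re % 2 = 0 ∧ (comb (chk1.getD j 0) p).im % 2 = 0 ∧
    ((comb (chk1.getD j 0) p).re + (comb (chk1.getD j 0) p).im) % 4 =
      (if p ∈ posSet (T1.getD j []) then 2 else 0) :=
  fun j hj => d_chk1 j (List.mem_range.2 hj)

/-- RU-D1 -/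
theorem kill1_ok : ∀ i < 7, ∀ q ∈ posSet (W1.getD i []),
    (comb (kill1.getD i 0) q).re % 2 = 0 ∧ (comb (kill1.getD i 0) q).im % 2 = 0 ∧
    ((comb (kill1.getD i 0) q).re + (comb (kill1.getD i 0) q).im) % 4 =
      (if pos q = P1.getD i 0 then 2 else 0) :=
  fun i hi => d_kill1 i (List.mem_range.2 hi)

/-- RU-D2 -/
theorem chk2_ok : ∀ j < 10, ∀ p : RuIdx,
    (comb (chk2.getD j 0) p).re % 2 = (if p ∈ posSet (T2.getD j []) then 1 else 0) ∧
    (comb (chk2.getD j 0) p).im % 2 = (if p ∈ posSet (T2.getD j []) then 1 else 0) :=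
  fun j hj => d_chk2 j (List.mem_range.2 hj)

/-- RU-D3 -/
theorem kill3_ok : ∀ p : RuIdx,
    ((comb (kill3.getD (pos p) 0) p).re + (comb (kill3.getD (pos p) 0) p).im) % 2 = 1 := by
  decide +kernel

end Cfsg.Agent.Lib.Helper4.Ru
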