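import Mathlib
import Cfsg.Prelude.Def_Spor_Ru
import Cfsg.Agent.Lib.Helper4.RuData

/-!
# S1628 hive "Ru" (helper4): definitions

The Conway-Wales lattice `ruLattice` (as stored: `2 Λ ⊆ ℤ[i]²⁸`) is contained in the ℤ-span `Lspan` of the 56 explicit
vectors `vecN b`, `b ∈ Bcode`; on `Lspan` the real inner product `ip` is `0 mod 4` and the norm is `0 mod 8`; a vector of
norm `8` is excluded by a four-level parity argument modulo powers of `1 + i`.
-/

set_option autoImplicit false

namespace Cfsg.Agent.Lib.Helper4.Ru

open Cfsg.Spor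

/-- the position `4 n + t < 28` of the Gaussian coordinate `(n, t)` -/
def pos (p : RuIdx) : ℕ := 4 * p.1.val + p.2.val

/-- the `i`-th entry of a packed row: base `32` digits, shifted by `16` -/
def entry (N i : ℕ) : ℤ := ((Nat.shiftRight N (5 * i) % 32 : ℕ) : ℤ) - 16

/-- the vector with packed real coordinates `N` (`re` at `2 pos`, `im` at `2 pos + 1`) -/
def vecN (N : ℕ) : RuVec := fun p => ⟨entry N (2 * pos p), entry N (2 * pos p + 1)⟩

/-- integer multiple, coordinatewise (equal to `c • v`) -/
def sm (c : ℤ) (v : RuVec) : RuVec := fun p => ⟨c * (v p).re, c * (v p).im⟩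

/-- `f 0 + f 1 + ... + f (n - 1)` -/
def sumTo (n : ℕ) (f : ℕ → RuVec) : RuVec := Nat.rec (motive := fun _ => RuVec) 0 (fun k acc => acc + f k) n

/-- the `k`-th basis vector -/
def Bv (k : ℕ) : RuVec := vecN (Bcode.getD k 0)

/-- the combination of the basis with the packed coefficient row `C` -/
def comb (C : ℕ) : RuVec := sumTo 56 (fun k => sm (entry C k) (Bv k))

/-- the ℤ-span of the basis -/
def Lspan : AddSubgroup RuVec := AddSubgroup.closure {v | ∃ k < 56, v = Bv k}

/-- the real inner product -/
def ip (v w : RuVec) : ℤ := ∑ p, ((v p).re * (w p).re + (v p).im * (w p).im)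

/-- the set of Gaussian coordinates whose position lies in the list `l` -/
def posSet (l : List ℕ) : Finset RuIdx := Finset.univ.filter (fun p => pos p ∈ l)

end Cfsg.Agent.Lib.Helper4.Ru
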