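import Mathlib
import Cfsg.Agent.S3762
import Cfsg.Agent.Lib.Helper4.SympExtra

set_option autoImplicit false

namespace Cfsg.Agent.Lib.Helper4.LXS

open Cfsg Cfsg.Agent.Lib.Helper29

/-- two elements of order two in a finite cyclic group coincide -/
theorem unique_invol' {A : Type*} [Group A] [Finite A] [IsCyclic A] (a b : A)
    (ha : orderOf a = 2) (hb : orderOf b = 2) : a = b := by
  classical
  have : Fintype A := Fintype.ofFinite A
  have hdvd : 2 ∣ Fintype.card A := by
    rw [← ha]; exact orderOf_dvd_card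
  have h1 := IsCyclic.card_orderOf_eq_totient (α := A) hdvd
  rw [Nat.totient_two, Finset.card_eq_one] at h1
  obtain ⟨c, hc⟩ := h1
  have hac : a ∈ ({c} : Finset A) := by rw [← hc]; simp [ha]
  have hbc : b ∈ ({c} : Finset A) := by rw [← hc]; simp [hb]
  rw [Finset.mem_singleton] at hac hbc
  rw [hac, hbc]

theorem orderOf_two_of_sq {A : Type*} [Group A] {a : A} (h1 : a ≠ 1) (h2 : a * a = 1) :
    orderOf a = 2 := by
  have : a ^ 2 = 1 := by rw [pow_two]; exact h2
  exact orderOf_eq_prime this h1

section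

variable {T : Type*} [Group T] [Finite T]

/-- central involutions in a group of symplectic type -/
theorem symp_center_invol
    (hsymp : ∀ A : Subgroup T, A.Characteristic → IsMulCommutative A → IsCyclic A)
    {z : T} (hz : orderOf z = 2) (hzc : z ∈ Subgroup.center T) {c : T}
    (hc : c ∈ Subgroup.center T) (hcc : c * c = 1) : c = 1 ∨ c = z := by
  by_cases h1 : c = 1
  · exact Or.inl h1
  right
  have : IsCyclic ↥(Subgroup.center T) := hsymp _ inferInstance
    ⟨⟨fun a b => Subtype.ext (Subgroup.mem_center_iff.1 b.2 a.1)⟩⟩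
  have e := unique_invol' (A := ↥(Subgroup.center T)) ⟨c, hc⟩ ⟨z, hzc⟩
    (by rw [Subgroup.orderOf_mk]; exact orderOf_two_of_sq h1 hcc)
    (by rw [Subgroup.orderOf_mk]; exact hz)
  exact congrArg Subtype.val e

/-- commutators and squares in a `2`-group of symplectic type of exponent dividing `4`. -/
theorem symp_comm_sq (hP : IsPGroup 2 T)
    (hsymp : ∀ A : Subgroup T, A.Characteristic → IsMulCommutative A → IsCyclic A)
    (h4 : ∀ q : T, q ^ 4 = 1) {z : T} (hz : orderOf z = 2) (hzc : z ∈ Subgroup.center T) :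
    (∀ a b : T, a * b * a⁻¹ * b⁻¹ = 1 ∨ a * b * a⁻¹ * b⁻¹ = z) ∧
      (∀ a : T, a * a = 1 ∨ a * a = z) := by
  have : Fact (Nat.Prime 2) := ⟨Nat.prime_two⟩
  obtain ⟨E, R, hER, hsup, hE, hR⟩ := Cfsg.Agent.S3762.result (p := 2) hP hsymp
  have hzz : z * z = 1 := by
    have := pow_orderOf_eq_one z
    rwa [hz, pow_two] at this
  -- exponent 4 kills the non-cyclic possibilities for R
  have hord : ∀ x : T, orderOf x ∣ 4 := fun x => orderOf_dvd_of_pow_eq_one (h4 x)
  have hRc : IsCyclic ↥R := by
    rcases hR with h | ⟨-, hcard, h | h | h⟩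
    · exact h
    · exfalso
      obtain ⟨m, ⟨e⟩⟩ := h
      have hc : Nat.card ↥R = 2 * m := by rw [Nat.card_congr e.toEquiv, DihedralGroup.nat_card]
      have h1 : orderOf ((e.symm (DihedralGroup.r 1) : ↥R) : T) = m := by
        rw [Subgroup.orderOf_coe, MulEquiv.orderOf_eq, DihedralGroup.orderOf_r_one]
      have h2 := hord ((e.symm (DihedralGroup.r 1) : ↥R) : T)
      rw [h1] at h2
      have := Nat.le_of_dvd (by norm_num) h2
      omega
    · exfalso
      obtain ⟨m, ⟨e⟩⟩ := h
      have h1 : orderOf ((e.symm (QuaternionGroup.a 1) : ↥R) : T) = 2 * m := by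
        rw [Subgroup.orderOf_coe, MulEquiv.orderOf_eq, QuaternionGroup.orderOf_a_one]
      have h2 := hord ((e.symm (QuaternionGroup.a 1) : ↥R) : T)
      rw [h1] at h2
      have h3 := Nat.le_of_dvd (by norm_num) h2
      rcases Nat.eq_zero_or_pos m with h0 | h0
      · rw [h0] at h2; simp at h2
      · have : NeZero m := ⟨by omega⟩
        have hc : Nat.card ↥R = 4 * m := by
          rw [Nat.card_congr e.toEquiv, Nat.card_eq_fintype_card, QuaternionGroup.card]
        omega
    · exfalso
      obtain ⟨n, hn, -, x, -, hx, -, -⟩ := h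
      have h2 := hord (x : T)
      rw [Subgroup.orderOf_coe, hx] at h2
      have h3 := Nat.le_of_dvd (by norm_num) h2
      have : 2 ^ 3 ≤ 2 ^ n := Nat.pow_le_pow_right (by norm_num) hn
      omega
  -- R is central
  have hRab : ∀ r ∈ R, ∀ r' ∈ R, r * r' = r' * r := by
    intro r hr r' hr'
    have := (IsCyclic.commGroup (α := ↥R)).mul_comm ⟨r, hr⟩ ⟨r', hr'⟩
    exact congrArg Subtype.val this
  -- decomposition
  have hdec : ∀ t : T, ∃ e ∈ E, ∃ r ∈ R, t = e * r := by
    intro t
    have ht : t ∈ E ⊔ R := by rw [hsup]; trivial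
    rw [← Subgroup.closure_eq E, ← Subgroup.closure_eq R, ← Subgroup.closure_union] at ht
    refine Subgroup.closure_induction (p := fun t _ => ∃ e ∈ E, ∃ r ∈ R, t = e * r) ?_ ?_ ?_ ?_ ht
    · intro x hx
      rcases hx with hx | hx
      · exact ⟨x, hx, 1, R.one_mem, (mul_one x).symm⟩
      · exact ⟨1, E.one_mem, x, hx, (one_mul x).symm⟩
    · exact ⟨1, E.one_mem, 1, R.one_mem, (mul_one 1).symm⟩
    · rintro x y _ _ ⟨e, he, r, hr, rfl⟩ ⟨e', he', r', hr', rfl⟩
      refine ⟨e * e', E.mul_mem he he', r * r', R.mul_mem hr hr', ?_⟩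
      calc e * r * (e' * r') = e * (r * e') * r' := by group
        _ = e * (e' * r) * r' := by rw [hER e' he' r hr]
        _ = e * e' * (r * r') := by group
    · rintro x _ ⟨e, he, r, hr, rfl⟩
      refine ⟨e⁻¹, E.inv_mem he, r⁻¹, R.inv_mem hr, ?_⟩
      calc (e * r)⁻¹ = r⁻¹ * e⁻¹ := by group
        _ = e⁻¹ * r⁻¹ := by rw [hER e⁻¹ (E.inv_mem he) r⁻¹ (R.inv_mem hr)]
  have hRcen : ∀ r ∈ R, r ∈ Subgroup.center T := by
    intro r hr
    rw [Subgroup.mem_center_iff]
    intro t
    obtain ⟨e, he, r', hr', rfl⟩ := hdec t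
    calc e * r' * r = e * (r' * r) := by group
      _ = e * (r * r') := by rw [hRab r' hr' r hr]
      _ = (e * r) * r' := by group
      _ = (r * e) * r' := by rw [hER e he r hr]
      _ = r * (e * r') := by group
  have hRsq : ∀ r ∈ R, r * r = 1 ∨ r * r = z := by
    intro r hr
    apply symp_center_invol hsymp hz hzc (Subgroup.mul_mem _ (hRcen r hr) (hRcen r hr))
    have := h4 r
    calc r * r * (r * r) = r ^ 4 := by simp [pow_succ, mul_assoc]
      _ = 1 := this
  -- the E part
  have hEprop : (∀ a ∈ E, ∀ b ∈ E, a * b * a⁻¹ * b⁻¹ = 1 ∨ a * b * a⁻¹ * b⁻¹ = z) ∧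
      (∀ a ∈ E, a * a = 1 ∨ a * a = z) := by
    rcases hE with hE | hE
    · subst hE
      constructor
      · intro a ha b hb
        rw [Subgroup.mem_bot] at ha hb
        subst ha; subst hb
        left; group
      · intro a ha
        rw [Subgroup.mem_bot] at ha
        subst ha
        left; group
    · obtain ⟨⟨_, _, hcomm⟩, hc⟩ := hE
      obtain ⟨z', hz'⟩ := IsE2.exists_of_card hc hcomm.le
      -- z' = z
      have hz'c : (z' : T) ∈ Subgroup.center T := by
        rw [Subgroup.mem_center_iff]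
        intro t
        obtain ⟨e, he, r, hr, rfl⟩ := hdec t
        have h1 : (⟨e, he⟩ : ↥E) * z' = z' * ⟨e, he⟩ := hz'.zcomm ⟨e, he⟩
        have h1' : e * (z' : T) = (z' : T) * e := congrArg Subtype.val h1
        calc e * r * (z' : T) = e * (r * (z' : T)) := by group
          _ = e * ((z' : T) * r) := by rw [← hER (z' : T) z'.2 r hr]
          _ = (e * (z' : T)) * r := by group
          _ = ((z' : T) * e) * r := by rw [h1']
          _ = (z' : T) * (e * r) := by group
      have hz'sq : (z' : T) * (z' : T) = 1 := congrArg Subtype.val hz'.sq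
      have hzz' : (z' : T) = z := by
        rcases symp_center_invol hsymp hz hzc hz'c hz'sq with h | h
        · exact absurd (Subtype.ext h) hz'.ne
        · exact h
      constructor
      · intro a ha b hb
        rcases hz'.cm_cases ⟨a, ha⟩ ⟨b, hb⟩ with h | h
        · left; exact congrArg Subtype.val h
        · right; rw [← hzz']; exact congrArg Subtype.val h
      · intro a ha
        rcases hz'.sq_cases ⟨a, ha⟩ with h | h
        · left; exact congrArg Subtype.val h
        · right; rw [← hzz']; exact congrArg Subtype.val h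
  constructor
  · intro a b
    obtain ⟨e, he, r, hr, rfl⟩ := hdec a
    obtain ⟨e', he', r', hr', rfl⟩ := hdec b
    have c1 := Subgroup.mem_center_iff.1 (hRcen r hr)
    have c2 := Subgroup.mem_center_iff.1 (hRcen r' hr')
    have : e * r * (e' * r') * (e * r)⁻¹ * (e' * r')⁻¹ = e * e' * e⁻¹ * e'⁻¹ := by
      have e1 : e * r * (e' * r') = (e * e') * (r * r') := by
        calc e * r * (e' * r') = e * (r * e') * r' := by group
          _ = e * (e' * r) * r' := by rw [← c1 e']
          _ = (e * e') * (r * r') := by group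
      have e2 : (e * r)⁻¹ * (e' * r')⁻¹ = (r * r')⁻¹ * (e⁻¹ * e'⁻¹) := by
        have : (e' * r') * (e * r) = (e' * e) * (r * r') := by
          calc (e' * r') * (e * r) = e' * (r' * e) * r := by group
            _ = e' * (e * r') * r := by rw [← c2 e]
            _ = (e' * e) * (r' * r) := by group
            _ = (e' * e) * (r * r') := by rw [hRab r' hr' r hr]
        calc (e * r)⁻¹ * (e' * r')⁻¹ = ((e' * r') * (e * r))⁻¹ := by group
          _ = ((e' * e) * (r * r'))⁻¹ := by rw [this]
          _ = (r * r')⁻¹ * (e⁻¹ * e'⁻¹) := by group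
      have c3 := Subgroup.mem_center_iff.1 (Subgroup.mul_mem _ (hRcen r hr) (hRcen r' hr'))
      calc e * r * (e' * r') * (e * r)⁻¹ * (e' * r')⁻¹
          = (e * r * (e' * r')) * ((e * r)⁻¹ * (e' * r')⁻¹) := by group
        _ = (e * e') * (r * r') * ((r * r')⁻¹ * (e⁻¹ * e'⁻¹)) := by rw [e1, e2]
        _ = e * e' * e⁻¹ * e'⁻¹ := by group
    rw [this]
    exact hEprop.1 e he e' he'
  · intro a
    obtain ⟨e, he, r, hr, rfl⟩ := hdec a
    have : e * r * (e * r) = (e * e) * (r * r) := mul_sq_of_comm (hER e he r hr)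
    rw [this]
    rcases hEprop.2 e he with h1 | h1 <;> rcases hRsq r hr with h2 | h2 <;> rw [h1, h2]
    · left; group
    · right; group
    · right; group
    · left; exact hzz

end

end Cfsg.Agent.Lib.Helper4.LXS
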