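import Mathlib
import Cfsg.Agent.Lib.Helper4.SympExtra2
import Cfsg.Agent.Lib.Helper4.LargeExtraP4
import Cfsg.Agent.Lib.Helper22.FStar

set_option autoImplicit false

namespace Cfsg.Agent.Lib.Helper4.LXS

open Cfsg Cfsg.Agent.Lib.Helper4.LXF

variable {G : Type*} [Group G]

/-- elements of the subgroup generated by two commuting involutions -/
theorem mem_closure_pair {z1 z2 : G} (s1 : z1 * z1 = 1) (s2 : z2 * z2 = 1)
    (hc : z1 * z2 = z2 * z1) {v : G} (hv : v ∈ Subgroup.closure ({z1, z2} : Set G)) :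
    v = 1 ∨ v = z1 ∨ v = z2 ∨ v = z1 * z2 := by
  have i1 : z1⁻¹ = z1 := inv_eq_of_mul_eq_one_right s1
  have i2 : z2⁻¹ = z2 := inv_eq_of_mul_eq_one_right s2
  have step : ∀ x : G, (x = 1 ∨ x = z1 ∨ x = z2 ∨ x = z1 * z2) → ∀ y ∈ ({z1, z2} : Set G),
      (x * y = 1 ∨ x * y = z1 ∨ x * y = z2 ∨ x * y = z1 * z2) := by
    intro x hx y hy
    have hy' : y = z1 ∨ y = z2 := by simpa using hy
    rcases hy' with hy' | hy' <;> rw [hy']
    · rcases hx with hx | hx | hx | hx <;> rw [hx]
      · right; left; group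
      · left; exact s1
      · right; right; right; exact hc.symm
      · right; right; left
        calc z1 * z2 * z1 = z1 * (z2 * z1) := by group
          _ = z1 * (z1 * z2) := by rw [hc]
          _ = (z1 * z1) * z2 := by group
          _ = z2 := by rw [s1]; group
    · rcases hx with hx | hx | hx | hx <;> rw [hx]
      · right; right; left; group
      · right; right; right; rfl
      · left; exact s2
      · right; left
        calc z1 * z2 * z2 = z1 * (z2 * z2) := by group
          _ = z1 := by rw [s2]; group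
  refine Subgroup.closure_induction_right (p := fun x _ => x = 1 ∨ x = z1 ∨ x = z2 ∨ x = z1 * z2)
    (Or.inl rfl) (fun x _ y hy ih => step x ih y hy) (fun x _ y hy ih => ?_) hv
  have : y⁻¹ = y := by
    have hy' : y = z1 ∨ y = z2 := by simpa using hy
    rcases hy' with hy' | hy' <;> rw [hy']
    · exact i1
    · exact i2
  rw [this]
  exact step x ih y hy

/-- two "transvections" generate the full symmetric group on the three involutions -/
theorem exists_perm_of_trans {z1 z2 q1 q2 : G} (s1 : z1 * z1 = 1) (s2 : z2 * z2 = 1)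
    (hc : z1 * z2 = z2 * z1) (hne : z1 ≠ z2) (h1 : z1 ≠ 1) (h2 : z2 ≠ 1)
    (a1 : Cj q1 z1 z1) (a2 : Cj q1 z2 (z1 * z2)) (b1 : Cj q2 z1 (z1 * z2)) (b2 : Cj q2 z2 z2)
    (X : Subgroup G) (hq1 : q1 ∈ X) (hq2 : q2 ∈ X)
    {u v : G} (hu : u ∈ Subgroup.closure ({z1, z2} : Set G))
    (hv : v ∈ Subgroup.closure ({z1, z2} : Set G)) (hu1 : u ≠ 1) (hv1 : v ≠ 1) (huv : u ≠ v) :
    ∃ x ∈ X, x * z1 * x⁻¹ = u ∧ x * z2 * x⁻¹ = v := by
  have e3 : z1 * (z1 * z2) = z2 := by
    calc z1 * (z1 * z2) = (z1 * z1) * z2 := by group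
      _ = z2 := by rw [s1, one_mul]
  have e4 : (z1 * z2) * z2 = z1 := by
    calc (z1 * z2) * z2 = z1 * (z2 * z2) := by group
      _ = z1 := by rw [s2, mul_one]
  -- images of z1 z2
  have a3 : Cj q1 (z1 * z2) z2 := by
    have := a1.prod a2
    rwa [e3] at this
  have b3 : Cj q2 (z1 * z2) z1 := by
    have := b1.prod b2
    rwa [e4] at this
  rcases mem_closure_pair s1 s2 hc hu with rfl | rfl | rfl | rfl
  · exact absurd rfl hu1
  · rcases mem_closure_pair s1 s2 hc hv with rfl | rfl | rfl | rfl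
    · exact absurd rfl hv1
    · exact absurd rfl huv
    · exact ⟨1, X.one_mem, by group, by group⟩
    · exact ⟨q1, hq1, a1, a2⟩
  · rcases mem_closure_pair s1 s2 hc hv with rfl | rfl | rfl | rfl
    · exact absurd rfl hv1
    · -- z1 ↦ z2, z2 ↦ z1 : q1 q2 q1
      refine ⟨q1 * q2 * q1, X.mul_mem (X.mul_mem hq1 hq2) hq1, ?_, ?_⟩
      · have := (a1.mul b1).mul a3
        have e : q1 * (q2 * q1) = q1 * q2 * q1 := by group
        rw [e] at this
        exact this
      · have := (a2.mul b3).mul a1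
        have e : q1 * (q2 * q1) = q1 * q2 * q1 := by group
        rw [e] at this
        exact this
    · exact absurd rfl huv
    · -- z1 ↦ z2, z2 ↦ z1 z2 : q1 q2
      exact ⟨q1 * q2, X.mul_mem hq1 hq2, b1.mul a3, b2.mul a2⟩
  · rcases mem_closure_pair s1 s2 hc hv with rfl | rfl | rfl | rfl
    · exact absurd rfl hv1
    · -- z1 ↦ z1 z2, z2 ↦ z1 : q2 q1
      exact ⟨q2 * q1, X.mul_mem hq2 hq1, a1.mul b1, a2.mul b3⟩
    · exact ⟨q2, hq2, b1, b2⟩
    · exact absurd rfl huv

end Cfsg.Agent.Lib.Helper4.LXS
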