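import Mathlib
import Cfsg.Agent.Lib.Helper4.SympExtra3
import Cfsg.Prelude.Def_ClassificationK

set_option autoImplicit false

namespace Cfsg.Agent.Lib.Helper4.LXS

open Cfsg Cfsg.Agent.Lib.Helper4.LXF

variable {G : Type*} [Group G] [Finite G]

theorem setup_of_fstar (z : G) (hz : orderOf z = 2)
    (hQ : Cfsg.IsOfSymplecticType
      ↥(Cfsg.generalizedFittingSubgroup ↥(Subgroup.centralizer ({z} : Set G))))
    (h4 : ∀ q ∈ (Cfsg.generalizedFittingSubgroup ↥(Subgroup.centralizer ({z} : Set G))).map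
      (Subgroup.centralizer ({z} : Set G)).subtype, q ^ 4 = 1) :
    Subgroup.centralizer ({z} : Set G) ≤ Subgroup.normalizer
      (((Cfsg.generalizedFittingSubgroup ↥(Subgroup.centralizer ({z} : Set G))).map
        (Subgroup.centralizer ({z} : Set G)).subtype : Subgroup G) : Set G) ∧
    (∀ q ∈ (Cfsg.generalizedFittingSubgroup ↥(Subgroup.centralizer ({z} : Set G))).map
      (Subgroup.centralizer ({z} : Set G)).subtype, q * z = z * q) ∧
    LS (famOf ((Cfsg.generalizedFittingSubgroup ↥(Subgroup.centralizer ({z} : Set G))).map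
      (Subgroup.centralizer ({z} : Set G)).subtype) z) z := by
  set C := Subgroup.centralizer ({z} : Set G) with hC
  set F := Cfsg.generalizedFittingSubgroup ↥C with hF
  set Q0 := F.map C.subtype with hQ0
  have hFn : F.Normal := Cfsg.Agent.Lib.Helper22.generalizedFittingSubgroup_normal ↥C
  have hCF : Subgroup.centralizer (F : Set ↥C) ≤ F :=
    Cfsg.Agent.Lib.Helper22.centralizer_generalizedFitting_le ↥C
  have memC : ∀ c : G, c ∈ C ↔ c * z = z * c := fun c => Subgroup.mem_centralizer_singleton_iff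
  -- normalizer
  have hN : C ≤ Subgroup.normalizer (Q0 : Set G) := by
    have key : ∀ c ∈ C, ∀ x ∈ Q0, c * x * c⁻¹ ∈ Q0 := by
      rintro c hc _ ⟨f, hf, rfl⟩
      exact ⟨(⟨c, hc⟩ : ↥C) * f * (⟨c, hc⟩ : ↥C)⁻¹, hFn.conj_mem f hf _, rfl⟩
    intro c hc
    rw [Subgroup.mem_normalizer_iff]
    intro x
    constructor
    · exact key c hc x
    · intro h
      have := key c⁻¹ (C.inv_mem hc) _ h
      have e : c⁻¹ * (c * x * c⁻¹) * c⁻¹⁻¹ = x := by group
      rwa [e] at this
  have hQz : ∀ q ∈ Q0, q * z = z * q := by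
    rintro _ ⟨f, -, rfl⟩
    exact (memC _).1 f.2
  refine ⟨hN, hQz, ?_⟩
  have hself : famOf Q0 z z = Q0 := famOf_self Q0 z hN
  have hz1 : z ≠ 1 := by
    intro h; rw [h, orderOf_one] at hz; omega
  have hzz : z * z = 1 := by
    have := pow_orderOf_eq_one z
    rwa [hz, pow_two] at this
  -- z as an element of C and of F
  have hzC : z ∈ C := (memC z).2 rfl
  have hzcen : (⟨z, hzC⟩ : ↥C) ∈ Subgroup.center ↥C := by
    rw [Subgroup.mem_center_iff]
    intro c
    apply Subtype.ext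
    exact (memC _).1 c.2
  have hzF : (⟨z, hzC⟩ : ↥C) ∈ F := by
    apply hCF
    rw [Subgroup.mem_centralizer_iff]
    intro f _
    exact Subgroup.mem_center_iff.1 hzcen f
  have hzQ0 : z ∈ Q0 := ⟨⟨z, hzC⟩, hzF, rfl⟩
  set zF : ↥F := ⟨⟨z, hzC⟩, hzF⟩ with hzFdef
  have hzFord : orderOf zF = 2 := by
    rw [hzFdef, Subgroup.orderOf_mk, Subgroup.orderOf_mk]; exact hz
  have hzFcen : zF ∈ Subgroup.center ↥F := by
    rw [Subgroup.mem_center_iff]
    intro f
    apply Subtype.ext
    exact Subgroup.mem_center_iff.1 hzcen (f : ↥C)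
  have h4' : ∀ q : ↥F, q ^ 4 = 1 := by
    intro q
    apply Subtype.ext
    apply Subtype.ext
    have := h4 ((q : ↥C) : G) ⟨(q : ↥C), q.2, rfl⟩
    simpa using this
  obtain ⟨hcomm, hsqr⟩ := symp_comm_sq hQ.1 hQ.2 h4' hzFord hzFcen
  have val : ∀ q ∈ Q0, ∃ f : ↥F, ((f : ↥C) : G) = q := by
    rintro _ ⟨f, hf, rfl⟩
    exact ⟨⟨f, hf⟩, rfl⟩
  refine ⟨hz1, hzz, by rw [hself]; exact hzQ0, ?_, ?_, ?_⟩
  · intro a ha b hb
    rw [hself] at ha hb
    obtain ⟨a', rfl⟩ := val a ha
    obtain ⟨b', rfl⟩ := val b hb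
    rcases hcomm a' b' with h | h
    · left
      have := congrArg (fun x : ↥F => ((x : ↥C) : G)) h
      simpa using this
    · right
      have := congrArg (fun x : ↥F => ((x : ↥C) : G)) h
      simpa [hzFdef] using this
  · intro a ha
    rw [hself] at ha
    obtain ⟨a', rfl⟩ := val a ha
    rcases hsqr a' with h | h
    · left
      have := congrArg (fun x : ↥F => ((x : ↥C) : G)) h
      simpa using this
    · right
      have := congrArg (fun x : ↥F => ((x : ↥C) : G)) h
      simpa [hzFdef] using this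
  · intro a ha
    rw [hself] at ha ⊢
    have haC : a ∈ C := (memC a).2 (ha z hzQ0)
    have haF : (⟨a, haC⟩ : ↥C) ∈ F := by
      apply hCF
      rw [Subgroup.mem_centralizer_iff]
      intro f hf
      apply Subtype.ext
      exact (ha (f : G) ⟨f, hf, rfl⟩).symm
    refine ⟨⟨⟨a, haC⟩, haF, rfl⟩, ?_⟩
    intro haa
    have hcen : (⟨⟨a, haC⟩, haF⟩ : ↥F) ∈ Subgroup.center ↥F := by
      rw [Subgroup.mem_center_iff]
      intro f
      apply Subtype.ext
      apply Subtype.ext
      exact (ha ((f : ↥C) : G) ⟨(f : ↥C), f.2, rfl⟩).symm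
    have hsq : (⟨⟨a, haC⟩, haF⟩ : ↥F) * ⟨⟨a, haC⟩, haF⟩ = 1 := by
      apply Subtype.ext
      apply Subtype.ext
      exact haa
    rcases symp_center_invol hQ.2 hzFord hzFcen hcen hsq with h | h
    · left
      have := congrArg (fun x : ↥F => ((x : ↥C) : G)) h
      simpa using this
    · right
      have := congrArg (fun x : ↥F => ((x : ↥C) : G)) h
      simpa [hzFdef] using this

end Cfsg.Agent.Lib.Helper4.LXS
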