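import Mathlib
import Cfsg.Prelude.Def_GeometricClasses
import Cfsg.Agent.Lib.Helper44.UfDefs

set_option autoImplicit false
open scoped MatrixGroups
open Matrix

/-! S5982 hive (helper44), leaf UF-X1 (helper4): an element of order `r` of `SL_n(q)` supported on `i` coordinates -/

namespace Cfsg.Agent.Lib.Helper44.Uf

universe v

variable {F : Type v} [Field F]

/-- the index equivalence of the block embedding -/
def x1_equiv {i n : ℕ} (hin : i ≤ n) : Fin i ⊕ Fin (n - i) ≃ Fin n :=
  (finSumFinEquiv (m := i) (n := n - i)).trans (finCongr (by omega))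

/-- block embedding `A ↦ diag(A, 1)` as a monoid homomorphism -/
noncomputable def x1_emb {i n : ℕ} (hin : i ≤ n) :
    Matrix (Fin i) (Fin i) F →* Matrix (Fin n) (Fin n) F where
  toFun A := Matrix.reindexAlgEquiv F F (x1_equiv hin)
      (Matrix.fromBlocks A 0 0 (1 : Matrix (Fin (n - i)) (Fin (n - i)) F))
  map_one' := by rw [Matrix.fromBlocks_one, map_one]
  map_mul' A B := by
    rw [← map_mul, Matrix.fromBlocks_multiply]
    simp

theorem x1_emb_apply {i n : ℕ} (hin : i ≤ n) (A : Matrix (Fin i) (Fin i) F) :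
    x1_emb (F := F) hin A = Matrix.reindexAlgEquiv F F (x1_equiv hin)
      (Matrix.fromBlocks A 0 0 (1 : Matrix (Fin (n - i)) (Fin (n - i)) F)) := rfl

theorem x1_emb_det {i n : ℕ} (hin : i ≤ n) (A : Matrix (Fin i) (Fin i) F) :
    (x1_emb (F := F) hin A).det = A.det := by
  rw [x1_emb_apply, Matrix.det_reindexAlgEquiv, Matrix.det_fromBlocks_zero₂₁, Matrix.det_one, mul_one]

theorem x1_emb_injective {i n : ℕ} (hin : i ≤ n) : Function.Injective (x1_emb (F := F) hin) := by
  intro A B hAB
  rw [x1_emb_apply, x1_emb_apply] at hAB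
  have h := (Matrix.reindexAlgEquiv F F (x1_equiv hin)).injective hAB
  exact (Matrix.fromBlocks_inj.mp h).1

theorem x1_emb_sub_one_rank {i n : ℕ} (hin : i ≤ n) (A : Matrix (Fin i) (Fin i) F) :
    (x1_emb (F := F) hin A - 1).rank ≤ i := by
  have h1 : x1_emb (F := F) hin A - 1 = Matrix.reindexAlgEquiv F F (x1_equiv hin)
      (Matrix.fromBlocks A 0 0 (1 : Matrix (Fin (n - i)) (Fin (n - i)) F) - 1) := by
    rw [map_sub, map_one, x1_emb_apply]
  have h2 : Matrix.fromBlocks A (0 : Matrix (Fin i) (Fin (n - i)) F)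
      (0 : Matrix (Fin (n - i)) (Fin i) F) (1 : Matrix (Fin (n - i)) (Fin (n - i)) F) - 1 =
      Matrix.fromRows (A - 1) (0 : Matrix (Fin (n - i)) (Fin i) F) *
        Matrix.fromCols (1 : Matrix (Fin i) (Fin i) F) (0 : Matrix (Fin i) (Fin (n - i)) F) := by
    rw [Matrix.fromRows_mul_fromCols]
    ext (a | a) (b | b) <;> simp [Matrix.one_apply]
  rw [h1, Matrix.coe_reindexAlgEquiv, Matrix.rank_reindex, h2]
  refine le_trans (Matrix.rank_mul_le_left _ _) ?_
  refine le_trans (Matrix.rank_le_card_width _) ?_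
  simp

/-- UF-X1 : an element of order `r` of `SL_n(q)` supported on `i` coordinates -/
theorem exists_small_support [Fintype F] {n : ℕ} (r i : ℕ) (hr : r.Prime) (hi1 : 1 ≤ i) (hin : i ≤ n)
    (hri : r ∣ Fintype.card F ^ i - 1) (hr1 : ¬ r ∣ Fintype.card F - 1) :
    ∃ x : GL (Fin n) F, x ∈ Cfsg.Geo.specialLinear (Fin n) F ∧ x ^ r = 1 ∧ x ≠ 1 ∧
      ((x : Matrix (Fin n) (Fin n) F) - 1).rank ≤ i := by
  classical
  have : Fact r.Prime := ⟨hr⟩
  -- Cauchy in `GL_i(F)`
  have hcard : r ∣ Nat.card (GL (Fin i) F) := by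
    rw [Matrix.card_GL_field]
    have hmem : (⟨0, hi1⟩ : Fin i) ∈ (Finset.univ : Finset (Fin i)) := Finset.mem_univ _
    refine dvd_trans ?_ (Finset.dvd_prod_of_mem _ hmem)
    simpa using hri
  obtain ⟨y, hy⟩ := exists_prime_orderOf_dvd_card' r hcard
  have hyr : y ^ r = 1 := by rw [← hy]; exact pow_orderOf_eq_one y
  have hy1 : y ≠ 1 := by
    intro h
    rw [h, orderOf_one] at hy
    exact hr.one_lt.ne hy
  -- `det y = 1`
  have hdet : Matrix.GeneralLinearGroup.det y = 1 := by
    have h1 : (Matrix.GeneralLinearGroup.det y) ^ r = 1 := by rw [← map_pow, hyr, map_one]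
    have h2 : orderOf (Matrix.GeneralLinearGroup.det y) ∣ r := orderOf_dvd_of_pow_eq_one h1
    have h3 : orderOf (Matrix.GeneralLinearGroup.det y) ∣ Fintype.card F - 1 := by
      have := orderOf_dvd_card (x := Matrix.GeneralLinearGroup.det y)
      rwa [Fintype.card_units] at this
    rcases (Nat.dvd_prime hr).mp h2 with h | h
    · exact orderOf_eq_one_iff.mp h
    · exact absurd (h ▸ h3) hr1
  have hdet' : (y : Matrix (Fin i) (Fin i) F).det = 1 := by
    have := congrArg Units.val hdet
    simpa using this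
  refine ⟨Units.map (x1_emb (F := F) hin) y, ?_, ?_, ?_, ?_⟩
  · show Units.map (x1_emb (F := F) hin) y ∈ (Matrix.GeneralLinearGroup.det : GL (Fin n) F →* Fˣ).ker
    rw [MonoidHom.mem_ker]
    apply Units.ext
    show (x1_emb (F := F) hin (y : Matrix (Fin i) (Fin i) F)).det = 1
    rw [x1_emb_det, hdet']
  · rw [← map_pow, hyr, map_one]
  · intro h
    apply hy1
    apply Units.ext
    have := congrArg Units.val h
    simp only [Units.coe_map, Units.val_one] at this
    have h1 : x1_emb (F := F) hin (y : Matrix (Fin i) (Fin i) F) = x1_emb (F := F) hin 1 := by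
      rw [map_one]; exact this
    exact x1_emb_injective hin h1
  · exact x1_emb_sub_one_rank hin _

end Cfsg.Agent.Lib.Helper44.Uf
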